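import Mathlib
import Cfsg.Agent.H105.Rl.CycV_m3
import Cfsg.Agent.H105.SzU2_m3
import Cfsg.Agent.ClassicalGeometry.OrthDickson
import Cfsg.Agent.H721.SR.Base
import Cfsg.Agent.LieClassical.OrthForms
import Cfsg.Agent.Lib.Zsigmondy
import Cfsg.Agent.S0293
import Cfsg.Agent.S0294
import Cfsg.Agent.H721.SR.Orth
import Cfsg.Agent.H160.QSemi
import Cfsg.Agent.H959.JordanModel
import Cfsg.Agent.H160.QUpper
import Cfsg.Agent.FooteOrth.Rows
import Cfsg.Agent.LieClassical.OrthFinite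
import Cfsg.Agent.SuzukiRankOne.SLTwoRel
import Cfsg.Agent.TriTwo.PFacts_m3
import Cfsg.Agent.HexModel.Main_m3
import Cfsg.Agent.H967.CopSec
import Cfsg.Agent.H129.TorusUntw
import Cfsg.Agent.BpExc.NChev
import Cfsg.Agent.BpExc.FixRel
import Cfsg.Agent.Nodes.Unique
import Cfsg.Agent.H720.RowsNeg_m3
import Cfsg.Agent.BpExc.Tow
import Cfsg.Agent.Nodes.CardSup_m3
import Cfsg.Agent.Nodes.SimplyLaced
import Cfsg.Agent.Lib.FinFast
import Cfsg.Agent.H165.RV.HexLin
import Cfsg.Agent.Cit.HexD4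
import Cfsg.Agent.Cit.HexG2
import Cfsg.Agent.S0241
import Cfsg.Agent.H588.UnfLie
import Cfsg.Prelude.Def_Classical
import Cfsg.Agent.ClassicalGeometry.SympInvolutions
import Cfsg.Agent.H304.PpdForm
import Cfsg.Agent.H392.UG.Base
import Cfsg.Agent.H264.FKS.ResCore
import Cfsg.Agent.S0822
import Cfsg.Agent.KFacts.TwF4.TorFix
import Cfsg.Agent.H127.TwFInv
import Cfsg.Agent.H129.TorusChar
import Cfsg.Agent.FastGrp
import Cfsg.Agent.Prune
set_option linter.all false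

section
prune_inst 0x7fbcadfaabb827dfdfff7e7ff698cffc19911fffa6dff943bfe021ef0b9f030009452b8589e010fc0ec2621410b87853fb7eeeffe06bd87ffffd1ff41ffbee0fb5e7b508519080240f300ffe03f0678a7f3fffffffffffffffffffffffffffbeffbdffffffff

-- part: H105/Rl/Grp
section
set_option linter.all false
open scoped Cfsg.Agent.FastGrp

/-!
# Non-real elements of `PΩ_{2m}`, `m` odd (helper105, SR-OTOR of S4971)
-/

set_option autoImplicit false

namespace Cfsg.Agent.H105.Rl

open Module Subgroup QuadraticMap Cfsg.Agent.H105.Dp Cfsg.Agent.LieClassical.OrthCore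
  Cfsg.Agent.LieClassical.OrthTrans Cfsg.Agent.LieClassical.OrthFinite Cfsg.Agent.LieClassical.OrthSimple
  Cfsg.Agent.H105.Sz

section fix

variable {ι : Type} [Fintype ι] [DecidableEq ι] {F : Type*} [Field F]

theorem even_fix (Q : QuadraticForm F (ι → F)) (hG : Good Q) (hc : Fintype.card ι ≠ 4)
    {h : (ι → F) ≃ₗ[F] (ι → F)} (hh : h ∈ E Q) :
    Even (finrank F (LinearMap.ker ((h : (ι → F) →ₗ[F] (ι → F)) - 1)) + Fintype.card ι) := by
  have hnd : (polarBilin Q).Nondegenerate :=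
    ⟨hG.nondeg, fun y hy => hG.nondeg y fun x => by rw [polar_comm]; exact hy x⟩
  rw [← hG.commutator_eq_E] at hh
  set g : Cfsg.Omega F ⇑Q := (omegaEquiv Q).symm ⟨h, hh⟩ with hg
  have hgh : ∀ v, (((g : Cfsg.isometryGroup F ⇑Q) : Matrix.GeneralLinearGroup ι F) : Matrix ι ι F).mulVec v = h v := by
    intro v
    rw [← omegaEquiv_apply Q g v, hg, MulEquiv.apply_symm_apply]
  have h1 := Cfsg.Agent.ClassicalGeometry.OrthDickson.dsign_eq_one_of_mem_commutator Q hnd (Or.inr hc)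
    (g : Cfsg.isometryGroup F ⇑Q) g.2
  rw [Cfsg.Agent.ClassicalGeometry.OrthDickson.dsign_def] at h1
  have h2 : Cfsg.Agent.ClassicalGeometry.OrthCharTwo.fixSp (g : Cfsg.isometryGroup F ⇑Q) =
      LinearMap.ker ((h : (ι → F) →ₗ[F] (ι → F)) - 1) := by
    ext v
    rw [LinearMap.mem_ker, LinearMap.sub_apply, sub_eq_zero]
    show (((g : Cfsg.isometryGroup F ⇑Q) : Matrix.GeneralLinearGroup ι F) : Matrix ι ι F).mulVec v = v ↔ h v = v
    rw [hgh]
  rw [h2] at h1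
  rcases Nat.even_or_odd (finrank F (LinearMap.ker ((h : (ι → F) →ₗ[F] (ι → F)) - 1)) + Fintype.card ι) with h3 | h3
  · exact h3
  · rw [h3.neg_one_pow] at h1
    exact absurd h1 (by decide)

end fix

section form

variable {F V : Type*} [Field F] [AddCommGroup V] [Module F V]

/-- the polar form of a quadratic space -/
def frmQ {Q : QuadraticForm F V} (h : Nondeg Q) : Frm F V where
  B := QuadraticMap.polarBilin Q
  nd x hx := h x hx
  refl x y hxy := by
    show QuadraticMap.polar Q y x = 0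
    rw [QuadraticMap.polar_comm]
    exact hxy
  alt h2 x := by
    show QuadraticMap.polar Q x x = 0
    rw [QuadraticMap.polar_self, ← Nat.cast_smul_eq_nsmul F, Nat.cast_ofNat, h2, zero_smul]

theorem scalar_sq {Q : QuadraticForm F V} (hQ : Nondeg Q) {z : V ≃ₗ[F] V} (hz : z ∈ O Q) (hs : Scalar z) :
    z ^ 2 = 1 := by
  obtain ⟨c, hc⟩ := hs
  apply LinearEquiv.ext
  intro v
  show z (z v) = v
  by_cases hv : v = 0
  · rw [hv, map_zero, map_zero]
  obtain ⟨y, hy⟩ := hQ.exists_polar_ne hv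
  have h1 := polar_map hz v y
  rw [hc, hc, polar_smul_left, polar_smul_right, smul_eq_mul, smul_eq_mul, ← mul_assoc] at h1
  have h2 : c * c = 1 := mul_right_cancel₀ hy (h1.trans (one_mul _).symm)
  rw [hc, hc, smul_smul, h2, one_smul]

end form

section main

variable {ι : Type} [Fintype ι] [DecidableEq ι] {F : Type*} [Field F] [Finite F]

theorem finite_E (Q : QuadraticForm F (ι → F)) : Finite (E Q) := by
  have : Finite ((ι → F) ≃ₗ[F] (ι → F)) :=
    Finite.of_injective (fun e : (ι → F) ≃ₗ[F] (ι → F) => (e : (ι → F) → (ι → F))) DFunLike.coe_injective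
  infer_instance

theorem not_real {Q : QuadraticForm F (ι → F)} (hQ : Nondeg Q) {m : ℕ} (hm : 3 ≤ m) (hodd : Odd m)
    (hι : Fintype.card ι = 2 * m) {r : ℕ} (hr : r.Prime) (hr2 : r ≠ 2) (hrF : (r : F) ≠ 0)
    (hord : orderOf ((Nat.card F : ℕ) : ZMod r) = 2 * m ∨ orderOf ((Nat.card F : ℕ) : ZMod r) = m)
    (hd : r ∣ Nat.card (E Q)) : Cfsg.Agent.H721.SR.NRel (E Q ⧸ Subgroup.center (E Q)) := by
  have hdim : finrank F (ι → F) = 2 * m := by rw [Module.finrank_fintype_fun_eq_card, hι]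
  have hG : Good Q := good_of_finite hQ (by omega)
  have hfin := finite_E Q
  have hfr := Fact.mk hr
  obtain ⟨x, hx⟩ := exists_prime_orderOf_dvd_card' r hd
  set g : (ι → F) →ₗ[F] (ι → F) := ((x : (ι → F) ≃ₗ[F] (ι → F)) : (ι → F) →ₗ[F] (ι → F)) with hg
  have hxr : x ^ r = 1 := by rw [← hx, pow_orderOf_eq_one]
  have hcoe : ∀ n : ℕ, (((x ^ n : E Q) : (ι → F) ≃ₗ[F] (ι → F)) : (ι → F) →ₗ[F] (ι → F)) = g ^ n := by
    intro n
    induction n with
    | zero => rfl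
    | succ n ih => rw [pow_succ, pow_succ, ← ih]; rfl
  have hgr : g ^ r = 1 := by rw [← hcoe, hxr]; rfl
  have hiso : Iso (frmQ hQ) g := fun v w => polar_map (E_le_O (Q := Q) x.2) v w
  have hee : ee F r = 2 * m := by
    unfold ee
    rcases hord with h | h
    · rw [h]
      exact Nat.lcm_eq_right (Dvd.intro _ rfl)
    · rw [h]
      exact Nat.Coprime.lcm_eq_mul ((Nat.coprime_two_left).2 hodd)
  have hrange : LinearMap.range (g - 1) = ⊤ := by
    have h1 := ee_dvd_range (frmQ hQ) hr hr2 hrF hiso hgr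
    rw [hee] at h1
    have h2 : finrank F (LinearMap.range (g - 1)) ≠ 0 := by
      intro h0
      have h3 : LinearMap.range (g - 1) = ⊥ := Submodule.finrank_eq_zero.1 h0
      rw [LinearMap.range_eq_bot, sub_eq_zero] at h3
      have h4 : x = 1 := by
        apply Subtype.ext
        exact LinearEquiv.toLinearMap_injective h3
      rw [h4, orderOf_one] at hx
      exact hr.one_lt.ne hx
    apply Submodule.eq_top_of_finrank_eq
    have h3 := Nat.le_of_dvd (Nat.pos_of_ne_zero h2) h1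
    have h4 := Submodule.finrank_le (LinearMap.range (g - 1))
    omega
  have hfix : ∀ v, g v = v → v = 0 := by
    intro v hv
    have h1 := LinearMap.finrank_range_add_finrank_ker (g - 1)
    rw [hrange, finrank_top] at h1
    have h2 : LinearMap.ker (g - 1) = ⊥ := Submodule.finrank_eq_zero.1 (by omega)
    have h3 : v ∈ LinearMap.ker (g - 1) := by
      rw [LinearMap.mem_ker, LinearMap.sub_apply, hv]
      exact sub_self v
    rwa [h2, Submodule.mem_bot] at h3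
  obtain ⟨u, hu⟩ := exists_cyc hr hrF hgr hfix (frmQ hQ) (fun v w => polar_comm _ _ _) hiso hr2 (m := m)
    (by omega) hdim (hord.imp_right fun h => ⟨h, hodd⟩)
  refine ⟨QuotientGroup.mk' _ x, fun hc => ?_⟩
  obtain ⟨h', hh'⟩ := isConj_iff.1 hc
  obtain ⟨h, rfl⟩ := QuotientGroup.mk'_surjective _ h'
  rw [← map_inv, ← map_inv, ← map_mul, ← map_mul] at hh'
  have hz : (h * x * h⁻¹)⁻¹ * x⁻¹ ∈ center (E Q) := QuotientGroup.eq.1 hh'
  set z := (h * x * h⁻¹)⁻¹ * x⁻¹ with hzdef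
  have hz2 : z ^ 2 = 1 := Subtype.ext (scalar_sq hQ (E_le_O z.2) (SzO.center_scalar hG z hz))
  have hz3 : z ^ r = 1 := by
    have hcomm : ∀ y : E Q, y * z = z * y := fun y => mem_center_iff.1 hz y
    have h1 : (h * x * h⁻¹) * z = x⁻¹ := by rw [hzdef]; group
    have h2 : ((h * x * h⁻¹) * z) ^ r = (h * x * h⁻¹) ^ r * z ^ r :=
      (show Commute (h * x * h⁻¹) z from hcomm _).mul_pow r
    rw [h1, inv_pow, hxr, inv_one, conj_pow, hxr, mul_one, mul_inv_cancel, one_mul] at h2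
    exact h2.symm
  have hz1 : z = 1 := by
    have h1 : z ^ Nat.gcd 2 r = 1 := pow_gcd_eq_one.2 ⟨hz2, hz3⟩
    rwa [(Nat.coprime_primes Nat.prime_two hr).2 (Ne.symm hr2), pow_one] at h1
  have hinv : h * x * h⁻¹ = x⁻¹ := by
    have h1 : (h * x * h⁻¹) * z = x⁻¹ := by rw [hzdef]; group
    rwa [hz1, mul_one] at h1
  have hinv' : (h : (ι → F) ≃ₗ[F] (ι → F)) * x * (h : (ι → F) ≃ₗ[F] (ι → F))⁻¹ =
      (x : (ι → F) ≃ₗ[F] (ι → F))⁻¹ := congrArg Subtype.val hinv
  have hsq := sq_one (B := polarBilin Q) (fun v w => polar_comm _ _ _) hQ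
    (fun v w => polar_map (E_le_O (Q := Q) x.2) v w) (fun v w => polar_map (E_le_O (Q := Q) h.2) v w) hinv' hu
  have hfx := finrank_fix hinv' hsq (hr.odd_of_ne_two hr2)
    (show (x : (ι → F) ≃ₗ[F] (ι → F)) ^ r = 1 from congrArg Subtype.val hxr) hfix
  have hev := even_fix Q hG (by omega) h.2
  rw [hdim] at hfx
  rw [hι] at hev
  obtain ⟨k, hk⟩ := hev
  obtain ⟨l, hl⟩ := hodd
  omega

end main

end Cfsg.Agent.H105.Rl
end

-- part: H105/Rl/Row
section
set_option linter.all false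
open scoped Cfsg.Agent.FastGrp

/-!
# `PΩ^±_{2m}(q)`, `m ≥ 5` odd, has non-real elements (helper105, SR-OTOR of S4971)
-/

set_option autoImplicit false

namespace Cfsg.Agent.H105.Rl

open Module Subgroup QuadraticMap Cfsg.Agent.LieClassical.OrthCore
  Cfsg.Agent.LieClassical.OrthTrans Cfsg.Agent.LieClassical.OrthFinite Cfsg.Agent.LieClassical.OrthSimple
  Cfsg.Agent.LieClassical.OrthForms

theorem prime_facts {F : Type*} [Field F] [Finite F] {r e : ℕ} (hr : r.Prime)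
    (h : orderOf ((Nat.card F : ℕ) : ZMod r) = e) (he : 5 ≤ e) : 5 ≤ r ∧ (r : F) ≠ 0 := by
  have hf := Fact.mk hr
  have h0 : ((Nat.card F : ℕ) : ZMod r) ≠ 0 := by
    intro h0
    have h1 : ((Nat.card F : ℕ) : ZMod r) ^ orderOf ((Nat.card F : ℕ) : ZMod r) = 1 := pow_orderOf_eq_one _
    rw [h, h0, zero_pow (by omega)] at h1
    exact zero_ne_one h1
  constructor
  · have h1 := ZMod.orderOf_dvd_card_sub_one h0
    rw [h] at h1
    have h2 := Nat.le_of_dvd (Nat.sub_pos_of_lt hr.one_lt) h1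
    omega
  · intro h1
    apply h0
    have hch : CharP F r := by
      obtain ⟨p, hp⟩ := CharP.exists F
      have h2 : p ∣ r := (CharP.cast_eq_zero_iff F p r).1 h1
      rcases (Nat.dvd_prime hr).1 h2 with h3 | h3
      · exact absurd h3 (CharP.char_ne_one F p)
      · rw [← h3]; exact hp
    rw [ZMod.natCast_eq_zero_iff, ← CharP.cast_eq_zero_iff F r]
    have := Fintype.ofFinite F
    rw [Nat.card_eq_fintype_card]
    exact Nat.cast_card_eq_zero F

theorem dvd_of_gcd {r x y z w : ℕ} (hr : r.Prime) (h5 : 5 ≤ r) (h : Nat.gcd 4 x * y = z * w) (hd : r ∣ z) : r ∣ y := by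
  have h1 : r ∣ Nat.gcd 4 x * y := h ▸ Dvd.dvd.mul_right hd _
  rcases hr.dvd_mul.1 h1 with h2 | h2
  · have := Nat.le_of_dvd (by norm_num) (h2.trans (Nat.gcd_dvd_left 4 x))
    omega
  · exact h2

/-- transfer -/
theorem nrel_of {ι : Type} [Fintype ι] [DecidableEq ι] {F : Type*} [Field F] [Finite F]
    {Q : QuadraticForm F (ι → F)} (hQ : Nondeg Q) {m : ℕ} (hm : 5 ≤ m) (hodd : Odd m)
    (hι : Fintype.card ι = 2 * m) {r : ℕ} (hr : r.Prime)
    (hord : orderOf ((Nat.card F : ℕ) : ZMod r) = 2 * m ∨ orderOf ((Nat.card F : ℕ) : ZMod r) = m)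
    (hd : r ∣ Nat.card (Cfsg.POmega F ⇑Q)) : Cfsg.Agent.H721.SR.NRel (Cfsg.POmega F ⇑Q) := by
  have hG : Good Q := good_of_finite hQ (by rw [Module.finrank_fintype_fun_eq_card]; omega)
  have e : Cfsg.POmega F ⇑Q ≃* E Q ⧸ center (E Q) := quotientCenterCongr
    ((omegaEquiv Q).trans (MulEquiv.subgroupCongr hG.commutator_eq_E))
  obtain ⟨h5, hrF⟩ : 5 ≤ r ∧ (r : F) ≠ 0 := by
    rcases hord with h | h
    · exact prime_facts hr h (by omega)
    · exact prime_facts hr h hm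
  refine Cfsg.Agent.H721.SR.NRel.congr e.symm (not_real hQ (by omega) hodd hι hr (by omega) hrF hord ?_)
  rw [Nat.card_congr e.toEquiv] at hd
  exact hd.trans (Subgroup.card_quotient_dvd_card _)

theorem nrel_plus {F : Type*} [Field F] [Finite F] {m : ℕ} (hm : 5 ≤ m) (hodd : Odd m) :
    Cfsg.Agent.H721.SR.NRel (Cfsg.POmega F (Cfsg.quadFormPlus m F)) := by
  have := Fintype.ofFinite F
  have hq : 1 < Nat.card F := Finite.one_lt_card
  obtain ⟨r, hr, ho⟩ := Cfsg.Agent.Lib.Zsigmondy.exists_prime_orderOf (a := Nat.card F) (n := m) hq (by omega)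
    (by omega) (by rintro ⟨-, rfl⟩; exact absurd hodd (by decide))
  rw [← coe_plusForm]
  refine nrel_of (nondeg_plusForm m F) hm hodd (by simp; omega) hr (Or.inr ho) ?_
  rw [coe_plusForm]
  have h1 := S0293.result (F := F) rfl m (by omega)
  rw [← Nat.card_eq_fintype_card] at h1
  refine dvd_of_gcd hr (prime_facts (F := F) hr ho hm).1 h1 (Dvd.dvd.mul_left ?_ _)
  have hf := Fact.mk hr
  rw [← CharP.cast_eq_zero_iff (ZMod r) r, Nat.cast_sub (Nat.one_le_pow _ _ (by omega)), Nat.cast_one,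
      Nat.cast_pow, sub_eq_zero, ← orderOf_dvd_iff_pow_eq_one, ho]

theorem nrel_minus {F : Type*} [Field F] [Finite F] {m : ℕ} (hm : 5 ≤ m) (hodd : Odd m) {a b : F}
    (hab : ∀ z₁ z₂ : F, z₁ ^ 2 + a * z₁ * z₂ + b * z₂ ^ 2 = 0 → z₁ = 0 ∧ z₂ = 0) :
    Cfsg.Agent.H721.SR.NRel (Cfsg.POmega F (Cfsg.quadFormMinus (m - 1) F a b)) := by
  have := Fintype.ofFinite F
  have hq : 1 < Nat.card F := Finite.one_lt_card
  obtain ⟨r, hr, ho⟩ := Cfsg.Agent.Lib.Zsigmondy.exists_prime_orderOf (a := Nat.card F) (n := 2 * m) hq (by omega)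
    (by omega) (by omega)
  rw [← coe_minusForm]
  refine nrel_of (nondeg_minusForm (m - 1) F a b hab) hm hodd (by simp; omega) hr (Or.inl ho) ?_
  rw [coe_minusForm]
  have h1 := S0294.result (F := F) rfl m (by omega) a b hab
  rw [← Nat.card_eq_fintype_card] at h1
  refine dvd_of_gcd hr (prime_facts (F := F) hr ho (by omega)).1 h1 (Dvd.dvd.mul_left ?_ _)
  have hf := Fact.mk hr
  have h2 : ((Nat.card F : ℕ) : ZMod r) ^ m * ((Nat.card F : ℕ) : ZMod r) ^ m = 1 := by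
    rw [← pow_add, ← two_mul, ← ho, pow_orderOf_eq_one]
  have h3 : ((Nat.card F : ℕ) : ZMod r) ^ m ≠ 1 := by
    intro h4
    have := Nat.le_of_dvd (by omega) (orderOf_dvd_of_pow_eq_one h4)
    omega
  rw [← CharP.cast_eq_zero_iff (ZMod r) r, Nat.cast_add, Nat.cast_one, Nat.cast_pow]
  rcases mul_self_eq_one_iff.1 h2 with h4 | h4
  · exact absurd h4 h3
  · rw [h4]; ring

end Cfsg.Agent.H105.Rl
end

-- part: H473/SR/Row_mg
section

end

-- part: H864/SRN/Rows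
section
prune_inst 0x342041042880000000180012620018228a0000000000040004a100040181a8200d00a00026000001580000400030000000000020000000000a000000000504010000000441c10000000000000000000000000000000000000000000000000000200000000
set_option linter.all false
open scoped Cfsg.Agent.FastGrp

-- part: H864/SRN/Psi
section
/-!
# TEAM SR, orthogonal groups, `q = 3 mod 4`: the twisted spinor sign

`psi e Q h = spin h * χ(det h) ^ e`; Gram determinants of anti-triangular families.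
-/

set_option autoImplicit false
set_option linter.unusedSectionVars false

namespace Cfsg.Agent.H864.SRN

open QuadraticMap Module
open Cfsg.Agent.LieClassical.OrthCore Cfsg.Agent.H160.QSpin Cfsg.Agent.H160.QDisc

universe u v w

variable {F : Type u} {V : Type v} {W : Type w} [Field F] [Fintype F] [DecidableEq F] [AddCommGroup V] [Module F V]
  [AddCommGroup W] [Module F W]

/-- the twisted spinor sign -/
noncomputable def psi [Finite V] (e : ℕ) (Q : QuadraticForm F V) : O Q →* ℤ where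
  toFun h := ((spin Q h : ℤˣ) : ℤ) * quadraticChar F ((LinearEquiv.det (h : V ≃ₗ[F] V) : Fˣ) : F) ^ e
  map_one' := by simp only [_root_.map_one, _root_.Units.val_one, _root_.OneMemClass.coe_one, _root_.quadraticChar_apply, _root_.quadraticCharFun_one, _root_.one_pow, _root_.mul_one]
  map_mul' x y := by
    simp only [map_mul, Subgroup.coe_mul, Units.val_mul, mul_pow]
    ring

theorem psi_apply [Finite V] (e : ℕ) (Q : QuadraticForm F V) (h : O Q) :
    psi e Q h = ((spin Q h : ℤˣ) : ℤ) * quadraticChar F ((LinearEquiv.det (h : V ≃ₗ[F] V) : Fˣ) : F) ^ e := rfl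

theorem psi_cases [Finite V] (e : ℕ) (Q : QuadraticForm F V) (h : O Q) : psi e Q h = 1 ∨ psi e Q h = -1 := by
  have h1 : psi e Q h * psi e Q h = 1 := by
    rw [psi_apply]
    have h2 : ((spin Q h : ℤˣ) : ℤ) * ((spin Q h : ℤˣ) : ℤ) = 1 := by
      rw [← Units.val_mul, units_sq, Units.val_one]
    have h3 : quadraticChar F ((LinearEquiv.det (h : V ≃ₗ[F] V) : Fˣ) : F) ^ 2 = 1 :=
      quadraticChar_sq_one (Units.ne_zero _)
    calc _ = (((spin Q h : ℤˣ) : ℤ) * ((spin Q h : ℤˣ) : ℤ)) *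
          (quadraticChar F ((LinearEquiv.det (h : V ≃ₗ[F] V) : Fˣ) : F) ^ 2) ^ e := by ring
      _ = 1 := by rw [h2, h3, one_pow, one_mul]
  exact mul_self_eq_one_iff.1 h1

theorem psi_pow_odd [Finite V] (e : ℕ) (Q : QuadraticForm F V) (h : O Q) {m : ℕ} (hm : Odd m) :
    psi e Q (h ^ m) = psi e Q h := by
  rw [map_pow]
  rcases psi_cases e Q h with h1 | h1
  · rw [h1, one_pow]
  · rw [h1, hm.neg_one_pow]

theorem psi_cj [Finite V] [Finite W] (e : ℕ) {Q : QuadraticForm F V} {Q' : QuadraticForm F W} {f : V ≃ₗ[F] W}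
    (hf : IsIso Q Q' f) {g : V ≃ₗ[F] V} (hg : g ∈ O Q) :
    psi e Q' ⟨cj f g, cj_mem_O hf hg⟩ = psi e Q ⟨g, hg⟩ := by
  rw [psi_apply, psi_apply, spin_cj hf hg]
  simp only [det_cj]

theorem psi_pr [Finite V] [Finite W] [Finite (V × W)] [FiniteDimensional F V] [FiniteDimensional F W] (e : ℕ)
    (h2 : (2 : F) ≠ 0) {Q₁ : QuadraticForm F V} {Q₂ : QuadraticForm F W} (h₁ : Nondeg Q₁) (h₂ : Nondeg Q₂)
    {g : V ≃ₗ[F] V} (hg : g ∈ O Q₁) {h : W ≃ₗ[F] W} (hh : h ∈ O Q₂) :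
    psi e (Q₁.prod Q₂) ⟨pr g h, pr_mem_O hg hh⟩ = psi e Q₁ ⟨g, hg⟩ * psi e Q₂ ⟨h, hh⟩ := by
  rw [psi_apply, psi_apply, psi_apply, spin_pr h2 h₁ h₂ hg hh]
  simp only [det_pr, Units.val_mul, map_mul, mul_pow]
  ring

theorem psi_of_el [Finite V] (e : ℕ) {Q : QuadraticForm F V} {s : ℤˣ} {g : V ≃ₗ[F] V} (h : El Q s g) (hg : g ∈ O Q) :
    psi e Q ⟨g, hg⟩ = s := by
  obtain ⟨h1, h2, h3⟩ := h
  rw [psi_apply, h3, h2]
  simp

theorem det_neg_eq [FiniteDimensional F V] :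
    ((LinearEquiv.det (LinearEquiv.neg F : V ≃ₗ[F] V) : Fˣ) : F) = (-1) ^ finrank F V := by
  rw [LinearEquiv.coe_det]
  have h : ((LinearEquiv.neg F : V ≃ₗ[F] V) : V →ₗ[F] V) = (-1 : F) • LinearMap.id := by
    ext x
    simp
  rw [h, LinearMap.det_smul, LinearMap.det_id, mul_one]

theorem spin_neg [FiniteDimensional F V] [Finite V] (h2 : (2 : F) ≠ 0) {Q : QuadraticForm F V} (hQ : Nondeg Q) :
    ((spin Q ⟨LinearEquiv.neg F, neg_mem_O Q⟩ : ℤˣ) : ℤ) = (- quadraticChar F 2) ^ finrank F V * dc Q := by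
  obtain ⟨Q', e, hee⟩ := exists_iso_fin Q
  have h3 := spin_cj hee (neg_mem_O _)
  have h4 : (⟨cj e (LinearEquiv.neg F), cj_mem_O hee (neg_mem_O _)⟩ : O Q') = ⟨LinearEquiv.neg F, neg_mem_O Q'⟩ :=
    Subtype.ext (cj_neg e)
  rw [h4] at h3
  rw [← h3, spin_neg_one_aux h2 _ Q' (hee.nondeg hQ), dc_iso hee]

theorem psi_neg [FiniteDimensional F V] [Finite V] (e : ℕ) (h2 : (2 : F) ≠ 0) {Q : QuadraticForm F V}
    (hQ : Nondeg Q) : psi e Q ⟨LinearEquiv.neg F, neg_mem_O Q⟩ =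
      (- quadraticChar F 2) ^ finrank F V * dc Q * (quadraticChar F (-1) ^ finrank F V) ^ e := by
  rw [psi_apply, spin_neg h2 hQ, det_neg_eq, map_pow]

/-! ### Gram determinants -/

theorem sign_rev (n : ℕ) : ((Equiv.Perm.sign (Fin.revPerm : Equiv.Perm (Fin n)) : ℤˣ) : ℤ) =
    ∏ i : Fin n, (-1) ^ (i : ℕ) := by
  have h0 : ∏ i : Fin n, (-1 : ℤ) ^ (i : ℕ) = ∏ i : Fin n, (-1 : ℤ) ^ ((Fin.revPerm i : Fin n) : ℕ) :=
    (Equiv.prod_comp Fin.revPerm (fun i : Fin n => (-1 : ℤ) ^ (i : ℕ))).symm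
  rw [h0, Equiv.Perm.sign_eq_prod_prod_Ioi, Units.coe_prod]
  refine Finset.prod_congr rfl fun i _ => ?_
  rw [Units.coe_prod, Finset.prod_congr rfl (g := fun _ => (-1 : ℤ))]
  · rw [Finset.prod_const, Fin.card_Ioi, Fin.revPerm_apply, Fin.val_rev]
    congr 1
    omega
  · intro j hj
    rw [Finset.mem_Ioi] at hj
    rw [if_neg]
    · rfl
    · rw [Fin.revPerm_apply, Fin.revPerm_apply, Fin.rev_lt_rev]
      exact not_lt.2 hj.le

/-- determinants of anti-triangular matrices -/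
theorem det_anti {n : ℕ} (G : Matrix (Fin n) (Fin n) F) (h : ∀ i j : Fin n, n ≤ (i : ℕ) + j → G i j = 0) :
    G.det = ∏ i : Fin n, ((-1) ^ (i : ℕ) * G i i.rev) := by
  have h1 : (G.submatrix id Fin.revPerm).det = ∏ i : Fin n, G i i.rev := by
    rw [Matrix.det_of_isUpperTriangular]
    · rfl
    · intro i j hij
      show G i (Fin.revPerm j) = 0
      apply h
      have hij' : (j : ℕ) < i := hij
      rw [Fin.revPerm_apply, Fin.val_rev]
      omega
  have h2 := Matrix.det_permute' (Fin.revPerm : Equiv.Perm (Fin n)) G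
  rw [h1] at h2
  have h3 : (((Equiv.Perm.sign (Fin.revPerm : Equiv.Perm (Fin n)) : ℤˣ) : ℤ) : F) = ∏ i : Fin n, (-1) ^ (i : ℕ) := by
    rw [sign_rev]
    push_cast
    rfl
  have h4 : (∏ i : Fin n, (-1 : F) ^ (i : ℕ)) * ∏ i : Fin n, (-1 : F) ^ (i : ℕ) = 1 := by
    rw [← Finset.prod_mul_distrib]
    refine Finset.prod_eq_one fun i _ => ?_
    rw [← mul_pow]
    simp
  rw [Finset.prod_mul_distrib, h2, h3, ← mul_assoc, h4, one_mul]

/-- the class of an anti-triangular form -/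
theorem dc_anti [FiniteDimensional F V] {n : ℕ} (b : Basis (Fin n) F V) (Q : QuadraticForm F V)
    (h : ∀ i j : Fin n, n ≤ (i : ℕ) + j → polar Q (b i) (b j) = 0) :
    dc Q = quadraticChar F (∏ i : Fin n, ((-1) ^ (i : ℕ) * polar Q (b i) (b i.rev))) := by
  have hG : ∀ i j, LinearMap.BilinForm.toMatrix b (polarBilin Q) i j = polar Q (b i) (b j) := fun i j =>
    LinearMap.BilinForm.toMatrix_apply _ _ _ _
  rw [dc_eq b Q, det_anti _ (fun i j hij => (hG i j).trans (h i j hij))]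
  simp only [hG]

end Cfsg.Agent.H864.SRN
end

-- part: H864/SRN/Adm
section
/-!
# TEAM SR, orthogonal groups, `q = 3 mod 4`: centralizers of regular-type unipotent elements

`Adm d S Q t` : `t` is a skew nilpotent map, all Jordan blocks have odd size `n + 1`, `n ∈ S`, and the forms
`polar x (t^n x)` take only values of the class `d` (so the blocks have multiplicity one).
`psi_comm` : isometries commuting with `t` have `psi = 1`.
-/

set_option autoImplicit false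
set_option linter.unusedSectionVars false

namespace Cfsg.Agent.H864.SRN

open QuadraticMap Module
open Cfsg.Agent.LieClassical.OrthCore Cfsg.Agent.H160.QSpin Cfsg.Agent.H160.QDisc Cfsg.Agent.H160.QSplit

universe u v w

section

variable {F : Type u} {V : Type v} [Field F] [Fintype F] [DecidableEq F] [AddCommGroup V] [Module F V]

theorem exists_sq_add (h2 : (2 : F) ≠ 0) {D : F} (hD : D ≠ 0) (c : F) : ∃ x y : F, x ^ 2 + D * y ^ 2 = c := by
  have hodd : Fintype.card F % 2 = 1 := by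
    have hchar : ringChar F ≠ 2 := by
      intro h
      apply h2
      have := ringChar.spec F 2
      rw [h] at this
      exact_mod_cast this.2 (dvd_refl 2)
    exact FiniteField.odd_card_of_char_ne_two hchar
  have hf : (Polynomial.X ^ 2 : Polynomial F).degree = 2 := Polynomial.degree_X_pow 2
  have hg : (Polynomial.C D * Polynomial.X ^ 2 - Polynomial.C c : Polynomial F).degree = 2 := by
    compute_degree!
  obtain ⟨a, b, h⟩ := FiniteField.exists_root_sum_quadratic hf hg hodd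
  refine ⟨a, b, ?_⟩
  simp only [Polynomial.eval_pow, Polynomial.eval_X, Polynomial.eval_sub, Polynomial.eval_mul, Polynomial.eval_C] at h
  linear_combination h

theorem exists_other (h2 : (2 : F) ≠ 0) (d : ℤ) : ∃ u : F, u ≠ 0 ∧ quadraticChar F u ≠ d := by
  by_cases hd : d = 1
  · obtain ⟨c, hc, h⟩ := exists_qc (F := F) h2 (d := -1) (Or.inr rfl)
    exact ⟨c, hc, by rw [h, hd]; decide⟩
  · exact ⟨1, one_ne_zero, by rw [map_one]; exact fun h => hd h.symm⟩

/-- a binary form all of whose nonzero values lie in one class is degenerate -/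
theorem binary (h2 : (2 : F) ≠ 0) {d : ℤ} {a b c : F}
    (h : ∀ s t : F, a * s ^ 2 + 2 * b * s * t + c * t ^ 2 ≠ 0 →
      quadraticChar F (a * s ^ 2 + 2 * b * s * t + c * t ^ 2) = d) : a * c = b ^ 2 := by
  obtain ⟨u, hu, hud⟩ := exists_other (F := F) h2 d
  by_contra hne
  have hD : a * c - b ^ 2 ≠ 0 := sub_ne_zero.2 hne
  have key : ∃ s t : F, a * s ^ 2 + 2 * b * s * t + c * t ^ 2 = u := by
    by_cases ha : a = 0
    · by_cases hc : c = 0
      · have hb : b ≠ 0 := by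
          rintro rfl
          apply hD
          rw [ha]; ring
        refine ⟨1, u / (2 * b), ?_⟩
        rw [ha, hc]
        field_simp
        ring
      · obtain ⟨x, y, hxy⟩ := exists_sq_add h2 hD (c * u)
        refine ⟨y, (x - b * y) / c, ?_⟩
        field_simp
        linear_combination hxy
    · obtain ⟨x, y, hxy⟩ := exists_sq_add h2 hD (a * u)
      refine ⟨(x - b * y) / a, y, ?_⟩
      field_simp
      linear_combination hxy
  obtain ⟨s, t, hst⟩ := key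
  apply hud
  rw [← hst]
  apply h
  rw [hst]
  exact hu

/-- the condition -/
structure Adm (d : ℤ) (S : Set ℕ) (Q : QuadraticForm F V) (t : Module.End F V) : Prop where
  nd : Nondeg Q
  skew : ∀ x y, polar Q (t x) y = - polar Q x (t y)
  nil : ∃ N, t ^ N = 0
  even : ∀ n ∈ S, Even n
  on : ∀ n ∈ S, ∀ x, (t ^ (n + 1)) x = 0 → polar Q x ((t ^ n) x) ≠ 0 →
    quadraticChar F (polar Q x ((t ^ n) x)) = d
  off : ∀ n, n ∉ S → ∀ x y, (t ^ (n + 1)) x = 0 → (t ^ (n + 1)) y = 0 → polar Q x ((t ^ n) y) = 0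

theorem skew_pow {Q : QuadraticForm F V} {t : Module.End F V} (h : ∀ x y, polar Q (t x) y = - polar Q x (t y))
    (n : ℕ) (x y : V) : polar Q ((t ^ n) x) y = (-1) ^ n * polar Q x ((t ^ n) y) := by
  induction n generalizing x y with
  | zero => simp
  | succ n ih =>
    rw [pow_succ', Module.End.mul_apply, h, ih, pow_succ (-1 : F), ← Module.End.mul_apply, ← pow_succ, pow_succ']
    ring

/-- restriction to an invariant nondegenerate subspace -/
theorem Adm.restrict {d : ℤ} {S : Set ℕ} {Q : QuadraticForm F V} {t : Module.End F V} (h : Adm d S Q t)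
    {W : Submodule F V} (ht : ∀ x ∈ W, t x ∈ W) (hW : Nondeg (Q.comp W.subtype)) :
    Adm d S (Q.comp W.subtype) (t.restrict ht) := by
  have hpow : ∀ (n : ℕ) (x : W), (((t.restrict ht) ^ n) x : V) = (t ^ n) x := by
    intro n
    induction n with
    | zero => intro x; rfl
    | succ n ih =>
      intro x
      rw [pow_succ', Module.End.mul_apply, LinearMap.coe_restrict_apply, ih, pow_succ', Module.End.mul_apply]
  have hpol : ∀ x y : W, polar (Q.comp W.subtype) x y = polar Q x y := fun x y => rfl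
  refine ⟨hW, ?_, ?_, h.even, ?_, ?_⟩
  · intro x y
    rw [hpol, hpol]
    exact h.skew x y
  · obtain ⟨N, hN⟩ := h.nil
    refine ⟨N, ?_⟩
    ext x
    rw [hpow, hN]
    rfl
  · intro n hn x hx h0
    rw [hpol, hpow] at h0 ⊢
    refine h.on n hn x ?_ h0
    rw [← hpow, hx]
    rfl
  · intro n hn x y hx hy
    rw [hpol, hpow]
    refine h.off n hn x y ?_ ?_
    · rw [← hpow, hx]; rfl
    · rw [← hpow, hy]; rfl

end

variable {F : Type u} [Field F] [Fintype F] [DecidableEq F]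

theorem psi_comm_aux (h2 : (2 : F) ≠ 0) (hm1 : quadraticChar F (-1) = -1) {e : ℕ} {d : ℤ}
    (he : (-1) ^ e = - quadraticChar F 2 * d) (hd : d = 1 ∨ d = -1) (N : ℕ) :
    ∀ (V : Type v) [AddCommGroup V] [Module F V] [FiniteDimensional F V] [Finite V] (Q : QuadraticForm F V)
      (t : Module.End F V) (S : Set ℕ), Adm d S Q t → finrank F V = N → ∀ (c : V ≃ₗ[F] V) (hc : c ∈ O Q),
      (∀ x, c (t x) = t (c x)) → (∃ k : ℕ, c ^ 2 ^ k = 1) → psi e Q ⟨c, hc⟩ = 1 := by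
  induction N using Nat.strong_induction_on with
  | _ N ih =>
  intro V _ _ _ _ Q t S hA hN c hc hct hck
  by_cases hc1 : c = 1
  · subst hc1
    exact map_one (psi e Q)
  have hnt : Nontrivial V := by
    by_contra hn
    rw [not_nontrivial_iff_subsingleton] at hn
    apply hc1
    ext x
    exact Subsingleton.elim _ _
  -- the nilpotency index
  classical
  obtain ⟨n, hn0, hn1⟩ : ∃ n, t ^ (n + 1) = 0 ∧ t ^ n ≠ 0 := by
    have hex := hA.nil
    obtain ⟨m, hm⟩ : ∃ m, Nat.find hex = m + 1 := by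
      apply Nat.exists_eq_succ_of_ne_zero
      intro h0
      have h1 := Nat.find_spec hex
      rw [h0, pow_zero] at h1
      exact one_ne_zero h1
    refine ⟨m, ?_, ?_⟩
    · rw [← hm]
      exact Nat.find_spec hex
    · exact Nat.find_min hex (by omega)
  have hz : ∀ x, (t ^ (n + 1)) x = 0 := fun x => by rw [hn0]; rfl
  obtain ⟨x₁, y₁, hxy⟩ : ∃ x y, polar Q x ((t ^ n) y) ≠ 0 := by
    by_contra hcon
    push Not at hcon
    apply hn1
    ext y
    apply hA.nd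
    intro x
    rw [polar_comm]
    exact hcon x y
  have hnS : n ∈ S := by
    by_contra hnS
    exact hxy (hA.off n hnS x₁ y₁ (hz _) (hz _))
  have hev : Even n := hA.even n hnS
  set! β : V → V → F := fun x y => polar Q x ((t ^ n) y) with hβ
  have hsymm : ∀ x y, β x y = β y x := by
    intro x y
    have h1 := skew_pow hA.skew n x y
    rw [hev.neg_one_pow, one_mul] at h1
    show polar Q x ((t ^ n) y) = polar Q y ((t ^ n) x)
    rw [← h1, polar_comm]
  have hadd : ∀ x y z, β x (y + z) = β x y + β x z := by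
    intro x y z
    show polar Q x ((t ^ n) (y + z)) = _
    rw [map_add, polar_add_right]
  have hsmul : ∀ (r : F) x y, β x (r • y) = r * β x y := by
    intro r x y
    show polar Q x ((t ^ n) (r • y)) = _
    rw [map_smul, polar_smul_right, smul_eq_mul]
  have hadd' : ∀ x y z, β (y + z) x = β y x + β z x := by
    intro x y z
    rw [hsymm, hadd, hsymm x y, hsymm x z]
  have hsmul' : ∀ (r : F) x y, β (r • y) x = r * β y x := by
    intro r x y
    rw [hsymm, hsmul, hsymm x y]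
  obtain ⟨x₀, hx₀⟩ : ∃ x, β x x ≠ 0 := by
    by_contra hcon
    push Not at hcon
    apply hxy
    have h1 := hcon (x₁ + y₁)
    rw [hadd, hadd', hadd', hcon, hcon, hsymm y₁ x₁, zero_add, add_zero, ← two_mul] at h1
    exact (mul_eq_zero.1 h1).resolve_left h2
  set a := β x₀ x₀ with ha
  have hr1 : ∀ y, a * β y y = β x₀ y ^ 2 := by
    intro y
    apply binary h2 (d := d)
    intro s r h
    have h3 : a * s ^ 2 + 2 * β x₀ y * s * r + β y y * r ^ 2 = β (s • x₀ + r • y) (s • x₀ + r • y) := by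
      rw [hadd, hadd', hadd', hsmul, hsmul, hsmul, hsmul, hsmul', hsmul', hsmul', hsmul', hsymm y x₀]
      ring
    rw [h3] at h ⊢
    exact hA.on n hnS _ (hz _) h
  have hr2 : ∀ y z, a * β y z = β x₀ y * β x₀ z := by
    intro y z
    have h1 := hr1 (y + z)
    have h3 := hr1 y
    have h4 := hr1 z
    rw [hadd, hadd', hadd', hadd, hsymm z y] at h1
    have h5 : (2 : F) * (a * β y z) = 2 * (β x₀ y * β x₀ z) := by linear_combination h1 - h3 - h4
    exact mul_left_cancel₀ h2 h5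
  -- the eigenvalue
  have hctn : ∀ m x, c ((t ^ m) x) = (t ^ m) (c x) := by
    intro m
    induction m with
    | zero => intro x; rfl
    | succ m ihm => intro x; rw [pow_succ', Module.End.mul_apply, hct, ihm, Module.End.mul_apply]
  have hcβ : ∀ x y, β (c x) (c y) = β x y := by
    intro x y
    show polar Q (c x) ((t ^ n) (c y)) = _
    rw [← hctn, polar_map hc]
  set! ε := β x₀ (c x₀) / a with hε
  have hε2 : ε * ε = 1 := by
    have h1 := hr2 (c x₀) (c x₀)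
    rw [hcβ] at h1
    rw [hε]
    field_simp
    linear_combination -h1
  have hε0 : ε ≠ 0 := by
    intro h0
    rw [h0, zero_mul] at hε2
    exact zero_ne_one hε2
  have hεc : ∀ y, β x₀ (c y) = ε * β x₀ y := by
    intro y
    have h1 := hr2 (c x₀) (c y)
    rw [hcβ] at h1
    have h3 : β x₀ y = ε * β x₀ (c y) := by
      rw [hε, div_mul_eq_mul_div, ← h1, mul_div_cancel_left₀ _ hx₀]
    rw [h3, ← mul_assoc, hε2, one_mul]
  obtain ⟨k, hk⟩ := hck
  have hck1 : (en c) ^ 2 ^ (k + 1) = 1 := by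
    rw [← en_pow, pow_succ, pow_mul, hk, one_pow]
    rfl
  have hεk : ε ^ 2 ^ (k + 1) = 1 := by
    rw [pow_succ', pow_mul, pow_two, hε2, one_pow]
  set! T : Module.End F V := ε • en c with hT
  have hTk : T ^ 2 ^ (k + 1) = 1 := by rw [hT, smul_pow, hck1, hεk, one_smul]
  have hTβ : ∀ y, β x₀ (T y) = β x₀ y := by
    intro y
    show β x₀ (ε • c y) = _
    rw [hsmul, hεc, ← mul_assoc, hε2, one_mul]
  have hTβn : ∀ (m : ℕ) y, β x₀ ((T ^ m) y) = β x₀ y := by
    intro m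
    induction m with
    | zero => intro y; rfl
    | succ m ihm => intro y; rw [pow_succ', Module.End.mul_apply, hTβ, ihm]
  set! x := (∑ i ∈ Finset.range (2 ^ (k + 1)), T ^ i) x₀ with hx
  have hTx : T x = x := by
    have h1 : T * ∑ i ∈ Finset.range (2 ^ (k + 1)), T ^ i = ∑ i ∈ Finset.range (2 ^ (k + 1)), T ^ i := by
      have h3 := mul_geom_sum T (2 ^ (k + 1))
      rw [hTk, sub_self, sub_mul, one_mul, sub_eq_zero] at h3
      exact h3
    rw [hx, ← Module.End.mul_apply, h1]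
  have hcx : c x = ε • x := by
    have h1 : ε • T x = c x := by
      show ε • (ε • c x) = c x
      rw [smul_smul, hε2, one_smul]
    rw [← h1, hTx]
  have hx0 : β x₀ x = 2 ^ (k + 1) * a := by
    have h1 : ∀ s : Finset ℕ, β x₀ ((∑ i ∈ s, T ^ i) x₀) = (s.card : F) * a := by
      intro s
      induction s using Finset.induction_on with
      | empty => simp only [hβ, _root_.Finset.sum_empty, _root_.LinearMap.zero_apply, _root_.map_zero, _root_.QuadraticMap.polar_zero_right, _root_.Finset.card_empty, _root_.Nat.cast_zero, _root_.MulZeroClass.zero_mul]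
      | insert i s hi ihs =>
        rw [Finset.sum_insert hi, LinearMap.add_apply, hadd, ihs, hTβn, Finset.card_insert_of_notMem hi]
        push_cast
        ring
    rw [hx, h1, Finset.card_range]
    push_cast
    rfl
  have hb0 : β x x ≠ 0 := by
    intro h0
    have h1 := hr1 x
    rw [h0, mul_zero, hx0, eq_comm, pow_eq_zero_iff two_ne_zero] at h1
    exact mul_ne_zero (pow_ne_zero _ h2) hx₀ h1
  set! b := β x x with hb; rewrite [← hb] at hb0
  have hbd : quadraticChar F b = d := hA.on n hnS x (hz x) hb0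
  -- the subspace
  set! v : Fin (n + 1) → V := fun i => (t ^ (i : ℕ)) x with hv
  have hgram : ∀ i j : Fin (n + 1), polar Q (v i) (v j) = (-1) ^ (i : ℕ) * polar Q x ((t ^ ((i : ℕ) + j)) x) := by
    intro i j
    show polar Q ((t ^ (i : ℕ)) x) ((t ^ (j : ℕ)) x) = _
    rw [skew_pow hA.skew, ← Module.End.mul_apply, ← pow_add]
  have hzero : ∀ i j : Fin (n + 1), n + 1 ≤ (i : ℕ) + j → polar Q (v i) (v j) = 0 := by
    intro i j hij
    rw [hgram]
    obtain ⟨r, hr⟩ := Nat.exists_eq_add_of_le hij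
    rw [hr, add_comm (n + 1) r, pow_add, Module.End.mul_apply, hz, map_zero, polar_zero_right, mul_zero]
  have hdiag : ∀ i : Fin (n + 1), (-1) ^ (i : ℕ) * polar Q (v i) (v i.rev) = b := by
    intro i
    rw [hgram, ← mul_assoc, ← mul_pow]
    have : (i : ℕ) + (i.rev : Fin (n + 1)) = n := by rw [Fin.val_rev]; omega
    rw [this]
    simp [hb, hβ]
  have hdet : (Matrix.of fun i j : Fin (n + 1) => polar Q (v i) (v j)).det = b ^ (n + 1) := by
    rw [det_anti (Matrix.of fun i j : Fin (n + 1) => polar Q (v i) (v j)) hzero]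
    simp only [Matrix.of_apply, hdiag, Finset.prod_const, Finset.card_univ, Fintype.card_fin]
  have hli : LinearIndependent F v := by
    rw [Fintype.linearIndependent_iff]
    intro f hf
    have h1 : (Matrix.of fun i j : Fin (n + 1) => polar Q (v i) (v j)).mulVec f = 0 := by
      ext i
      rw [Matrix.mulVec, dotProduct]
      have h3 : polar Q (v i) (∑ j, f j • v j) = 0 := by rw [hf, polar_zero_right]
      have h4 : polar Q (v i) (∑ j, f j • v j) = ∑ j, f j * polar Q (v i) (v j) := by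
        change (polarBilin Q (v i)) (∑ j, f j • v j) = _
        rw [map_sum]
        refine Finset.sum_congr rfl fun j _ => ?_
        rw [map_smul, smul_eq_mul]
        rfl
      rw [h4] at h3
      simp only [Matrix.of_apply, Pi.zero_apply]
      rw [← h3]
      exact Finset.sum_congr rfl fun j _ => mul_comm _ _
    have h3 := Matrix.eq_zero_of_mulVec_eq_zero (by rw [hdet]; exact pow_ne_zero _ hb0) h1
    intro i
    rw [h3]
    rfl
  set! U : Submodule F V := Submodule.span F (Set.range v) with hU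
  let bU : Basis (Fin (n + 1)) F U := Basis.span hli
  have hbU : ∀ i, ((bU i : U) : V) = v i := fun i => congrArg Subtype.val (Basis.span_apply hli i)
  have hdimU : finrank F U = n + 1 := by
    rw [finrank_eq_card_basis bU, Fintype.card_fin]
  have hpolU : ∀ y z : U, polar (Q.comp U.subtype) y z = polar Q y z := fun y z => rfl
  have hdcU : dc (Q.comp U.subtype) = d := by
    rw [dc_anti bU]
    · have h1 : ∀ i : Fin (n + 1), (-1) ^ (i : ℕ) * polar (Q.comp U.subtype) (bU i) (bU i.rev) = b := by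
        intro i
        rw [hpolU, hbU, hbU, hdiag]
      simp only [h1, Finset.prod_const, Finset.card_univ, Fintype.card_fin, map_pow, hbd]
      rw [pow_succ]
      rcases hd with rfl | rfl
      · simp
      · rw [hev.neg_one_pow, one_mul]
    · intro i j hij
      rw [hpolU, hbU, hbU, hzero i j hij]
  have hndU : (LinearMap.BilinForm.restrict (polarBilin Q) U).Nondegenerate := by
    rw [LinearMap.BilinForm.nondegenerate_iff_det_ne_zero bU]
    have h1 : LinearMap.BilinForm.toMatrix bU (LinearMap.BilinForm.restrict (polarBilin Q) U) =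
        Matrix.of fun i j : Fin (n + 1) => polar Q (v i) (v j) := by
      ext i j
      rw [LinearMap.BilinForm.toMatrix_apply, Matrix.of_apply, ← hbU, ← hbU]
      rfl
    rw [h1, hdet]
    exact pow_ne_zero _ hb0
  have hrefl : (polarBilin Q).IsRefl := (isSymm_bilin Q).isRefl
  have hcompl := LinearMap.BilinForm.isCompl_orthogonal_of_restrict_nondegenerate hrefl hndU
  set! W := LinearMap.BilinForm.orthogonal (polarBilin Q) U with hW; rewrite [← hW] at hcompl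
  have hUW : ∀ y ∈ U, ∀ z ∈ W, polar Q y z = 0 := by
    intro y hy z hz
    exact hz y hy
  have hWmem : ∀ z, (∀ y ∈ U, polar Q y z = 0) → z ∈ W := fun z h y hy => h y hy
  have hcU : ∀ y ∈ U, c y = ε • y := by
    intro y hy
    induction hy using Submodule.span_induction with
    | mem y hy =>
      obtain ⟨i, rfl⟩ := hy
      show c ((t ^ (i : ℕ)) x) = ε • (t ^ (i : ℕ)) x
      rw [hctn, hcx, map_smul]
    | zero => rw [map_zero, smul_zero]
    | add y z _ _ h1 h3 => rw [map_add, h1, h3, smul_add]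
    | smul r y _ h1 => rw [map_smul, h1, smul_comm]
  have htU : ∀ y ∈ U, t y ∈ U := by
    intro y hy
    induction hy using Submodule.span_induction with
    | mem y hy =>
      obtain ⟨i, rfl⟩ := hy
      show t ((t ^ (i : ℕ)) x) ∈ U
      rw [← Module.End.mul_apply, ← pow_succ']
      by_cases hi : (i : ℕ) + 1 < n + 1
      · exact Submodule.subset_span ⟨⟨(i : ℕ) + 1, hi⟩, rfl⟩
      · have : (i : ℕ) + 1 = n + 1 := by omega
        rw [this, hz]
        exact U.zero_mem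
    | zero => rw [map_zero]; exact U.zero_mem
    | add y z _ _ h1 h3 => rw [map_add]; exact U.add_mem h1 h3
    | smul r y _ h1 => rw [map_smul]; exact U.smul_mem r h1
  have hcU' : ∀ y ∈ U, c y ∈ U := fun y hy => by rw [hcU y hy]; exact U.smul_mem _ hy
  have hcW : ∀ z ∈ W, c z ∈ W := by
    intro z hz'
    apply hWmem
    intro y hy
    have h1 : polar Q (c y) (c z) = 0 := by rw [polar_map hc]; exact hUW y hy z hz'
    rw [hcU y hy, polar_smul_left, smul_eq_mul] at h1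
    exact (mul_eq_zero.1 h1).resolve_left hε0
  have htW : ∀ z ∈ W, t z ∈ W := by
    intro z hz'
    apply hWmem
    intro y hy
    have h1 := hA.skew y z
    rw [hUW _ (htU y hy) z hz', eq_comm, neg_eq_zero] at h1
    exact h1
  obtain ⟨c₁, c₂, f, hf, hcf, h5, h6⟩ := split_of_compl hcompl hUW hcU' hcW
  have hprod : Nondeg ((Q.comp U.subtype).prod (Q.comp W.subtype)) := hf.symm.nondeg hA.nd
  obtain ⟨hnd1, hnd2⟩ := nondeg_of_prod hprod
  have hc₁ : c₁ ∈ O (Q.comp U.subtype) := by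
    intro y
    show Q (c₁ y : V) = Q (y : V)
    rw [h5, mem_O.1 hc]
  have hc₂ : c₂ ∈ O (Q.comp W.subtype) := by
    intro y
    show Q (c₂ y : V) = Q (y : V)
    rw [h6, mem_O.1 hc]
  have hpsi : psi e Q ⟨c, hc⟩ = psi e (Q.comp U.subtype) ⟨c₁, hc₁⟩ * psi e (Q.comp W.subtype) ⟨c₂, hc₂⟩ := by
    rw [← psi_pr e h2 hnd1 hnd2 hc₁ hc₂, ← psi_cj e hf (pr_mem_O hc₁ hc₂)]
    congr 1
    exact Subtype.ext hcf
  have hpsi1 : psi e (Q.comp U.subtype) ⟨c₁, hc₁⟩ = 1 := by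
    rcases mul_self_eq_one_iff.1 hε2 with h | h
    · have : c₁ = 1 := by
        ext y
        rw [h5, hcU y y.2, h, one_smul]
        rfl
      have h7 : (⟨c₁, hc₁⟩ : O (Q.comp U.subtype)) = 1 := Subtype.ext this
      rw [h7, map_one]
    · have : c₁ = LinearEquiv.neg F := by
        ext y
        rw [h5, hcU y y.2, h, neg_one_smul]
        rfl
      have h7 : (⟨c₁, hc₁⟩ : O (Q.comp U.subtype)) = ⟨LinearEquiv.neg F, neg_mem_O _⟩ := Subtype.ext this
      rw [h7, psi_neg e h2 hnd1, hdimU, hdcU, hm1, (hev.add_one).neg_one_pow, he]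
      have hx2 : quadraticChar F 2 ^ 2 = 1 := quadraticChar_sq_one h2
      have h8 : (- quadraticChar F 2) ^ (n + 1) = - quadraticChar F 2 := by
        rw [hev.add_one.neg_pow, pow_succ]
        obtain ⟨r, hr⟩ := hev
        rw [hr, ← two_mul, pow_mul, hx2, one_pow, one_mul]
      rw [h8]
      rcases hd with rfl | rfl
      · linear_combination hx2
      · linear_combination hx2
  have hpsi2 : psi e (Q.comp W.subtype) ⟨c₂, hc₂⟩ = 1 := by
    have hlt : finrank F W < N := by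
      have h7 := Submodule.finrank_add_eq_of_isCompl hcompl
      rw [hdimU, hN] at h7
      omega
    refine ih _ hlt W (Q.comp W.subtype) (t.restrict htW) S (hA.restrict htW hnd2) rfl c₂ hc₂ ?_ ⟨k, ?_⟩
    · intro y
      apply Subtype.ext
      rw [h6, LinearMap.coe_restrict_apply, LinearMap.coe_restrict_apply, h6, hct]
    · have h7 : ∀ (m : ℕ) (y : W), ((c₂ ^ m) y : V) = (c ^ m) y := by
        intro m
        induction m with
        | zero => intro y; rfl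
        | succ m ihm =>
          intro y
          rw [pow_succ', pow_succ']
          show ((c₂ ((c₂ ^ m) y) : W) : V) = c ((c ^ m) y)
          rw [h6, ihm]
      ext y
      rw [h7, hk]
      rfl
  rw [hpsi, hpsi1, hpsi2, one_mul]

/-- **isometries commuting with `t`** -/
theorem psi_comm {V : Type v} [AddCommGroup V] [Module F V] [FiniteDimensional F V] [Finite V] (h2 : (2 : F) ≠ 0)
    (hm1 : quadraticChar F (-1) = -1) {e : ℕ} {d : ℤ}
    (he : (-1) ^ e = - quadraticChar F 2 * d) (hd : d = 1 ∨ d = -1) {Q : QuadraticForm F V}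
    {t : Module.End F V} {S : Set ℕ} (hA : Adm d S Q t) {c : V ≃ₗ[F] V} (hc : c ∈ O Q)
    (hct : ∀ x, c (t x) = t (c x)) : psi e Q ⟨c, hc⟩ = 1 := by
  have hfin : Finite (V ≃ₗ[F] V) := Finite.of_injective (fun g : V ≃ₗ[F] V => (g : V → V)) DFunLike.coe_injective
  obtain ⟨k, m, hm, hkm⟩ := Nat.exists_eq_two_pow_mul_odd (orderOf_pos c).ne'
  have h1 : psi e Q ((⟨c, hc⟩ : O Q) ^ m) = psi e Q ⟨c, hc⟩ := psi_pow_odd e Q _ hm
  rw [← h1]
  refine psi_comm_aux h2 hm1 he hd _ V Q t S hA rfl (c ^ m) ((O Q).pow_mem hc m) ?_ ⟨k, ?_⟩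
  · have : ∀ (r : ℕ) x, (c ^ r) (t x) = t ((c ^ r) x) := by
      intro r
      induction r with
      | zero => intro x; rfl
      | succ r ihr =>
        intro x
        rw [pow_succ']
        show c ((c ^ r) (t x)) = t (c ((c ^ r) x))
        rw [ihr, hct]
    exact this m
  · rw [← pow_mul, mul_comm, ← hkm, pow_orderOf_eq_one]

end Cfsg.Agent.H864.SRN
end

-- part: H864/SRN/Block
section
/-!
# TEAM SR, orthogonal groups, `q = 3 mod 4`: the blocks

* `Jf n c` : the quadratic form on `Fin (n + 1) → F` with polar form `c * altForm n`;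
* `adm_block`, `adm_prod`, `adm_zero`;
* `inv n` : the involution `x_i ↦ (-1)^i x_i`, `psi_inv`.
-/

set_option autoImplicit false
set_option linter.unusedSectionVars false

namespace Cfsg.Agent.H864.SRN

open QuadraticMap Module
open Cfsg.Agent.LieClassical.OrthCore Cfsg.Agent.H160.QSpin Cfsg.Agent.H160.QDisc Cfsg.Agent.H160.QSplit
open Cfsg.Agent.H959

universe u v w

variable {F : Type u} [Field F] [Fintype F] [DecidableEq F]

/-- the form of a block -/
def Jf (n : ℕ) (c : F) : QuadraticForm F (Fin (n + 1) → F) :=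
  (c * 2⁻¹) • LinearMap.BilinMap.toQuadraticMap (altForm n : LinearMap.BilinForm F (Fin (n + 1) → F))

theorem polar_Jf (h2 : (2 : F) ≠ 0) {n : ℕ} (hn : Even n) (c : F) (x y : Fin (n + 1) → F) :
    polar (Jf n c) x y = c * altForm n x y := by
  have h1 : altForm n y x = altForm n x y := by
    rw [altForm_swap, hn.neg_one_pow, one_mul]
  have h3 : polar (Jf n c) x y = (c * 2⁻¹) * (altForm n x y + altForm n y x) := by
    simp only [QuadraticMap.polar, Jf, smul_apply, LinearMap.BilinMap.toQuadraticMap_apply, smul_eq_mul,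
      map_add, LinearMap.add_apply]
    ring
  rw [h3, h1]
  field_simp
  ring

theorem shift_apply_zero {n m : ℕ} {x : Fin (n + 1) → F} (h : ((shift n) ^ (m + 1)) x = 0) {i : Fin (n + 1)}
    (hi : (i : ℕ) + m < n) : x i = 0 := by
  have h1 := congrFun h ⟨(i : ℕ) + m + 1, by omega⟩
  rw [shift_pow, dif_pos (by show m + 1 ≤ (i : ℕ) + m + 1; omega)] at h1
  have h3 : (⟨(i : ℕ) + m + 1 - (m + 1), by omega⟩ : Fin (n + 1)) = i := Fin.ext (by show (i : ℕ) + m + 1 - (m + 1) = i; omega)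
  rw [← h3]
  exact h1

theorem adm_block (h2 : (2 : F) ≠ 0) {n : ℕ} (hn : Even n) {c : F} (hc : c ≠ 0) :
    Adm (quadraticChar F c) {n} (Jf n c) (shift n) := by
  refine ⟨?_, ?_, ⟨n + 1, ?_⟩, ?_, ?_, ?_⟩
  · intro x hx
    apply altForm_nondeg n
    intro y
    have h1 := hx y
    rw [polar_Jf h2 hn] at h1
    exact (mul_eq_zero.1 h1).resolve_left hc
  · intro x y
    rw [polar_Jf h2 hn, polar_Jf h2 hn, altForm_skew, mul_neg]
  · apply LinearMap.ext
    intro x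
    ext i
    rw [shift_pow, dif_neg (by omega)]
    rfl
  · intro m hm
    rw [Set.mem_singleton_iff.1 hm]
    exact hn
  · intro m hm x _ h0
    rw [Set.mem_singleton_iff.1 hm] at h0 ⊢
    have h1 : polar (Jf n c) x (((shift n) ^ n) x) = c * (x 0) ^ 2 := by
      rw [polar_Jf h2 hn, altForm_apply, Finset.sum_eq_single (0 : Fin (n + 1))]
      · rw [shift_pow, dif_pos (by simp)]
        have h3 : (⟨((0 : Fin (n + 1)).rev : ℕ) - n, by omega⟩ : Fin (n + 1)) = 0 := Fin.ext (by simp)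
        rw [h3, Fin.val_zero, pow_zero]
        ring
      · intro i _ hi
        rw [shift_pow, dif_neg, mul_zero]
        rw [Fin.val_rev]
        have : (i : ℕ) ≠ 0 := fun h => hi (Fin.ext h)
        omega
      · intro h
        exact absurd (Finset.mem_univ _) h
    rw [h1] at h0 ⊢
    have hx0 : x 0 ≠ 0 := by
      intro h
      apply h0
      rw [h]; ring
    rw [mul_comm, qc_sq_mul hx0]
  · intro m hm x y hx hy
    rw [polar_Jf h2 hn, altForm_apply]
    rw [Finset.sum_eq_zero, mul_zero]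
    intro i _
    rw [shift_pow]
    split_ifs with h
    · rw [Fin.val_rev] at h
      have hm' : m ≠ n := fun h => hm h
      by_cases hi : (i : ℕ) + m < n
      · rw [shift_apply_zero hx hi]
        ring
      · have hy0 : y ⟨(i.rev : ℕ) - m, by omega⟩ = 0 := by
          apply shift_apply_zero hy
          show (i.rev : ℕ) - m + m < n
          rw [Fin.val_rev]
          omega
        rw [hy0, mul_zero]
    · rw [mul_zero]

section prod

variable {V : Type v} {W : Type w} [AddCommGroup V] [Module F V] [AddCommGroup W] [Module F W]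

theorem adm_prod {d : ℤ} {S₁ S₂ : Set ℕ} {Q₁ : QuadraticForm F V} {Q₂ : QuadraticForm F W} {t₁ : Module.End F V}
    {t₂ : Module.End F W} (h₁ : Adm d S₁ Q₁ t₁) (h₂ : Adm d S₂ Q₂ t₂) (hd : ∀ n ∈ S₁, n ∉ S₂) :
    Adm d (S₁ ∪ S₂) (Q₁.prod Q₂) (LinearMap.prodMap t₁ t₂) := by
  refine ⟨nondeg_prod h₁.nd h₂.nd, ?_, ?_, ?_, ?_, ?_⟩
  · intro x y
    rw [polar_pr, polar_pr, neg_add]
    exact congrArg₂ (· + ·) (h₁.skew _ _) (h₂.skew _ _)
  · obtain ⟨N₁, h3⟩ := h₁.nil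
    obtain ⟨N₂, h4⟩ := h₂.nil
    refine ⟨N₁ + N₂, ?_⟩
    rw [prodMap_pow, pow_add, h3, zero_mul, add_comm, pow_add, h4, zero_mul]
    rfl
  · rintro n (hn | hn)
    · exact h₁.even n hn
    · exact h₂.even n hn
  · rintro n hn x hx h0
    rw [prodMap_pow] at hx h0 ⊢
    rw [polar_pr] at h0 ⊢
    have hx1 : (t₁ ^ (n + 1)) x.1 = 0 := congrArg Prod.fst hx
    have hx2 : (t₂ ^ (n + 1)) x.2 = 0 := congrArg Prod.snd hx
    change polar Q₁ x.1 ((t₁ ^ n) x.1) + polar Q₂ x.2 ((t₂ ^ n) x.2) ≠ 0 at h0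
    show quadraticChar F (polar Q₁ x.1 ((t₁ ^ n) x.1) + polar Q₂ x.2 ((t₂ ^ n) x.2)) = d
    by_cases h : n ∈ S₁
    · have h4 := h₂.off n (hd n h) x.2 x.2 hx2 hx2
      rw [h4, add_zero] at h0 ⊢
      exact h₁.on n h x.1 hx1 h0
    · have h4 := h₁.off n h x.1 x.1 hx1 hx1
      rw [h4, zero_add] at h0 ⊢
      exact h₂.on n (hn.resolve_left h) x.2 hx2 h0
  · intro n hn x y hx hy
    rw [prodMap_pow] at hx hy ⊢
    rw [polar_pr]
    have hx1 : (t₁ ^ (n + 1)) x.1 = 0 := congrArg Prod.fst hx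
    have hx2 : (t₂ ^ (n + 1)) x.2 = 0 := congrArg Prod.snd hx
    have hy1 : (t₁ ^ (n + 1)) y.1 = 0 := congrArg Prod.fst hy
    have hy2 : (t₂ ^ (n + 1)) y.2 = 0 := congrArg Prod.snd hy
    show polar Q₁ x.1 ((t₁ ^ n) y.1) + polar Q₂ x.2 ((t₂ ^ n) y.2) = 0
    rw [h₁.off n (fun h => hn (Or.inl h)) _ _ hx1 hy1, h₂.off n (fun h => hn (Or.inr h)) _ _ hx2 hy2, add_zero]

theorem adm_zero [Subsingleton V] (d : ℤ) (Q : QuadraticForm F V) : Adm d ∅ Q (0 : Module.End F V) := by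
  have h0 : ∀ x : V, x = 0 := fun x => Subsingleton.elim _ _
  refine ⟨fun x _ => h0 x, ?_, ⟨1, by rw [pow_one]⟩, ?_, ?_, ?_⟩
  · intro x y
    rw [h0 ((0 : Module.End F V) x), h0 ((0 : Module.End F V) y), polar_zero_left, polar_zero_right, neg_zero]
  · intro n hn; exact hn.elim
  · intro n hn; exact hn.elim
  · intro n _ x y _ _
    rw [h0 ((((0 : Module.End F V)) ^ n) y), polar_zero_right]

end prod

end Cfsg.Agent.H864.SRN
end

-- part: H864/SRN/Inv
section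
/-!
# TEAM SR, orthogonal groups, `q = 3 mod 4`: the inverter of a block
-/

set_option autoImplicit false
set_option linter.unusedSectionVars false

namespace Cfsg.Agent.H864.SRN

open QuadraticMap Module
open Cfsg.Agent.LieClassical.OrthCore Cfsg.Agent.H160.QSpin Cfsg.Agent.H160.QDisc Cfsg.Agent.H160.QSplit
open Cfsg.Agent.H959

universe u v w

variable {F : Type u} [Field F] [Fintype F] [DecidableEq F]

/-- interleaving -/
def sp (m : ℕ) : ((Fin m → F) × (Fin (m + 1) → F)) ≃ₗ[F] (Fin (2 * m + 1) → F) where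
  toFun p i := if h : (i : ℕ) % 2 = 1 then p.1 ⟨(i : ℕ) / 2, by omega⟩ else p.2 ⟨(i : ℕ) / 2, by omega⟩
  map_add' p p' := by
    ext i
    by_cases h : (i : ℕ) % 2 = 1 <;> simp only [h, ↓ _root_.reduceDIte, _root_.Prod.fst_add, _root_.Pi.add_apply, _root_.Prod.snd_add]
  map_smul' r p := by
    ext i
    by_cases h : (i : ℕ) % 2 = 1 <;> simp [h]
  invFun w := (fun j => w ⟨2 * j + 1, by omega⟩, fun j => w ⟨2 * j, by omega⟩)
  left_inv p := by
    apply Prod.ext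
    · ext j
      show dite _ _ _ = _
      rw [dif_pos (by show (2 * (j : ℕ) + 1) % 2 = 1; omega)]
      exact congrArg p.1 (Fin.ext (by show (2 * (j : ℕ) + 1) / 2 = j; omega))
    · ext j
      show dite _ _ _ = _
      rw [dif_neg (by show ¬ (2 * (j : ℕ)) % 2 = 1; omega)]
      exact congrArg p.2 (Fin.ext (by show (2 * (j : ℕ)) / 2 = j; omega))
  right_inv w := by
    ext i
    by_cases h : (i : ℕ) % 2 = 1
    · simp only [h, dif_pos]
      congr 1
      exact Fin.ext (by show 2 * ((i : ℕ) / 2) + 1 = i; omega)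
    · simp only [h, dif_neg, not_false_eq_true]
      congr 1
      exact Fin.ext (by show 2 * ((i : ℕ) / 2) = i; omega)

theorem sp_odd (m : ℕ) (p : (Fin m → F) × (Fin (m + 1) → F)) (i : Fin (2 * m + 1)) (h : (i : ℕ) % 2 = 1) :
    sp m p i = p.1 ⟨(i : ℕ) / 2, by omega⟩ := dif_pos h

theorem sp_even (m : ℕ) (p : (Fin m → F) × (Fin (m + 1) → F)) (i : Fin (2 * m + 1)) (h : ¬ (i : ℕ) % 2 = 1) :
    sp m p i = p.2 ⟨(i : ℕ) / 2, by omega⟩ := dif_neg h

theorem neg_pow_mul_self (i : ℕ) : ((-1 : F) ^ i) * (-1) ^ i = 1 := by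
  rw [← mul_pow]; simp

/-- the involution `x_i ↦ (-1)^i x_i` -/
def inv (n : ℕ) : (Fin (n + 1) → F) ≃ₗ[F] (Fin (n + 1) → F) where
  toFun x i := (-1) ^ (i : ℕ) * x i
  map_add' x y := by ext i; simp only [mul_add, _root_.Pi.add_apply, _root_.mul_add]
  map_smul' r x := by ext i; simp only [_root_.Pi.smul_apply, _root_.smul_eq_mul, _root_.RingHom.id_apply]; ring
  invFun x i := (-1) ^ (i : ℕ) * x i
  left_inv x := by
    ext i
    show (-1) ^ (i : ℕ) * ((-1) ^ (i : ℕ) * x i) = x i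
    rw [← mul_assoc, neg_pow_mul_self, one_mul]
  right_inv x := by
    ext i
    show (-1) ^ (i : ℕ) * ((-1) ^ (i : ℕ) * x i) = x i
    rw [← mul_assoc, neg_pow_mul_self, one_mul]

theorem inv_apply (n : ℕ) (x : Fin (n + 1) → F) (i : Fin (n + 1)) : inv n x i = (-1) ^ (i : ℕ) * x i := rfl

theorem altForm_inv {n : ℕ} (hn : Even n) (x y : Fin (n + 1) → F) : altForm n (inv n x) (inv n y) = altForm n x y := by
  rw [altForm_apply, altForm_apply]
  refine Finset.sum_congr rfl fun i _ => ?_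
  rw [inv_apply, inv_apply]
  have h : (-1 : F) ^ (i : ℕ) * (-1) ^ ((i.rev : Fin (n + 1)) : ℕ) = 1 := by
    rw [← pow_add]
    have : (i : ℕ) + (i.rev : Fin (n + 1)) = n := by rw [Fin.val_rev]; omega
    rw [this, hn.neg_one_pow]
  linear_combination (-1 : F) ^ (i : ℕ) * x i * y i.rev * h

theorem inv_mem {n : ℕ} (hn : Even n) (c : F) : (inv n : (Fin (n + 1) → F) ≃ₗ[F] (Fin (n + 1) → F)) ∈ O (Jf n c) := by
  intro x
  show (c * 2⁻¹) • (altForm n (inv n x) (inv n x)) = (c * 2⁻¹) • (altForm n x x)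
  rw [altForm_inv hn]

theorem inv_shift (n : ℕ) (x : Fin (n + 1) → F) : inv n (shift n x) = - shift n (inv n x) := by
  ext i
  rw [inv_apply, Pi.neg_apply]
  refine Fin.cases ?_ (fun k => ?_) i
  · rw [shift_zero, shift_zero]; simp
  · rw [shift_succ, shift_succ, inv_apply, Fin.val_succ, Fin.val_castSucc, pow_succ]
    ring

theorem altForm_single (n : ℕ) (a b : Fin (n + 1)) :
    altForm n (Pi.single a (1 : F)) (Pi.single b 1) = (-1) ^ (a : ℕ) * (Pi.single b (1 : F) : Fin (n + 1) → F) a.rev := by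
  rw [altForm_apply, Finset.sum_eq_single a]
  · rw [Pi.single_eq_same, mul_one]
  · intro i _ hi
    rw [Pi.single_eq_of_ne hi, mul_zero, zero_mul]
  · intro h
    exact absurd (Finset.mem_univ _) h

theorem sp_single (m : ℕ) (j : Fin m) : sp m (Pi.single j (1 : F), 0) = Pi.single ⟨2 * j + 1, by omega⟩ 1 := by
  ext i
  by_cases h : (i : ℕ) % 2 = 1
  · rw [sp_odd _ _ _ h]
    show (Pi.single j (1 : F) : Fin m → F) _ = _
    by_cases hj : (i : ℕ) / 2 = j
    · have h1 : (⟨(i : ℕ) / 2, by omega⟩ : Fin m) = j := Fin.ext hj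
      have h3 : i = ⟨2 * j + 1, by omega⟩ := Fin.ext (by show (i : ℕ) = 2 * j + 1; omega)
      rw [h1, Pi.single_eq_same, h3, Pi.single_eq_same]
    · rw [Pi.single_eq_of_ne, Pi.single_eq_of_ne]
      · intro h3
        apply hj
        rw [h3]
        show (2 * (j : ℕ) + 1) / 2 = j
        omega
      · intro h1
        exact hj (congrArg Fin.val h1)
  · rw [sp_even _ _ _ h, Pi.single_eq_of_ne]
    · rfl
    · intro h3
      apply h
      rw [h3]
      show (2 * (j : ℕ) + 1) % 2 = 1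
      omega

theorem polar_compL {V : Type v} {W : Type w} [AddCommGroup V] [Module F V] [AddCommGroup W] [Module F W]
    (Q : QuadraticForm F W) (f : V →ₗ[F] W) (x y : V) : polar (Q.comp f) x y = polar Q (f x) (f y) := by
  simp only [QuadraticMap.polar, QuadraticMap.comp_apply, map_add]

theorem psi_inv (h2 : (2 : F) ≠ 0) (hm1 : quadraticChar F (-1) = -1) {e : ℕ} {c : F} (hc : c ≠ 0)
    (he : (-1) ^ e = - quadraticChar F 2 * quadraticChar F c) (m : ℕ) (hO : inv (2 * m) ∈ O (Jf (2 * m) c)) :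
    psi e (Jf (2 * m) c) ⟨inv (2 * m), hO⟩ = ∏ j : Fin m, (-1) ^ ((j : ℕ) + 1) := by
  have hev : Even (2 * m) := even_two_mul m
  have hA := adm_block (F := F) h2 hev hc
  set! Q := Jf (2 * m) c with hQ; rewrite [← hQ] at hA hO
  set! Q₁ : QuadraticForm F (Fin m → F) :=
    Q.comp ((sp (F := F) m).toLinearMap.comp (LinearMap.inl F (Fin m → F) (Fin (m + 1) → F))) with hQ₁
  set! Q₂ : QuadraticForm F (Fin (m + 1) → F) :=
    Q.comp ((sp (F := F) m).toLinearMap.comp (LinearMap.inr F (Fin m → F) (Fin (m + 1) → F))) with hQ₂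
  have hiso : IsIso (Q₁.prod Q₂) Q (sp m) := by
    rintro ⟨x, y⟩
    show Q (sp m (x, y)) = Q (sp m (x, 0)) + Q (sp m (0, y))
    have h1 : sp m (x, y) = sp m (x, 0) + sp m (0, y) := by rw [← map_add]; simp
    rw [h1, Q_add]
    have h3 : polar Q (sp m (x, 0)) (sp m (0, y)) = 0 := by
      rw [hQ, polar_Jf h2 hev, altForm_apply, Finset.sum_eq_zero, mul_zero]
      intro i _
      by_cases h : (i : ℕ) % 2 = 1
      · have h4 : ((i.rev : Fin (2 * m + 1)) : ℕ) % 2 = 1 := by rw [Fin.val_rev]; omega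
        rw [sp_odd _ _ _ h4]
        simp only [_root_.Pi.zero_apply, _root_.MulZeroClass.mul_zero]
      · rw [sp_even _ _ _ h]
        simp only [_root_.Pi.zero_apply, _root_.MulZeroClass.mul_zero, _root_.MulZeroClass.zero_mul]
    rw [h3, add_zero]
  have hinv : cj (sp (F := F) m) (pr (LinearEquiv.neg F) (1 : (Fin (m + 1) → F) ≃ₗ[F] (Fin (m + 1) → F))) =
      inv (2 * m) := by
    symm
    ext1 w
    obtain ⟨⟨x, y⟩, rfl⟩ := (sp m).surjective w
    rw [cj_apply']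
    ext i
    rw [inv_apply]
    by_cases h : (i : ℕ) % 2 = 1
    · rw [sp_odd _ _ _ h, sp_odd _ _ _ h]
      have hi : Odd (i : ℕ) := Nat.odd_iff.2 h
      rw [hi.neg_one_pow, neg_one_mul]
      rfl
    · rw [sp_even _ _ _ h, sp_even _ _ _ h]
      have hi : Even (i : ℕ) := Nat.even_iff.2 (by omega)
      rw [hi.neg_one_pow, one_mul]
      rfl
  obtain ⟨hnd1, hnd2⟩ := nondeg_of_prod (hiso.symm.nondeg hA.nd)
  have hpsi : psi e Q ⟨inv (2 * m), hO⟩ = psi e Q₁ ⟨LinearEquiv.neg F, neg_mem_O Q₁⟩ := by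
    have h1 := psi_pr e h2 hnd1 hnd2 (neg_mem_O Q₁) (O Q₂).one_mem
    have h3 : psi e Q₂ ⟨1, (O Q₂).one_mem⟩ = 1 := map_one (psi e Q₂)
    rw [h3, mul_one] at h1
    rw [← h1, ← psi_cj e hiso (pr_mem_O (neg_mem_O Q₁) (O Q₂).one_mem)]
    congr 1
    exact Subtype.ext hinv.symm
  have hpol : ∀ i j : Fin m, polar Q₁ ((Pi.basisFun F (Fin m)) i) ((Pi.basisFun F (Fin m)) j) =
      if j = i.rev then -c else 0 := by
    intro i j
    rw [Pi.basisFun_apply, Pi.basisFun_apply]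
    rw [hQ₁, polar_compL]
    show polar Q (sp m (Pi.single i 1, 0)) (sp m (Pi.single j 1, 0)) = _
    rw [hQ, polar_Jf h2 hev, sp_single, sp_single, altForm_single]
    have hi : Odd (2 * (i : ℕ) + 1) := odd_two_mul_add_one _
    show c * ((-1) ^ (2 * (i : ℕ) + 1) * _) = _
    rw [hi.neg_one_pow]
    split_ifs with h
    · rw [h]
      have h3 : (⟨2 * (i : ℕ) + 1, by omega⟩ : Fin (2 * m + 1)).rev = ⟨2 * (i.rev : Fin m) + 1, by omega⟩ := by
        apply Fin.ext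
        rw [Fin.val_rev]
        show 2 * m + 1 - (2 * (i : ℕ) + 1 + 1) = 2 * ((i.rev : Fin m) : ℕ) + 1
        rw [Fin.val_rev]
        omega
      rw [h3, Pi.single_eq_same]
      ring
    · rw [Pi.single_eq_of_ne]
      · ring
      · intro h3
        apply h
        have h4 := congrArg Fin.val h3
        rw [Fin.val_rev] at h4
        apply Fin.ext
        rw [Fin.val_rev]
        change 2 * m + 1 - (2 * (i : ℕ) + 1 + 1) = 2 * (j : ℕ) + 1 at h4
        omega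
  have hdc : dc Q₁ = quadraticChar F (∏ i : Fin m, ((-1) ^ (i : ℕ) * (-c))) := by
    rw [dc_anti (Pi.basisFun F (Fin m))]
    · simp only [hpol, if_true]
    · intro i j hij
      rw [hpol, if_neg]
      rintro rfl
      rw [Fin.val_rev] at hij
      omega
  have hx2 : quadraticChar F 2 ^ 2 = 1 := quadraticChar_sq_one h2
  have hxc : quadraticChar F c ^ 2 = 1 := quadraticChar_sq_one hc
  have h5 : (- quadraticChar F 2) ^ m = ∏ _i : Fin m, (- quadraticChar F 2) := by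
    rw [Finset.prod_const, Finset.card_univ, Fintype.card_fin]
  have h6 : ((-1 : ℤ) ^ m) ^ e = ∏ _i : Fin m, (- quadraticChar F 2 * quadraticChar F c) := by
    rw [Finset.prod_const, Finset.card_univ, Fintype.card_fin, ← he, ← pow_mul, ← pow_mul, mul_comm]
  rw [hpsi, psi_neg e h2 hnd1, hm1, finrank_fintype_fun_eq_card, Fintype.card_fin, hdc, map_prod, h5, h6,
    ← Finset.prod_mul_distrib, ← Finset.prod_mul_distrib]
  refine Finset.prod_congr rfl fun i _ => ?_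
  have h7 : quadraticChar F ((-1) ^ (i : ℕ) * (-c)) = (-1) ^ (i : ℕ) * (- quadraticChar F c) := by
    rw [map_mul, map_pow, hm1, ← neg_one_mul c, map_mul, hm1, neg_one_mul]
  rw [h7, pow_succ]
  linear_combination (-1 : ℤ) ^ (i : ℕ) * (- quadraticChar F c ^ 2 * hx2 - hxc)

/-- the sign -/
def sg (m : ℕ) : ℤ := ∏ j : Fin m, (-1) ^ ((j : ℕ) + 1)

theorem sg_succ (m : ℕ) : sg (m + 1) = sg m * (-1) ^ (m + 1) := by
  unfold sg
  rw [Fin.prod_univ_castSucc]
  rfl

theorem sg_add_four (m : ℕ) : sg (m + 4) = sg m := by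
  rw [sg_succ, sg_succ, sg_succ, sg_succ, mul_assoc, mul_assoc, mul_assoc, ← pow_add, ← pow_add, ← pow_add]
  have : Even (m + 1 + (m + 1 + 1 + (m + 2 + 1 + (m + 3 + 1)))) := ⟨2 * m + 5, by ring⟩
  rw [this.neg_one_pow, mul_one]

theorem sg_eq (m : ℕ) : sg m = if m % 4 = 1 ∨ m % 4 = 2 then -1 else 1 := by
  induction m using Nat.strong_induction_on with
  | _ m ih =>
    by_cases h : m < 4
    · interval_cases m <;> simp only [sg, Fin.prod_univ_succ, _root_.Cfsg.Agent.H864.SRN.sg, _root_.Finset.univ_eq_empty, _root_.Int.reduceNeg, _root_.Finset.prod_empty, _root_.Nat.zero_mod, _root_.zero_ne_one, _root_.OfNat.zero_ne_ofNat, _root_.or_self, ↓ _root_.reduceIte, _root_.Finset.univ_unique, _root_.Fin.default_eq_zero, _root_.Fin.isValue, _root_.Fin.val_eq_zero, _root_.zero_add, _root_.pow_one, _root_.Finset.prod_const, _root_.Finset.card_singleton, _root_.Nat.one_mod, _root_.OfNat.one_ne_ofNat, _root_.or_false, _root_.Fin.prod_univ_succ,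 _root_.Fin.coe_ofNat_eq_mod, _root_.Fin.val_succ, _root_.Nat.reduceAdd, _root_.even_two, _root_.Even.neg_pow, _root_.one_pow, _root_.Finset.prod_const_one, _root_.mul_one, _root_.Nat.reduceMod, _root_.OfNat.ofNat_ne_one, _root_.or_true, _root_.Int.reducePow, _root_.mul_neg, _root_.neg_neg, _root_.Nat.mod_succ, _root_.Nat.succ_ne_self]
    · obtain ⟨k, rfl⟩ : ∃ k, m = k + 4 := ⟨m - 4, by omega⟩
      rw [sg_add_four, ih k (by omega), Nat.add_mod_right]

end Cfsg.Agent.H864.SRN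
end

-- part: H864/SRN/Cay
section
/-!
# TEAM SR, orthogonal groups, `q = 3 mod 4`: Cayley transforms and pairs

* `Cay t g` : `g = (1 + t) / (1 - t)`;
* `Cay.mem`, `Cay.pow_one` : `g` is an isometry of odd order;
* `Cay.comm` : maps commuting with `g` commute with `t`; `Cay.inv` : maps negating `t` invert `g`;
* `exists_pr_of_comm` : isometries commuting with `pr g₁ (-g₂)` are of the form `pr c₁ c₂`.
-/

set_option autoImplicit false
set_option linter.unusedSectionVars false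

namespace Cfsg.Agent.H864.SRN

open QuadraticMap Module
open Cfsg.Agent.LieClassical.OrthCore Cfsg.Agent.H160.QSpin Cfsg.Agent.H160.QDisc Cfsg.Agent.H160.QSplit

universe u v w

variable {F : Type u} {V : Type v} {W : Type w} [Field F] [AddCommGroup V] [Module F V] [AddCommGroup W] [Module F W]

/-- `g = (1 + t) / (1 - t)` -/
def Cay (t : Module.End F V) (g : V ≃ₗ[F] V) : Prop := ∀ x, g (x - t x) = x + t x

theorem exists_cay {t : Module.End F V} (ht : ∃ n, t ^ n = 0) : ∃ g, Cay t g := by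
  obtain ⟨n, hn⟩ := ht
  have hnil : IsNilpotent t := ⟨n, hn⟩
  have h1 := (Module.End.isUnit_iff _).1 hnil.isUnit_one_sub
  have h2 := (Module.End.isUnit_iff _).1 hnil.isUnit_one_add
  refine ⟨(LinearEquiv.ofBijective (1 - t) h1).symm.trans (LinearEquiv.ofBijective (1 + t) h2), fun x => ?_⟩
  have h3 : x - t x = LinearEquiv.ofBijective (1 - t) h1 x := rfl
  rw [h3, LinearEquiv.trans_apply, LinearEquiv.symm_apply_apply]
  rfl

variable {t : Module.End F V} {g : V ≃ₗ[F] V}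

theorem Cay.surj (ht : ∃ n, t ^ n = 0) (y : V) : ∃ x, y = x - t x := by
  obtain ⟨n, hn⟩ := ht
  have hnil : IsNilpotent t := ⟨n, hn⟩
  obtain ⟨x, hx⟩ := ((Module.End.isUnit_iff _).1 hnil.isUnit_one_sub).2 y
  exact ⟨x, hx.symm⟩

theorem Cay.mem {Q : QuadraticForm F V} (h2 : (2 : F) ≠ 0) (ht : ∃ n, t ^ n = 0)
    (hs : ∀ x y, polar Q (t x) y = - polar Q x (t y)) (h : Cay t g) : g ∈ O Q := by
  intro y
  obtain ⟨x, rfl⟩ := Cay.surj ht y
  have h1 : polar Q x (t x) = 0 := by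
    have h3 := hs x x
    rw [polar_comm] at h3
    have h4 : 2 * polar Q x (t x) = 0 := by linear_combination h3
    exact (mul_eq_zero.1 h4).resolve_left h2
  have h5 : Q (x - t x) = Q x + Q (t x) - polar Q x (t x) := by
    rw [sub_eq_add_neg, Q_add, Q.map_neg, polar_neg_right]
    ring
  rw [h, Q_add, h5, h1]
  ring

theorem Cay.t_comm (ht : ∃ n, t ^ n = 0) (h : Cay t g) (y : V) : g (t y) = t (g y) := by
  obtain ⟨x, rfl⟩ := Cay.surj ht y
  rw [h, map_sub, h, map_add]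

theorem Cay.unip (ht : ∃ n, t ^ n = 0) (h : Cay t g) : ∃ n, (en g - 1) ^ n = 0 := by
  obtain ⟨n, hn⟩ := ht
  refine ⟨n, ?_⟩
  have h1 : (en g - 1) * (1 - t) = (2 : F) • t := by
    apply LinearMap.ext
    intro x
    show g (x - t x) - (x - t x) = (2 : F) • t x
    rw [h, two_smul]
    abel
  have hc : Commute (en g - 1) (1 - t) := by
    apply LinearMap.ext
    intro x
    show g (x - t x) - (x - t x) = (g x - x) - t (g x - x)
    rw [map_sub, map_sub, h.t_comm ⟨n, hn⟩]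
    abel
  have h3 : ((en g - 1) * (1 - t)) ^ n = 0 := by rw [h1, smul_pow, hn, smul_zero]
  rw [hc.mul_pow] at h3
  have hnil : IsNilpotent t := ⟨n, hn⟩
  have hu : IsUnit ((1 - t) ^ n) := hnil.isUnit_one_sub.pow n
  exact (hu.mul_left_eq_zero).1 h3

theorem Cay.pow_one [Finite F] (h2 : (2 : F) ≠ 0) (ht : ∃ n, t ^ n = 0) (h : Cay t g) : ∃ M, Odd M ∧ g ^ M = 1 := by
  obtain ⟨p, hp⟩ := CharP.exists F
  have hpp : Fact p.Prime := ⟨CharP.char_is_prime F p⟩
  obtain ⟨n, hn⟩ := h.unip ht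
  have hlt : n < p ^ n := Nat.lt_pow_self hpp.out.one_lt
  refine ⟨p ^ n, ?_, Cfsg.Agent.H160.QUpper.unip_pow (p := p) hn hlt.le⟩
  apply Odd.pow
  rcases hpp.out.eq_two_or_odd' with rfl | h3
  · exact absurd (CharP.cast_eq_zero F 2) (by exact_mod_cast h2)
  · exact h3

theorem Cay.key (ht : ∃ n, t ^ n = 0) (h : Cay t g) (y : V) : t (g y + y) = g y - y := by
  obtain ⟨x, rfl⟩ := Cay.surj ht y
  rw [h]
  have h1 : x + t x + (x - t x) = x + x := by abel
  have h3 : x + t x - (x - t x) = t x + t x := by abel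
  rw [h1, h3, map_add]

theorem Cay.surj' (h2 : (2 : F) ≠ 0) (h : Cay t g) (z : V) : ∃ y, z = g y + y := by
  refine ⟨((2 : F)⁻¹ • z) - t ((2 : F)⁻¹ • z), ?_⟩
  rw [h]
  have h1 : (2 : F)⁻¹ • z + t ((2 : F)⁻¹ • z) + ((2 : F)⁻¹ • z - t ((2 : F)⁻¹ • z)) = (2 : F) • ((2 : F)⁻¹ • z) := by
    rw [two_smul]; abel
  rw [h1, smul_smul, mul_inv_cancel₀ h2, one_smul]

/-- maps commuting with `g` commute with `t` -/
theorem Cay.comm (h2 : (2 : F) ≠ 0) (ht : ∃ n, t ^ n = 0) (h : Cay t g) {c : V ≃ₗ[F] V} (hc : ∀ x, c (g x) = g (c x))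
    (z : V) : c (t z) = t (c z) := by
  obtain ⟨y, rfl⟩ := h.surj' h2 z
  rw [h.key ht, map_sub, map_add, hc, h.key ht]

/-- maps negating `t` invert `g` -/
theorem Cay.inv (ht : ∃ n, t ^ n = 0) (h : Cay t g) {k : V ≃ₗ[F] V} (hk : ∀ x, k (t x) = - t (k x)) :
    k * g * k⁻¹ = g⁻¹ := by
  rw [mul_inv_eq_iff_eq_mul, eq_inv_mul_iff_mul_eq]
  ext y
  obtain ⟨x, rfl⟩ := Cay.surj ht y
  show g (k (g (x - t x))) = k (x - t x)
  rw [h, map_add, map_sub, hk, ← sub_eq_add_neg, h, sub_neg_eq_add]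

/-! ### Pairs -/

theorem exists_pr [FiniteDimensional F V] [FiniteDimensional F W] {c : (V × W) ≃ₗ[F] (V × W)}
    (h1 : ∀ x, (c (x, 0)).2 = 0) (h2 : ∀ y, (c (0, y)).1 = 0) : ∃ c₁ c₂, c = pr c₁ c₂ := by
  let f₁ : V →ₗ[F] V := (LinearMap.fst F V W).comp (c.toLinearMap.comp (LinearMap.inl F V W))
  let f₂ : W →ₗ[F] W := (LinearMap.snd F V W).comp (c.toLinearMap.comp (LinearMap.inr F V W))
  have e₁ : ∀ x, c (x, 0) = (f₁ x, 0) := fun x => Prod.ext rfl (h1 x)
  have e₂ : ∀ y, c (0, y) = (0, f₂ y) := fun y => Prod.ext (h2 y) rfl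
  have i₁ : Function.Injective f₁ := by
    rw [injective_iff_map_eq_zero]
    intro x hx
    have h3 := e₁ x
    rw [hx] at h3
    have h4 : ((x, 0) : V × W) = 0 := c.map_eq_zero_iff.1 h3
    exact congrArg Prod.fst h4
  have i₂ : Function.Injective f₂ := by
    rw [injective_iff_map_eq_zero]
    intro y hy
    have h3 := e₂ y
    rw [hy] at h3
    have h4 : ((0, y) : V × W) = 0 := c.map_eq_zero_iff.1 h3
    exact congrArg Prod.snd h4
  refine ⟨LinearEquiv.ofInjectiveEndo f₁ i₁, LinearEquiv.ofInjectiveEndo f₂ i₂, ?_⟩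
  ext1 ⟨x, y⟩
  have h3 : ((x, y) : V × W) = (x, 0) + (0, y) := by simp
  rw [h3, map_add, e₁, e₂, ← h3, pr_apply]
  simp only [Prod.mk_add_mk, add_zero, zero_add]
  rfl

/-- the involution `1, -1` -/
def zz : (V × W) ≃ₗ[F] (V × W) := pr 1 (LinearEquiv.neg F)

theorem pair_pow {g₁ : V ≃ₗ[F] V} {g₂ : W ≃ₗ[F] W} {M : ℕ} (hM : Odd M) (h1 : g₁ ^ M = 1) (h2 : g₂ ^ M = 1) :
    (pr g₁ (LinearEquiv.neg F * g₂)) ^ M = (zz : (V × W) ≃ₗ[F] (V × W)) := by
  rw [pr_pow, h1, (Cfsg.Agent.H160.QUpper.neg_comm g₂).mul_pow, h2, mul_one]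
  obtain ⟨k, rfl⟩ := hM
  rw [pow_succ, pow_mul, Cfsg.Agent.H160.QUpper.neg_pow_two, one_pow, one_mul]
  rfl

theorem half_zero (h2 : (2 : F) ≠ 0) {x : V} (h : x = -x) : x = 0 := by
  have h1 : (2 : F) • x = 0 := by
    rw [two_smul]
    nth_rewrite 1 [h]
    rw [neg_add_cancel]
  exact (smul_eq_zero.1 h1).resolve_left h2

theorem exists_pr_of_comm [FiniteDimensional F V] [FiniteDimensional F W] (h2 : (2 : F) ≠ 0)
    {c : (V × W) ≃ₗ[F] (V × W)} (h : c * zz = zz * c) : ∃ c₁ c₂, c = pr c₁ c₂ := by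
  have hc : ∀ v, c (zz v) = zz (c v) := fun v => LinearEquiv.congr_fun h v
  refine exists_pr (fun x => ?_) fun y => ?_
  · have h1 := hc (x, 0)
    have h3 : zz (F := F) ((x, 0) : V × W) = (x, 0) := Prod.ext rfl neg_zero
    rw [h3] at h1
    exact half_zero h2 (congrArg Prod.snd h1)
  · have h1 := hc (0, y)
    have h3 : zz (F := F) ((0, y) : V × W) = -(0, y) := Prod.ext neg_zero.symm rfl
    rw [h3, map_neg] at h1
    have h4 : -(c (0, y)).1 = (c (0, y)).1 := congrArg Prod.fst h1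
    exact half_zero h2 h4.symm

theorem finrank_eq_of_anti [FiniteDimensional F V] [FiniteDimensional F W] (h2 : (2 : F) ≠ 0)
    {k : (V × W) ≃ₗ[F] (V × W)} (h : k * zz = LinearEquiv.neg F * (zz * k)) : finrank F V = finrank F W := by
  have hk : ∀ v, k (zz v) = - zz (k v) := fun v => LinearEquiv.congr_fun h v
  have e₁ : ∀ x : V, (k (x, 0)).1 = 0 := by
    intro x
    have h1 := hk (x, 0)
    have h3 : zz (F := F) ((x, 0) : V × W) = (x, 0) := Prod.ext rfl neg_zero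
    rw [h3] at h1
    exact half_zero h2 (congrArg Prod.fst h1)
  have e₂ : ∀ y : W, (k (0, y)).2 = 0 := by
    intro y
    have h1 := hk (0, y)
    have h3 : zz (F := F) ((0, y) : V × W) = -(0, y) := Prod.ext neg_zero.symm rfl
    rw [h3, map_neg, neg_inj] at h1
    exact half_zero h2 (congrArg Prod.snd h1)
  apply le_antisymm
  · let f : V →ₗ[F] W := (LinearMap.snd F V W).comp (k.toLinearMap.comp (LinearMap.inl F V W))
    apply LinearMap.finrank_le_finrank_of_injective (f := f)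
    rw [injective_iff_map_eq_zero]
    intro x hx
    have h3 : k (x, 0) = 0 := Prod.ext (e₁ x) hx
    have h4 : ((x, 0) : V × W) = 0 := k.map_eq_zero_iff.1 h3
    exact congrArg Prod.fst h4
  · let f : W →ₗ[F] V := (LinearMap.fst F V W).comp (k.toLinearMap.comp (LinearMap.inr F V W))
    apply LinearMap.finrank_le_finrank_of_injective (f := f)
    rw [injective_iff_map_eq_zero]
    intro x hx
    have h3 : k (0, x) = 0 := Prod.ext hx (e₂ x)
    have h4 : ((0, x) : V × W) = 0 := k.map_eq_zero_iff.1 h3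
    exact congrArg Prod.snd h4

end Cfsg.Agent.H864.SRN
end

-- part: H864/SRN/Pair
section
/-!
# TEAM SR, orthogonal groups, `q = 3 mod 4`: non-real elements

* `Data e d Q` : there is an element `G` of the kernel of determinant and spinor sign such that no such element
  conjugates `G` to `± G⁻¹`;
* `data_pair` : it exists for sums of two admissible spaces of different dimensions;
* `nrel_of_data` : then `POmega F Q` has a non-real element.
-/

set_option autoImplicit false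
set_option linter.unusedSectionVars false

namespace Cfsg.Agent.H864.SRN

open QuadraticMap Module
open Cfsg.Agent.LieClassical.OrthCore Cfsg.Agent.H160.QSpin Cfsg.Agent.H160.QDisc Cfsg.Agent.H160.QSplit

universe u v w

/-- existence of an element not conjugate to `± G⁻¹` -/
def NR {F : Type u} {V : Type v} [Field F] [AddCommGroup V] [Module F V] [Finite V] (Q : QuadraticForm F V) : Prop :=
  ∃ G : V ≃ₗ[F] V, El Q 1 G ∧ ∀ k : V ≃ₗ[F] V, El Q 1 k →
    k * G * k⁻¹ ≠ G⁻¹ ∧ k * G * k⁻¹ ≠ LinearEquiv.neg F * G⁻¹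

section

variable {F : Type u} {V : Type v} {W : Type w} [Field F] [AddCommGroup V] [Module F V] [AddCommGroup W] [Module F W]
  [Finite V] [Finite W]

theorem NR.iso {Q : QuadraticForm F V} {Q' : QuadraticForm F W} {f : V ≃ₗ[F] W} (hf : IsIso Q Q' f) (h : NR Q) :
    NR Q' := by
  obtain ⟨G, hG, h⟩ := h
  refine ⟨cj f G, hG.cj hf, fun k hk => ?_⟩
  obtain ⟨k, rfl⟩ := (cjEquiv f).surjective k
  have hk' : El Q 1 k := by
    have h1 := hk.cj hf.symm
    have h3 : cj f.symm (cjEquiv f k) = k := (cjEquiv f).symm_apply_apply k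
    rwa [h3] at h1
  obtain ⟨h1, h3⟩ := h k hk'
  have e1 : cj f G = cjEquiv f G := rfl
  have e2 : (LinearEquiv.neg F : W ≃ₗ[F] W) = cjEquiv f (LinearEquiv.neg F) := (cj_neg f).symm
  constructor
  · rw [e1, ← map_inv, ← map_mul, ← map_mul, ← map_inv]
    exact fun h => h1 ((cjEquiv f).injective h)
  · rw [e1, e2, ← map_inv, ← map_mul, ← map_mul, ← map_inv, ← map_mul]
    exact fun h => h3 ((cjEquiv f).injective h)

end

section

variable {F : Type u} {V : Type v} {W : Type w} [Field F] [Fintype F] [DecidableEq F] [AddCommGroup V] [Module F V]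
  [AddCommGroup W] [Module F W] [FiniteDimensional F V] [FiniteDimensional F W] [Finite V] [Finite W]

theorem nr_pair (h2 : (2 : F) ≠ 0) (hm1 : quadraticChar F (-1) = -1) {e : ℕ} {d : ℤ}
    (he : (-1) ^ e = - quadraticChar F 2 * d) (hd : d = 1 ∨ d = -1) {S₁ S₂ : Set ℕ}
    {Q₁ : QuadraticForm F V} {Q₂ : QuadraticForm F W} {t₁ : Module.End F V} {t₂ : Module.End F W}
    (h₁ : Adm d S₁ Q₁ t₁) (h₂ : Adm d S₂ Q₂ t₂) (hne : finrank F V ≠ finrank F W) (hev : Even (finrank F W))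
    (hdc : dc Q₂ = 1) {k₁ : V ≃ₗ[F] V} {k₂ : W ≃ₗ[F] W} (hk₁ : k₁ ∈ O Q₁) (hk₂ : k₂ ∈ O Q₂)
    (ht₁ : ∀ x, k₁ (t₁ x) = - t₁ (k₁ x)) (ht₂ : ∀ x, k₂ (t₂ x) = - t₂ (k₂ x))
    (hpsi : psi e Q₁ ⟨k₁, hk₁⟩ * psi e Q₂ ⟨k₂, hk₂⟩ = -1) : NR (Q₁.prod Q₂) := by
  obtain ⟨g₁, hg₁⟩ := exists_cay h₁.nil
  obtain ⟨g₂, hg₂⟩ := exists_cay h₂.nil
  obtain ⟨M₁, hM₁, hp₁⟩ := hg₁.pow_one h2 h₁.nil
  obtain ⟨M₂, hM₂, hp₂⟩ := hg₂.pow_one h2 h₂.nil
  have hM : Odd (M₁ * M₂) := hM₁.mul hM₂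
  have hq₁ : g₁ ^ (M₁ * M₂) = 1 := by rw [pow_mul, hp₁, one_pow]
  have hq₂ : g₂ ^ (M₁ * M₂) = 1 := by rw [mul_comm, pow_mul, hp₂, one_pow]
  have hO₁ := hg₁.mem h2 h₁.nil h₁.skew
  have hO₂ := hg₂.mem h2 h₂.nil h₂.skew
  have hodd₁ : Odd (orderOf g₁) := Odd.of_dvd_nat hM (orderOf_dvd_of_pow_eq_one hq₁)
  have hodd₂ : Odd (orderOf g₂) := Odd.of_dvd_nat hM (orderOf_dvd_of_pow_eq_one hq₂)
  have hE₁ := El.of_odd h₁.nd hO₁ hodd₁
  have hE₂ : El Q₂ 1 (LinearEquiv.neg F * g₂) := by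
    have h3 := (el_neg h2 h₂.nd hev (s := 1) (by rw [hdc]; rfl)).mul (El.of_odd h₂.nd hO₂ hodd₂)
    rwa [mul_one] at h3
  have hGel : El (Q₁.prod Q₂) 1 (pr g₁ (LinearEquiv.neg F * g₂)) := by
    have h3 := El.pr h2 h₁.nd h₂.nd hE₁ hE₂
    rwa [mul_one] at h3
  set! G : (V × W) ≃ₗ[F] (V × W) := pr g₁ (LinearEquiv.neg F * g₂) with hG; rewrite [← hG] at hGel
  have hGz : G ^ (M₁ * M₂) = zz := pair_pow hM hq₁ hq₂
  have hzz : (zz : (V × W) ≃ₗ[F] (V × W))⁻¹ = zz := by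
    rw [inv_eq_iff_mul_eq_one]
    ext1 v
    show ((v.1, - - v.2) : V × W) = v
    rw [neg_neg]
  refine ⟨G, hGel, fun k hk => ⟨fun h => ?_, fun h => ?_⟩⟩
  · -- `k G k⁻¹ = G⁻¹`
    set! k₀ : (V × W) ≃ₗ[F] (V × W) := pr k₁ k₂ with hk₀
    have hk₀O : k₀ ∈ O (Q₁.prod Q₂) := pr_mem_O hk₁ hk₂
    have h3 : k₀ * G * k₀⁻¹ = G⁻¹ := by
      have e1 := hg₁.inv h₁.nil ht₁
      have e2 := hg₂.inv h₂.nil ht₂
      have e3 : k₂ * (LinearEquiv.neg F * g₂) * k₂⁻¹ = (LinearEquiv.neg F * g₂)⁻¹ := by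
        rw [mul_inv_rev, ← e2]
        have hn : (LinearEquiv.neg F : W ≃ₗ[F] W)⁻¹ = LinearEquiv.neg F := by
          rw [inv_eq_iff_mul_eq_one, ← pow_two]
          exact Cfsg.Agent.H160.QUpper.neg_pow_two
        rw [hn, ← (Cfsg.Agent.H160.QUpper.neg_comm (k₂ * g₂ * k₂⁻¹)).eq]
        have hcm := (Cfsg.Agent.H160.QUpper.neg_comm k₂).eq
        calc k₂ * (LinearEquiv.neg F * g₂) * k₂⁻¹ = (k₂ * LinearEquiv.neg F) * g₂ * k₂⁻¹ := by group
          _ = (LinearEquiv.neg F * k₂) * g₂ * k₂⁻¹ := by rw [hcm]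
          _ = _ := by group
      have e4 : k₀⁻¹ = pr k₁⁻¹ k₂⁻¹ := rfl
      have e5 : G⁻¹ = pr g₁⁻¹ (LinearEquiv.neg F * g₂)⁻¹ := rfl
      rw [e4, e5, hk₀, hG, ← pr_mul, ← pr_mul, e1, e3]
    -- `c = k₀⁻¹ k` commutes with `G`
    obtain ⟨hkO, hk1, hk3⟩ := hk
    have hcG : (k₀⁻¹ * k) * G = G * (k₀⁻¹ * k) := by
      have e1 : k * G = G⁻¹ * k := by rw [← h]; group
      have e2 : k₀⁻¹ * G⁻¹ = G * k₀⁻¹ := by
        have e3 : G⁻¹ = k₀ * G * k₀⁻¹ := h3.symm
        rw [e3]; group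
      calc (k₀⁻¹ * k) * G = k₀⁻¹ * (k * G) := by group
        _ = (k₀⁻¹ * G⁻¹) * k := by rw [e1]; group
        _ = G * (k₀⁻¹ * k) := by rw [e2]; group
    have hcz : (k₀⁻¹ * k) * zz = zz * (k₀⁻¹ * k) := by
      rw [← hGz]
      have h5 : Commute (k₀⁻¹ * k) G := hcG
      exact (h5.pow_right _).eq
    obtain ⟨c₁, c₂, hc⟩ := exists_pr_of_comm h2 hcz
    have hcO : k₀⁻¹ * k ∈ O (Q₁.prod Q₂) := (O _).mul_mem ((O _).inv_mem hk₀O) hkO
    have hcO' := hcO
    rw [hc, pr_mem_O_iff] at hcO'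
    obtain ⟨hc₁, hc₂⟩ := hcO'
    rw [hc, hG, ← pr_mul, ← pr_mul] at hcG
    have hcomm₁ : ∀ x, c₁ (g₁ x) = g₁ (c₁ x) := fun x => congrArg Prod.fst (LinearEquiv.congr_fun hcG (x, 0))
    have hcomm₂ : ∀ x, c₂ (g₂ x) = g₂ (c₂ x) := by
      intro x
      have e1 : c₂ (-(g₂ x)) = -(g₂ (c₂ x)) := congrArg Prod.snd (LinearEquiv.congr_fun hcG (0, x))
      rw [map_neg, neg_inj] at e1
      exact e1
    have p₁ := psi_comm h2 hm1 he hd h₁ hc₁ (hg₁.comm h2 h₁.nil hcomm₁)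
    have p₂ := psi_comm h2 hm1 he hd h₂ hc₂ (hg₂.comm h2 h₂.nil hcomm₂)
    have pc : psi e (Q₁.prod Q₂) ⟨k₀⁻¹ * k, hcO⟩ = 1 := by
      have e1 : (⟨k₀⁻¹ * k, hcO⟩ : O (Q₁.prod Q₂)) = ⟨pr c₁ c₂, pr_mem_O hc₁ hc₂⟩ := Subtype.ext hc
      rw [e1, psi_pr e h2 h₁.nd h₂.nd hc₁ hc₂, p₁, p₂, one_mul]
    have pk₀ : psi e (Q₁.prod Q₂) ⟨k₀, hk₀O⟩ = -1 := by
      rw [← hpsi]
      exact psi_pr e h2 h₁.nd h₂.nd hk₁ hk₂
    have pk : psi e (Q₁.prod Q₂) ⟨k, hkO⟩ = 1 := psi_of_el e (s := 1) ⟨hkO, hk1, hk3⟩ hkO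
    have e1 : (⟨k, hkO⟩ : O (Q₁.prod Q₂)) = ⟨k₀, hk₀O⟩ * ⟨k₀⁻¹ * k, hcO⟩ := by
      apply Subtype.ext
      show k = k₀ * (k₀⁻¹ * k)
      group
    rw [e1, map_mul, pc, pk₀] at pk
    norm_num at pk
  · -- `k G k⁻¹ = -G⁻¹`
    apply hne
    apply finrank_eq_of_anti h2 (k := k)
    have h3 : k * zz * k⁻¹ = (LinearEquiv.neg F : (V × W) ≃ₗ[F] (V × W)) * zz := by
      rw [← hGz, ← conj_pow, h, (Cfsg.Agent.H160.QUpper.neg_comm G⁻¹).mul_pow, inv_pow, hGz, hzz]
      congr 1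
      obtain ⟨j, hj⟩ := hM
      rw [hj, pow_succ, pow_mul, Cfsg.Agent.H160.QUpper.neg_pow_two, one_pow, one_mul]
    rw [mul_inv_eq_iff_eq_mul, mul_assoc] at h3
    exact h3

end

/-! ### `POmega` -/

section

open Cfsg.Agent.LieClassical.OrthTrans
open Cfsg.Agent.TitsThree.KSideO (toPOmega toPOmega_surjective)

variable {ι : Type} [Fintype ι] [DecidableEq ι] {F : Type u} [Field F] [Finite F] {Q : QuadraticForm F (ι → F)}

seal _root_.Finset.sum _root_.dotProduct in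
theorem nrel_of_nr (h2 : (2 : F) ≠ 0) (hG : Good Q) (h : NR Q) : Cfsg.Agent.H721.SR.NRel (Cfsg.POmega F ⇑Q) := by
  have hE : ∀ k : (ι → F) ≃ₗ[F] (ι → F), k ∈ E Q ↔ El Q 1 k := by
    intro k
    constructor
    · intro hk
      have hO := E_le_O hk
      obtain ⟨h1, h3⟩ := (Cfsg.Agent.FooteOrth.mem_E_iff hG h2 hO).1 hk
      exact ⟨hO, h1, by rw [spin_eq_sg, h3]⟩
    · rintro ⟨hO, h1, h3⟩
      exact (Cfsg.Agent.FooteOrth.mem_E_iff hG h2 hO).2 ⟨h1, by rw [← spin_eq_sg, h3]⟩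
  obtain ⟨G, hGel, h⟩ := h
  refine ⟨toPOmega hG ⟨G, (hE G).2 hGel⟩, fun hc => ?_⟩
  obtain ⟨y, hy⟩ := isConj_iff.1 hc
  obtain ⟨k, rfl⟩ := toPOmega_surjective hG y
  have h1 : toPOmega hG (k * ⟨G, (hE G).2 hGel⟩ * k⁻¹ * ⟨G, (hE G).2 hGel⟩) = 1 := by
    rw [map_mul, map_mul, map_mul, map_inv, hy, inv_mul_cancel]
  obtain ⟨c, hc, hcv⟩ := Cfsg.Agent.FooteOrth.toPOmega_ker hG _ h1
  obtain ⟨h3, h4⟩ := h k ((hE _).1 k.2)
  rcases hc with rfl | rfl
  · apply h3
    rw [eq_inv_iff_mul_eq_one]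
    ext1 v
    have := hcv v
    rw [one_smul] at this
    exact this
  · apply h4
    rw [eq_mul_inv_iff_mul_eq]
    ext1 v
    have := hcv v
    rw [neg_one_smul] at this
    exact this

end

end Cfsg.Agent.H864.SRN
end

-- part: H864/SRN/Rows
section
/-!
# TEAM SR, orthogonal groups, `q = 3 mod 4`: the rows (task 3851, SR-OODD_N)

* `nrel_odd`  : `POmega F (quadFormOdd m F)` has a non-real element (`|F| = 3 mod 4`, `3 ≤ m`, `m ≠ 4`);
* `nrel_plus` : `POmega F (quadFormPlus (2 * n) F)` has a non-real element (`|F| = 3 mod 4`, `3 ≤ n`).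
-/

set_option autoImplicit false
set_option linter.unusedSectionVars false

namespace Cfsg.Agent.H864.SRN

open QuadraticMap Module
open Cfsg.Agent.LieClassical.OrthCore Cfsg.Agent.H160.QSpin Cfsg.Agent.H160.QDisc Cfsg.Agent.H160.QSplit
open Cfsg.Agent.LieClassical.OrthForms Cfsg.Agent.LieClassical.OrthFinite Cfsg.Agent.LieClassical.OrthTrans
open Cfsg.Agent.H959

universe u v w

section

variable {F : Type u} [Field F] [Fintype F] [DecidableEq F]

/-- a space with a skew nilpotent map and an isometry negating it -/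
structure Sp {V : Type v} [AddCommGroup V] [Module F V] [FiniteDimensional F V] [Finite V] (e : ℕ) (d : ℤ)
    (S : Set ℕ) (n : ℕ) (s δ : ℤ) (Q : QuadraticForm F V) (t : Module.End F V) (k : V ≃ₗ[F] V) : Prop where
  adm : Adm d S Q t
  dim : finrank F V = n
  mem : k ∈ O Q
  anti : ∀ x, k (t x) = - t (k x)
  hpsi : psi e Q ⟨k, mem⟩ = s
  hdc : dc Q = δ

theorem dc_Jf (h2 : (2 : F) ≠ 0) {n : ℕ} (hn : Even n) (c : F) : dc (Jf n c) = quadraticChar F c ^ (n + 1) := by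
  have hpol : ∀ i j : Fin (n + 1), polar (Jf n c) ((Pi.basisFun F (Fin (n + 1))) i) ((Pi.basisFun F (Fin (n + 1))) j) =
      if j = i.rev then c * (-1) ^ (i : ℕ) else 0 := by
    intro i j
    rw [Pi.basisFun_apply, Pi.basisFun_apply, polar_Jf h2 hn, altForm_single]
    split_ifs with h
    · rw [h, Pi.single_eq_same, mul_one]
    · rw [Pi.single_eq_of_ne (fun h' => h h'.symm), mul_zero, mul_zero]
  rw [dc_anti (Pi.basisFun F (Fin (n + 1)))]
  · have h1 : ∀ i : Fin (n + 1), (-1 : F) ^ (i : ℕ) * polar (Jf n c) ((Pi.basisFun F (Fin (n + 1))) i)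
        ((Pi.basisFun F (Fin (n + 1))) i.rev) = c := by
      intro i
      rw [hpol, if_pos rfl]
      linear_combination c * neg_pow_mul_self (F := F) (i : ℕ)
    simp only [h1, Finset.prod_const, Finset.card_univ, Fintype.card_fin, map_pow]
  · intro i j hij
    rw [hpol, if_neg]
    rintro rfl
    rw [Fin.val_rev] at hij
    omega

variable {e : ℕ} {c : F}

theorem Sp.block (h2 : (2 : F) ≠ 0) (hm1 : quadraticChar F (-1) = -1) (hc : c ≠ 0)
    (he : (-1) ^ e = - quadraticChar F 2 * quadraticChar F c) (m : ℕ) :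
    Sp e (quadraticChar F c) {2 * m} (2 * m + 1) (sg m) (quadraticChar F c) (Jf (2 * m) c) (shift (2 * m))
      (inv (2 * m)) := by
  have hev : Even (2 * m) := even_two_mul m
  refine ⟨adm_block h2 hev hc, ?_, inv_mem hev c, inv_shift _, psi_inv h2 hm1 hc he m _, ?_⟩
  · rw [finrank_fintype_fun_eq_card, Fintype.card_fin]
  · rw [dc_Jf h2 hev, pow_succ, pow_mul, quadraticChar_sq_one hc, one_pow, one_mul]

theorem Sp.prod {V : Type v} {W : Type w} [AddCommGroup V] [Module F V] [FiniteDimensional F V] [Finite V]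
    [AddCommGroup W] [Module F W] [FiniteDimensional F W] [Finite W] (h2 : (2 : F) ≠ 0) {d : ℤ}
    {S₁ S₂ : Set ℕ} {n₁ n₂ : ℕ} {s₁ s₂ δ₁ δ₂ : ℤ} {Q₁ : QuadraticForm F V} {Q₂ : QuadraticForm F W}
    {t₁ : Module.End F V} {t₂ : Module.End F W} {k₁ : V ≃ₗ[F] V} {k₂ : W ≃ₗ[F] W}
    (h₁ : Sp e d S₁ n₁ s₁ δ₁ Q₁ t₁ k₁) (h₂ : Sp e d S₂ n₂ s₂ δ₂ Q₂ t₂ k₂) (hS : ∀ n ∈ S₁, n ∉ S₂) :
    Sp e d (S₁ ∪ S₂) (n₁ + n₂) (s₁ * s₂) (δ₁ * δ₂) (Q₁.prod Q₂) (LinearMap.prodMap t₁ t₂) (pr k₁ k₂) := by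
  refine ⟨adm_prod h₁.adm h₂.adm hS, ?_, pr_mem_O h₁.mem h₂.mem, ?_, ?_, ?_⟩
  · rw [Module.finrank_prod, h₁.dim, h₂.dim]
  · rintro ⟨x, y⟩
    exact Prod.ext (h₁.anti x) (h₂.anti y)
  · rw [psi_pr e h2 h₁.adm.nd h₂.adm.nd h₁.mem h₂.mem, h₁.hpsi, h₂.hpsi]
  · rw [dc_prod, h₁.hdc, h₂.hdc]

theorem Sp.zero (e : ℕ) (d : ℤ) : Sp e d ∅ 0 1 1 (0 : QuadraticForm F (Fin 0 → F)) 0 1 := by
  refine ⟨adm_zero d _, ?_, (O _).one_mem, ?_, map_one (psi e (0 : QuadraticForm F (Fin 0 → F))), ?_⟩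
  · rw [finrank_fintype_fun_eq_card, Fintype.card_fin]
  · intro x
    exact Subsingleton.elim _ _
  · unfold dc
    rw [gdet_of_zero _ (by rw [finrank_fintype_fun_eq_card, Fintype.card_fin]), map_one]

theorem nr_of_sp {V : Type v} {W : Type w} [AddCommGroup V] [Module F V] [FiniteDimensional F V] [Finite V]
    [AddCommGroup W] [Module F W] [FiniteDimensional F W] [Finite W] (h2 : (2 : F) ≠ 0)
    (hm1 : quadraticChar F (-1) = -1) {d : ℤ}
    (he : (-1) ^ e = - quadraticChar F 2 * d) (hd : d = 1 ∨ d = -1)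
    {S₁ S₂ : Set ℕ} {n₁ n₂ : ℕ} {s₁ s₂ δ₁ δ₂ : ℤ} {Q₁ : QuadraticForm F V} {Q₂ : QuadraticForm F W}
    {t₁ : Module.End F V} {t₂ : Module.End F W} {k₁ : V ≃ₗ[F] V} {k₂ : W ≃ₗ[F] W}
    (h₁ : Sp e d S₁ n₁ s₁ δ₁ Q₁ t₁ k₁) (h₂ : Sp e d S₂ n₂ s₂ δ₂ Q₂ t₂ k₂) (hs : s₁ * s₂ = -1) (hne : n₁ ≠ n₂)
    (hev : Even n₂) (hδ : δ₂ = 1) {ι : Type} [Fintype ι] [DecidableEq ι] {Q : QuadraticForm F (ι → F)}
    (hQ : Nondeg Q) (hdim : Fintype.card ι = n₁ + n₂) (hdc : dc Q = δ₁) : NR Q := by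
  have h3 : NR (Q₁.prod Q₂) := nr_pair h2 hm1 he hd h₁.adm h₂.adm (by rw [h₁.dim, h₂.dim]; exact hne)
    (by rw [h₂.dim]; exact hev) (by rw [h₂.hdc, hδ]) h₁.mem h₂.mem h₁.anti h₂.anti (by rw [h₁.hpsi, h₂.hpsi, hs])
  obtain ⟨f, hf⟩ := exists_iso h2 (nondeg_prod h₁.adm.nd h₂.adm.nd) hQ
    (by rw [Module.finrank_prod, h₁.dim, h₂.dim, finrank_fintype_fun_eq_card, hdim])
    (by rw [dc_prod, h₁.hdc, h₂.hdc, hδ, mul_one, hdc])
  exact h3.iso hf

theorem exists_e (h2 : (2 : F) ≠ 0) {c : F} (hc : c ≠ 0) :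
    ∃ e : ℕ, (-1 : ℤ) ^ e = - quadraticChar F 2 * quadraticChar F c := by
  have h1 : - quadraticChar F 2 * quadraticChar F c = 1 ∨ - quadraticChar F 2 * quadraticChar F c = -1 := by
    rcases quadraticChar_dichotomy h2 with h | h <;> rcases quadraticChar_dichotomy hc with h' | h' <;>
      rw [h, h'] <;> simp
  rcases h1 with h1 | h1
  · exact ⟨0, by rw [h1, pow_zero]⟩
  · exact ⟨1, by rw [h1, pow_one]⟩

theorem two_ne (h : Fintype.card F % 4 = 3) : (2 : F) ≠ 0 := by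
  have h1 : ringChar F ≠ 2 := by
    intro h3
    have := FiniteField.even_card_of_char_two h3
    omega
  exact Ring.two_ne_zero h1

theorem chi_neg_one (h : Fintype.card F % 4 = 3) : quadraticChar F (-1) = -1 := by
  have h1 : ringChar F ≠ 2 := by
    intro h3
    have := FiniteField.even_card_of_char_two h3
    omega
  rw [quadraticChar_neg_one h1, ZMod.χ₄_nat_three_mod_four h]

/-- odd dimension -/
theorem nr_odd (hF : Fintype.card F % 4 = 3) {m : ℕ} (hm : 3 ≤ m) (hm4 : m ≠ 4) {ι : Type} [Fintype ι]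
    [DecidableEq ι] {Q : QuadraticForm F (ι → F)} (hQ : Nondeg Q) (hdim : Fintype.card ι = 2 * m + 1) : NR Q := by
  have h2 := two_ne hF
  have hm1 := chi_neg_one hF
  obtain ⟨c, hc, hcd⟩ := exists_qc (F := F) h2 (dc_cases hQ)
  obtain ⟨e, he⟩ := exists_e h2 hc
  have hd : quadraticChar F c = 1 ∨ quadraticChar F c = -1 := quadraticChar_dichotomy hc
  have hdd : quadraticChar F c * quadraticChar F c = 1 := by rw [← pow_two, quadraticChar_sq_one hc]
  have hB := Sp.block h2 hm1 hc he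
  rcases (by omega : (m % 4 = 1 ∨ m % 4 = 2) ∨ m % 4 = 3 ∨ m % 4 = 0) with h | h | h
  · exact nr_of_sp h2 hm1 he hd (hB m) (Sp.zero e _) (by rw [sg_eq, if_pos h]; rfl) (by omega) Even.zero rfl hQ
      (by rw [hdim]) hcd.symm
  · refine nr_of_sp h2 hm1 he hd (hB 0) ((hB (m - 1)).prod h2 (hB 0) ?_) ?_ ?_ ?_ hdd hQ ?_ hcd.symm
    · intro n hn hn'
      rw [Set.mem_singleton_iff] at hn hn'
      omega
    · rw [sg_eq, sg_eq, if_neg (by omega), if_pos (by omega)]; rfl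
    · omega
    · exact ⟨m, by omega⟩
    · rw [hdim]; (clear * - h; solve | lia | omega)
  · refine nr_of_sp h2 hm1 he hd (hB 1) ((hB (m - 3)).prod h2 (hB 1) ?_) ?_ ?_ ?_ hdd hQ ?_ hcd.symm
    · intro n hn hn'
      rw [Set.mem_singleton_iff] at hn hn'
      (clear * - hm4 hn hn'; omega)
    · rw [sg_eq, sg_eq, if_pos (by omega), if_pos (by omega)]; rfl
    · omega
    · exact ⟨m - 1, by (clear * - hm; omega)⟩
    · rw [hdim]; (clear * - hm; omega)

/-- plus type, dimension divisible by four -/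
theorem nr_plus (hF : Fintype.card F % 4 = 3) {n : ℕ} (hn : 3 ≤ n) {ι : Type} [Fintype ι]
    [DecidableEq ι] {Q : QuadraticForm F (ι → F)} (hQ : Nondeg Q) (hdim : Fintype.card ι = 4 * n)
    (hdc : dc Q = 1) : NR Q := by
  have h2 := two_ne hF
  have hm1 := chi_neg_one hF
  have hc : (1 : F) ≠ 0 := one_ne_zero
  obtain ⟨e, he⟩ := exists_e h2 hc
  have hd : quadraticChar F 1 = 1 ∨ quadraticChar F (1 : F) = -1 := quadraticChar_dichotomy hc
  have hdd : quadraticChar F 1 * quadraticChar F 1 = 1 := by rw [← pow_two, quadraticChar_sq_one hc]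
  have hB := Sp.block h2 hm1 hc he
  rcases (by omega : n % 2 = 1 ∨ n % 2 = 0) with h | h
  · refine nr_of_sp h2 hm1 he hd ((hB (2 * n - 1)).prod h2 (hB 0) ?_) (Sp.zero e _) ?_ ?_ Even.zero rfl hQ ?_
      (by rw [hdc, hdd])
    · intro n hn hn'
      rw [Set.mem_singleton_iff] at hn hn'
      omega
    · rw [sg_eq, sg_eq, if_pos (by omega), if_neg (by omega)]; rfl
    · omega
    · rw [hdim]; (clear * - h; solve | lia | omega)
  · refine nr_of_sp h2 hm1 he hd ((hB 2).prod h2 (hB 0) ?_) ((hB (2 * n - 4)).prod h2 (hB 0) ?_) ?_ ?_ ?_ hdd hQ ?_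
      (by rw [hdc, hdd])
    · intro n hn hn'
      rw [Set.mem_singleton_iff] at hn hn'
      omega
    · intro n hn hn'
      rw [Set.mem_singleton_iff] at hn hn'
      omega
    · rw [sg_eq, sg_eq, sg_eq, if_pos (by omega), if_neg (by omega), if_neg (by omega)]; rfl
    · omega
    · exact ⟨2 * n - 3, by (clear * - hn; omega)⟩
    · rw [hdim]; (clear * - hn; omega)

end

section rows

variable {F : Type u} [Field F] [Finite F]

theorem dc_plus_form [Fintype F] [DecidableEq F] (k : ℕ) : dc (plusForm k F) = quadraticChar F (-1) ^ k := by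
  let e : ((Fin k → F) × (Fin k → F)) ≃ₗ[F] (Fin k ⊕ Fin k → F) :=
    (LinearEquiv.sumArrowLequivProdArrow (Fin k) (Fin k) F F).symm
  have he : IsIso (Cfsg.Agent.H160.QSemi.hyp F k) (plusForm k F) e := by
    rintro ⟨x, y⟩
    rw [coe_plusForm, quadFormPlus_apply, Cfsg.Agent.H160.QSemi.hyp_apply]
    rfl
  rw [dc_iso he, Cfsg.Agent.H160.QSemi.dc_hyp]

/-- **odd dimension** -/
theorem nrel_odd (hF : Nat.card F % 4 = 3) {m : ℕ} (hm : 3 ≤ m) (hm4 : m ≠ 4) :
    Cfsg.Agent.H721.SR.NRel (Cfsg.POmega F (Cfsg.quadFormOdd m F)) := by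
  classical
  have := Fintype.ofFinite F
  rw [Nat.card_eq_fintype_card] at hF
  have h2 := two_ne hF
  have hnd : Nondeg (oddForm m F) := nondeg_oddForm m F h2
  have hcard : Fintype.card (Unit ⊕ (Fin m ⊕ Fin m)) = 2 * m + 1 := by
    simp only [Fintype.card_sum, Fintype.card_unit, Fintype.card_fin]
    omega
  have hG : Good (oddForm m F) := good_of_finite hnd (by
    rw [finrank_fintype_fun_eq_card, hcard]
    omega)
  have h := nrel_of_nr h2 hG (nr_odd hF hm hm4 hnd hcard)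
  rwa [coe_oddForm] at h

/-- **plus type, dimension divisible by four** -/
theorem nrel_plus (hF : Nat.card F % 4 = 3) {n : ℕ} (hn : 3 ≤ n) :
    Cfsg.Agent.H721.SR.NRel (Cfsg.POmega F (Cfsg.quadFormPlus (2 * n) F)) := by
  classical
  have := Fintype.ofFinite F
  rw [Nat.card_eq_fintype_card] at hF
  have h2 := two_ne hF
  have hm1 := chi_neg_one hF
  have hnd : Nondeg (plusForm (2 * n) F) := nondeg_plusForm (2 * n) F
  have hcard : Fintype.card (Fin (2 * n) ⊕ Fin (2 * n)) = 4 * n := by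
    simp only [Fintype.card_sum, Fintype.card_fin]
    omega
  have hG : Good (plusForm (2 * n) F) := good_of_finite hnd (by
    rw [finrank_fintype_fun_eq_card, hcard]
    omega)
  have h := nrel_of_nr h2 hG (nr_plus hF hn hnd hcard (by
    rw [dc_plus_form, hm1, pow_mul]
    norm_num))
  rwa [coe_plusForm] at h

end rows

end Cfsg.Agent.H864.SRN
end

private theorem dce_7f2e3dbc6860 : _root_.True := by
  try have : _root_.True := by simp only [_root_.Cfsg.Agent.H864.SRN.sg.eq_1]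
  try have : _root_.True := by simp only [_root_.Cfsg.Agent.H160.QSpin.spin.congr_simp]
  try have : _root_.True := by simp only [_root_.LinearEquiv.ofInjectiveEndo.congr_simp]
  try have : _root_.True := by simp only [_root_.Cfsg.Agent.H864.SRN.Jf.eq_1]
  exact _root_.True.intro
end

-- part: H168/SRHex/Cen_mg
section
prune_inst 0x405201044498202000000009471001e46ce000592002884008c810e4406c8ef4a0002816084a03113500a8a1420300048111000f00240000004000c00011c048100881204e0c9a108c0001e000184400000000000000000000000000000000004200000000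
set_option linter.all false
open scoped Cfsg.Agent.FastGrp

-- part: H168/SRHex/SLTwo
section
/-!
# `SL₂(K)` in characteristic two (team SR, S4971; helper168)

* `sr` : every element is inverted by an element with square one;
* `sq_of_inv` : an element inverting an element with `s * s ≠ 1` has square one;
* `sq_of_comm` : an element commuting with `l ≠ 1`, `l * l = 1`, has square one;
* `conj_U` : an element `l ≠ 1`, `l * l = 1` is conjugate to `U a`, `a ≠ 0`.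
-/

set_option autoImplicit false

namespace Cfsg.Agent.H168.SRHex.SLTwo

open Cfsg.Agent.SuzukiRankOne.SLTwoRel Cfsg.Agent.H721.SR
open Matrix (SpecialLinearGroup)

universe u

variable {K : Type u} [Field K] [CharP K 2]

omit [CharP K 2] in
theorem mk_mul {a b c d a' b' c' d' : K} (h : a * d - b * c = 1) (h' : a' * d' - b' * c' = 1) :
    mat (mk a b c d h * mk a' b' c' d' h') = !![a * a' + b * c', a * b' + b * d'; c * a' + d * c', c * b' + d * d'] := by
  rw [mat_mul, mat_mk, mat_mk, Matrix.mul_fin_two]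

theorem det_add {a b c d : K} (h : a * d - b * c = 1) : a * d + b * c = 1 := by
  rw [← h, CharTwo.sub_eq_add]

/-- square one -/
theorem sq_iff {a b c d : K} (h : a * d - b * c = 1) :
    mk a b c d h * mk a b c d h = 1 ↔ a + d = 0 := by
  have h' := det_add h
  have h2 : (2 : K) = 0 := CharTwo.two_eq_zero
  constructor
  · intro e
    have e1 : mat (mk a b c d h * mk a b c d h) = mat 1 := by rw [e]
    rw [mk_mul, mat_one] at e1
    have e00 : a * a + b * c = 1 := congrFun (congrFun e1 0) 0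
    have e01 : a * b + b * d = 0 := congrFun (congrFun e1 0) 1
    have e10 : c * a + d * c = 0 := congrFun (congrFun e1 1) 0
    have e11 : c * b + d * d = 1 := congrFun (congrFun e1 1) 1
    have k1 : a * (a + d) = 0 := by linear_combination e00 + h' + (1 - b * c) * h2
    have k2 : d * (a + d) = 0 := by linear_combination e11 + h' + (1 - b * c) * h2
    by_contra hne
    have ha : a = 0 := (mul_eq_zero.1 k1).resolve_right hne
    have hd : d = 0 := (mul_eq_zero.1 k2).resolve_right hne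
    exact hne (by rw [ha, hd, add_zero])
  · intro e
    have hd : d = a := by linear_combination e - a * h2
    subst hd
    apply mat_ext
    rw [mk_mul, mat_one]
    have k1 : d * d + b * c = 1 := h'
    have k2 : d * b + b * d = 0 := by linear_combination d * b * h2
    have k3 : c * d + d * c = 0 := by linear_combination d * c * h2
    have k4 : c * b + d * d = 1 := by linear_combination h'
    rw [k1, k2, k3, k4]

theorem mk_inv {a b c d : K} (h : a * d - b * c = 1) :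
    (mk a b c d h)⁻¹ = mk d b c a (by rw [← h]; ring) := by
  have h' := det_add h
  have h2 : (2 : K) = 0 := CharTwo.two_eq_zero
  symm
  apply eq_inv_of_mul_eq_one_left
  apply mat_ext
  rw [mk_mul, mat_one]
  have k1 : d * a + b * c = 1 := by linear_combination h'
  have k2 : d * b + b * d = 0 := by linear_combination d * b * h2
  have k3 : c * a + a * c = 0 := by linear_combination a * c * h2
  have k4 : c * b + a * d = 1 := by linear_combination h'
  rw [k1, k2, k3, k4]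

/-- **Every element of `SL₂(K)` is strongly real.** -/
theorem sr (A : _root_.Matrix.SpecialLinearGroup (Fin 2) K) : SR A := by
  obtain ⟨a, b, c, d, h, rfl⟩ := exists_mk A
  have h' := det_add h
  have h2 : (2 : K) = 0 := CharTwo.two_eq_zero
  by_cases ht : a + d = 0
  · exact sr_of_sq ((sq_iff h).2 ht)
  -- an element `(x, y; z, x)` with `x (a + d) + y c + z b = 0`
  have key : ∀ x y z : K, (hx : x * x - y * z = 1) → x * (a + d) + y * c + z * b = 0 → SR (mk a b c d h) := by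
    intro x y z hx e
    have hs : mk x y z x hx * mk x y z x hx = 1 := (sq_iff hx).2 (CharTwo.add_self_eq_zero x)
    have hx' := det_add hx
    refine ⟨mk x y z x hx, hs, ?_⟩
    rw [inv_eq_of_mul_eq_one_left hs, mk_inv]
    apply mat_ext
    rw [mat_mul, mat_mul, mat_mk, mat_mk, mat_mk, Matrix.mul_fin_two, Matrix.mul_fin_two]
    have k1 : (x * a + y * c) * x + (x * b + y * d) * z = d := by
      linear_combination d * hx' + x * e - (d * x * x + x * z * b) * h2 + x * z * b * h2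
    have k2 : (x * a + y * c) * y + (x * b + y * d) * x = b := by
      linear_combination b * hx' + y * e - (b * y * z) * h2
    have k3 : (z * a + x * c) * x + (z * b + x * d) * z = c := by
      linear_combination c * hx' + z * e - (c * y * z) * h2
    have k4 : (z * a + x * c) * y + (z * b + x * d) * x = a := by
      linear_combination a * hx' + x * e - (a * x * x) * h2
    rw [k1, k2, k3, k4]
  by_cases hc : c = 0
  · by_cases hb : b = 0
    · refine key 0 1 1 ?_ ?_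
      · rw [CharTwo.sub_eq_add]; ring
      · rw [hb, hc]; ring
    · refine key 1 0 ((a + d) / b) ?_ ?_
      · ring
      · rw [div_mul_cancel₀ _ hb]
        linear_combination (a + d) * h2
  · refine key 1 ((a + d) / c) 0 ?_ ?_
    · ring
    · rw [div_mul_cancel₀ _ hc]
      linear_combination (a + d) * h2

/-- An element which inverts `s`, `s * s ≠ 1`, has square one. -/
theorem sq_of_inv {l s : _root_.Matrix.SpecialLinearGroup (Fin 2) K} (e : l * s * l⁻¹ = s⁻¹) (hs : s * s ≠ 1) : l * l = 1 := by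
  obtain ⟨a, b, c, d, h, rfl⟩ := exists_mk s
  obtain ⟨x, y, z, w, hx, rfl⟩ := exists_mk l
  have h2 : (2 : K) = 0 := CharTwo.two_eq_zero
  rw [Ne, sq_iff] at hs
  rw [sq_iff]
  have e1 : mk x y z w hx * mk a b c d h = mk d b c a (by rw [← h]; ring) * mk x y z w hx := by
    rw [← mk_inv h, ← e]; group
  have e2 : mat (mk x y z w hx * mk a b c d h) = mat (mk d b c a (by rw [← h]; ring) * mk x y z w hx) := by rw [e1]
  rw [mk_mul, mk_mul] at e2
  have e00 : x * a + y * c = d * x + b * z := congrFun (congrFun e2 0) 0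
  have e11 : z * b + w * d = c * y + a * w := congrFun (congrFun e2 1) 1
  have e01 : x * b + y * d = d * y + b * w := congrFun (congrFun e2 0) 1
  have e10 : z * a + w * c = c * x + a * z := congrFun (congrFun e2 1) 0
  -- `(x + w) b = 0`, `(x + w) c = 0`, `(x + w)(a + d) = 0`
  have k : (x + w) * (a + d) = 0 := by
    linear_combination e00 + e11 + (d * x + a * w + b * z - b * z) * h2 + (c * y - c * y) * h2
  exact (mul_eq_zero.1 k).resolve_right hs

/-- An element commuting with an involution has square one. -/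
theorem sq_of_comm {l s : _root_.Matrix.SpecialLinearGroup (Fin 2) K} (hl : l * l = 1) (hl1 : l ≠ 1) (e : l * s = s * l) :
    s * s = 1 := by
  obtain ⟨a, b, c, d, h, rfl⟩ := exists_mk s
  obtain ⟨x, y, z, w, hx, rfl⟩ := exists_mk l
  have h2 : (2 : K) = 0 := CharTwo.two_eq_zero
  rw [sq_iff] at hl
  have hw : w = x := by linear_combination hl - x * h2
  subst hw
  rw [sq_iff]
  have e2 : mat (mk w y z w hx * mk a b c d h) = mat (mk a b c d h * mk w y z w hx) := by rw [e]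
  rw [mk_mul, mk_mul] at e2
  have e01 : w * b + y * d = a * y + b * w := congrFun (congrFun e2 0) 1
  have e10 : z * a + w * c = c * w + d * z := congrFun (congrFun e2 1) 0
  have k1 : y * (a + d) = 0 := by linear_combination e01 + a * y * h2
  have k2 : z * (a + d) = 0 := by linear_combination e10 + d * z * h2
  by_contra hne
  have hy : y = 0 := (mul_eq_zero.1 k1).resolve_right hne
  have hz : z = 0 := (mul_eq_zero.1 k2).resolve_right hne
  apply hl1
  have hx' := det_add hx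
  rw [hy, hz] at hx'
  have hw1 : (w + 1) * (w + 1) = 0 := by linear_combination hx' + (w + 1) * h2
  have hw2 : w = 1 := by
    have := mul_self_eq_zero.1 hw1
    linear_combination this - h2
  apply mat_ext
  rw [mat_mk, mat_one, hy, hz, hw2]

/-- An element of order two is conjugate to `U a`, `a ≠ 0`. -/
theorem conj_U {l : _root_.Matrix.SpecialLinearGroup (Fin 2) K} (hl : l * l = 1) (hl1 : l ≠ 1) :
    ∃ (p : _root_.Matrix.SpecialLinearGroup (Fin 2) K) (a : K), a ≠ 0 ∧ p * l * p⁻¹ = U a := by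
  obtain ⟨x, y, z, w, hx, rfl⟩ := exists_mk l
  have h2 : (2 : K) = 0 := CharTwo.two_eq_zero
  rw [sq_iff] at hl
  have hw : w = x := by linear_combination hl - x * h2
  subst hw
  have hx' := det_add hx
  by_cases hz : z = 0
  · have hw1 : (w + 1) * (w + 1) = 0 := by
      rw [hz] at hx'
      linear_combination hx' + (w + 1) * h2
    have hw2 : w = 1 := by
      have := mul_self_eq_zero.1 hw1
      linear_combination this - h2
    refine ⟨1, y, ?_, ?_⟩
    · rintro rfl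
      apply hl1
      apply mat_ext
      rw [mat_mk, mat_one, hz, hw2]
    · rw [one_mul, inv_one, mul_one]
      apply mat_ext
      rw [mat_mk, U_mat, hz, hw2]
  · -- `p = (0, 1/z; z, w + 1)`
    have hp : (0 : K) * (w + 1) - z⁻¹ * z = 1 := by
      rw [inv_mul_cancel₀ hz, CharTwo.sub_eq_add]; ring
    refine ⟨mk 0 z⁻¹ z (w + 1) hp, z⁻¹, inv_ne_zero hz, ?_⟩
    rw [mul_inv_eq_iff_eq_mul]
    apply mat_ext
    rw [mk_mul, mat_mul, U_mat, mat_mk, Matrix.mul_fin_two]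
    have k1 : 0 * w + z⁻¹ * z = 1 * 0 + z⁻¹ * z := by ring
    have k2 : 0 * y + z⁻¹ * w = 1 * z⁻¹ + z⁻¹ * (w + 1) := by linear_combination -z⁻¹ * h2
    have k3 : z * w + (w + 1) * z = 0 * 0 + 1 * z := by linear_combination (z * w) * h2
    have k4 : z * y + (w + 1) * w = 0 * z⁻¹ + 1 * (w + 1) := by linear_combination hx'
    rw [k1, k2, k3, k4]

/-- A 2-element commuting with a non-trivial element of odd order is trivial. -/
theorem eq_one_of_comm {l s : _root_.Matrix.SpecialLinearGroup (Fin 2) K} {n : ℕ} (hl : l ^ 2 ^ n = 1) (hs1 : s ≠ 1) {m : ℕ}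
    (hm : Odd m) (hs : s ^ m = 1) (e : l * s = s * l) : l = 1 := by
  induction n with
  | zero => simpa using hl
  | succ n ih =>
    have h1 : l ^ 2 ^ n * l ^ 2 ^ n = 1 := by rw [← pow_add, ← two_mul, ← pow_succ']; exact hl
    by_cases h3 : l ^ 2 ^ n = 1
    · exact ih h3
    · exfalso
      have h4 : Commute l s := e
      have h5 := sq_of_comm h1 h3 (h4.pow_left (2 ^ n)).eq
      apply hs1
      obtain ⟨r, hr⟩ := hm
      rw [hr, pow_succ, pow_mul, pow_two, h5, one_pow, one_mul] at hs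
      exact hs

end Cfsg.Agent.H168.SRHex.SLTwo
end

-- part: H168/SRHex/Levi
section
/-!
# Levi subgroups of a hexagonal root system in characteristic two (team SR, S4971; helper168)

`P = gen (arc k 7) = Q L`, `Q = gen (arc (k + 1) 5)`, `L = gen {k, k + 6} ≅ SL₂`.
-/

set_option autoImplicit false

namespace Cfsg.Agent.H168.SRHex.Levi

open Cfsg.Agent.StdRank2.Hex Cfsg.Agent.StdRank2.Hex.HexTwo Cfsg.Agent.SplitTwo
open Cfsg.Agent.SuzukiRankOne.SLTwoRel Cfsg.Agent.H721.SR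
open Matrix (SpecialLinearGroup)

universe u v

variable {E : Type u} [Field E] {σ : E ≃+* E} {G : Type v} [Group G] {x : ZMod 12 → E → G} (h : HexTwo σ x)
include h

/-- the homomorphism `SL₂ → L` -/
theorem exists_theta [Finite E] (k : ZMod 12) : ∃ (K : Type u) (_ : Field K) (_ : CharP K 2) (ι : K →+* E)
    (θ : _root_.Matrix.SpecialLinearGroup (Fin 2) K →* G), Par σ k ι ∧ Function.Injective θ ∧ (∀ a, θ (U a) = x k (ι a)) ∧
      θ (Tm K) = nn x k ∧ (∀ a, θ (loU a) = x (k + 6) (ι a)) ∧ θ.range = gen σ x {k, k + 6} := by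
  rcases Nat.mod_two_eq_zero_or_one k.val with hk | hk
  · have hP : Par σ k (_root_.Cfsg.Agent.StdRank2.Hex.Fix σ).subtype := Par.even hk
    have hc : CharP (Fix σ) 2 := h.charP_of (_root_.Cfsg.Agent.StdRank2.Hex.Fix σ).subtype
    obtain ⟨θ, h1, h2, -, h3, h4, h5⟩ := h.exists_sl hP
    exact ⟨Fix σ, inferInstance, hc, (_root_.Cfsg.Agent.StdRank2.Hex.Fix σ).subtype, θ, hP, h1, h2, h3, h4, h5⟩
  · have hP : Par σ k (RingHom.id E) := Par.odd hk
    have hc : CharP E 2 := h.charP_two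
    obtain ⟨θ, h1, h2, -, h3, h4, h5⟩ := h.exists_sl hP
    exact ⟨E, inferInstance, hc, RingHom.id E, θ, hP, h1, h2, h3, h4, h5⟩

/-- every element of `L` is strongly real in `L` -/
theorem L_sr [Finite E] {k : ZMod 12} {g : G} (hg : g ∈ gen σ x {k, k + 6}) :
    ∃ t ∈ gen σ x {k, k + 6}, t * t = 1 ∧ t * g * t⁻¹ = g⁻¹ := by
  obtain ⟨K, _, _, ι, θ, hP, hi, h1, h2, h3, hr⟩ := exists_theta h k
  rw [← hr] at hg ⊢
  obtain ⟨A, rfl⟩ := hg
  obtain ⟨t, ht, e⟩ := SLTwo.sr A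
  exact ⟨θ t, ⟨t, rfl⟩, by rw [← map_mul, ht, map_one], by rw [← map_mul, ← map_inv, ← map_mul, e, map_inv]⟩

/-- an element of `L` inverting `s` -/
theorem L_sq_of_inv [Finite E] {k : ZMod 12} {l s : G} (hl : l ∈ gen σ x {k, k + 6}) (hs : s ∈ gen σ x {k, k + 6})
    (e : l * s * l⁻¹ = s⁻¹) (h1 : s * s ≠ 1) : l * l = 1 := by
  obtain ⟨K, _, _, ι, θ, hP, hi, -, -, -, hr⟩ := exists_theta h k
  rw [← hr] at hl hs
  obtain ⟨A, rfl⟩ := hl
  obtain ⟨B, rfl⟩ := hs
  have := SLTwo.sq_of_inv (l := A) (s := B) (hi (by rw [map_mul, map_mul, map_inv, map_inv, e])) (fun e1 => h1 (by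
    rw [← map_mul, e1, map_one]))
  rw [← map_mul, this, map_one]

/-- elements of order two of `L` -/
theorem L_conj_x [Finite E] {k : ZMod 12} {l : G} (hl : l ∈ gen σ x {k, k + 6}) (e : l * l = 1) (h1 : l ≠ 1) :
    ∃ p ∈ gen σ x {k, k + 6}, ∃ a, Ok σ k a ∧ a ≠ 0 ∧ p * l * p⁻¹ = x k a := by
  obtain ⟨K, _, _, ι, θ, hP, hi, h2, -, -, hr⟩ := exists_theta h k
  rw [← hr] at hl ⊢
  obtain ⟨A, rfl⟩ := hl
  obtain ⟨p, a, ha, e1⟩ := SLTwo.conj_U (l := A) (hi (by rw [map_mul, e, map_one])) (fun e1 => h1 (by rw [e1, map_one]))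
  refine ⟨θ p, ⟨p, rfl⟩, ι a, hP.ok a, fun h0 => ha ((map_eq_zero ι).1 h0), ?_⟩
  rw [← map_mul, ← map_inv, ← map_mul, e1, h2]

/-- a 2-element of `L` commuting with `s ≠ 1` of odd order -/
theorem L_eq_one [Finite E] {k : ZMod 12} {l s : G} (hl : l ∈ gen σ x {k, k + 6}) (hs : s ∈ gen σ x {k, k + 6})
    {n : ℕ} (hn : l ^ 2 ^ n = 1) (hs1 : s ≠ 1) {m : ℕ} (hm : Odd m) (hsm : s ^ m = 1) (e : l * s = s * l) : l = 1 := by
  obtain ⟨K, _, _, ι, θ, hP, hi, h2, -, -, hr⟩ := exists_theta h k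
  rw [← hr] at hl hs
  obtain ⟨A, rfl⟩ := hl
  obtain ⟨B, rfl⟩ := hs
  have := SLTwo.eq_one_of_comm (l := A) (s := B) (n := n) (hi (by rw [map_pow, hn, map_one]))
    (fun e1 => hs1 (by rw [e1, map_one])) hm (hi (by rw [map_pow, hsm, map_one])) (hi (by rw [map_mul, map_mul, e]))
  rw [this, map_one]

omit h in
theorem L_le (k : ZMod 12) : gen σ x {k, k + 6} ≤ gen σ x (arc k 7) := gen_mono (by
  rintro l (rfl | hl)
  · rw [mem_arc, sub_self]; decide
  · rw [Set.mem_singleton_iff] at hl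
    subst hl
    rw [mem_arc, add_sub_cancel_left]; decide)

omit h in
theorem Q_le (k : ZMod 12) : gen σ x (arc (k + 1) 5) ≤ gen σ x (arc k 7) := gen_mono (by
  intro l hl
  rw [mem_arc] at hl ⊢
  have : ∀ k l : ZMod 12, (l - (k + 1)).val < 5 → (l - k).val < 7 := by decide +kernel
  exact this k l hl)

/-- `Q` is normal in `P` -/
theorem Q_conj {k : ZMod 12} {g y : G} (hg : g ∈ gen σ x (arc k 7)) (hy : y ∈ gen σ x (arc (k + 1) 5)) :
    g * y * g⁻¹ ∈ gen σ x (arc (k + 1) 5) := by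
  obtain ⟨q, hq, l, hl, rfl⟩ := (h.mem_P k).1 hg
  have h1 := h.L_conj k hl hy
  have e : q * l * y * (q * l)⁻¹ = q * (l * y * l⁻¹) * q⁻¹ := by group
  rw [e]
  exact mul_mem (mul_mem hq h1) (inv_mem hq)

/-- `L ∩ Q = 1` -/
theorem eq_one_of_LQ [Finite E] {k : ZMod 12} {g : G} (hg : g ∈ gen σ x {k, k + 6}) (hQ : g ∈ gen σ x (arc (k + 1) 5)) :
    g = 1 := by
  have hx1 : x k 1 ∈ gen σ x {k, k + 6} := x_mem_gen (Set.mem_insert _ _) (ok_one σ k)
  -- `g (x k 1) g⁻¹ (x k 1)⁻¹ ∈ Q`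
  have comm : ∀ g' ∈ gen σ x (arc (k + 1) 5), g' * (x k 1 * g'⁻¹ * (x k 1)⁻¹) ∈ gen σ x (arc (k + 1) 5) :=
    fun g' hg' => mul_mem hg' (Q_conj h (L_le k hx1) (inv_mem hg'))
  rcases h.rank_bruhat hg with ⟨a, t, ha, ht, ht0, rfl⟩ | ⟨a, t, b, ha, ht, hb, ht0, rfl⟩
  · have h1 := comm _ hQ
    have okt : Ok σ k (t ^ 2) := by rw [pow_two]; exact ht.mul ht
    have e1 : x k a * hh x k t * (x k 1 * (x k a * hh x k t)⁻¹ * (x k 1)⁻¹) = x k (t ^ 2 + 1) := by
      have e2 := h.tor k k ht0 ht (ok_one σ k)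
      rw [sub_self, ch_zero_right, mul_one] at e2
      have e3 : x k a * hh x k t * (x k 1 * (x k a * hh x k t)⁻¹ * (x k 1)⁻¹) =
          x k a * (hh x k t * x k 1 * (hh x k t)⁻¹) * (x k a)⁻¹ * (x k 1)⁻¹ := by group
      rw [e3, e2, (h.x_comm_same ha okt).eq, mul_inv_cancel_right, h.x_inv (ok_one σ k), ← h.add k _ _ okt (ok_one σ k)]
    rw [e1] at h1
    have h2 := h.mem_first_eq_zero (okt.add (ok_one σ k)) h1
    have ht1 : t = 1 := by
      apply h.sq_eq_one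
      have := eq_neg_of_add_eq_zero_left h2
      rw [h.neg_eq] at this
      rw [← pow_two, this]
    rw [ht1, h.hh_one, mul_one] at hQ ⊢
    rw [h.mem_first_eq_zero ha hQ, h.x_zero]
  · exfalso
    -- conjugate by `x k b`
    have hxb : x k b ∈ gen σ x {k, k + 6} := x_mem_gen (Set.mem_insert _ _) hb
    have h0 := Q_conj h (L_le k hxb) hQ
    have e0 : x k b * (x k a * hh x k t * nn x k * x k b) * (x k b)⁻¹ = x k (b + a) * nt x k t := by
      rw [h.add k b a hb ha, ← h.hh_mul_nn k t]; group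
    rw [e0] at h0
    have h1 := comm _ h0
    have hba := hb.add ha
    have e1 : x k (b + a) * nt x k t * (x k 1 * (x k (b + a) * nt x k t)⁻¹ * (x k 1)⁻¹) =
        x k (b + a) * x (k + 6) (ch σ k 6 t) * (x k (b + a))⁻¹ * (x k 1)⁻¹ := by
      have e2 := h.nt_act k k ht0 ht (ok_one σ k)
      rw [mul_one, show 2 * k + 6 - k = k + 6 by ring, show k + 6 - k = 6 by ring] at e2
      rw [← e2]; group
    rw [e1] at h1
    have hch : Ok σ (k + 6) (ch σ k 6 t) := ok_ch h.cube k 6 ht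
    have hm : ∀ c, Ok σ k c → x k c ∈ gen σ x (arc k 6) := fun c hc => x_mem_gen (self_mem_arc (by norm_num)) hc
    have h2 : x (k + 6) (ch σ k 6 t) ∈ gen σ x (arc k 6) := by
      have h3 : x k (b + a) * x (k + 6) (ch σ k 6 t) * (x k (b + a))⁻¹ * (x k 1)⁻¹ ∈ gen σ x (arc k 6) :=
        gen_mono (arc_succ_sub (by norm_num)) h1
      have h4 := mul_mem (mul_mem (inv_mem (hm _ hba)) (mul_mem h3 (hm _ (ok_one σ k)))) (hm _ hba)
      have e5 : (x k (b + a))⁻¹ * (x k (b + a) * x (k + 6) (ch σ k 6 t) * (x k (b + a))⁻¹ * (x k 1)⁻¹ * x k 1) * x k (b + a) =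
        x (k + 6) (ch σ k 6 t) := by group
      rwa [e5] at h4
    have hne : ch σ k 6 t ≠ 0 := by
      unfold ch
      split_ifs
      · show (t ^ 2)⁻¹ ≠ 0
        exact inv_ne_zero (pow_ne_zero 2 ht0)
      · show (t ^ 2)⁻¹ ≠ 0
        exact inv_ne_zero (pow_ne_zero 2 ht0)
    have h6 := h.root_mem_arc (by norm_num) hch hne h2
    rw [mem_arc, add_sub_cancel_left] at h6
    exact absurd h6 (by decide)

/-- the Levi components are unique -/
theorem uniq [Finite E] {k : ZMod 12} {q q' l l' : G} (hq : q ∈ gen σ x (arc (k + 1) 5))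
    (hq' : q' ∈ gen σ x (arc (k + 1) 5)) (hl : l ∈ gen σ x {k, k + 6}) (hl' : l' ∈ gen σ x {k, k + 6})
    (e : q * l = q' * l') : q = q' ∧ l = l' := by
  have e1 : q'⁻¹ * q = l' * l⁻¹ := by
    rw [eq_mul_inv_iff_mul_eq, mul_assoc, e, inv_mul_cancel_left]
  have h1 := eq_one_of_LQ h (mul_mem hl' (inv_mem hl)) (by rw [← e1]; exact mul_mem (inv_mem hq') hq)
  have e2 : l = l' := (mul_inv_eq_one.1 h1).symm
  subst e2
  exact ⟨mul_right_cancel e, rfl⟩

/-- powers -/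
theorem exists_pow {k : ZMod 12} {q l : G} (hq : q ∈ gen σ x (arc (k + 1) 5)) (hl : l ∈ gen σ x {k, k + 6}) (n : ℕ) :
    ∃ q' ∈ gen σ x (arc (k + 1) 5), (q * l) ^ n = q' * l ^ n := by
  induction n with
  | zero => exact ⟨1, one_mem _, by simp⟩
  | succ n ih =>
    obtain ⟨q', hq', e⟩ := ih
    refine ⟨q' * (l ^ n * q * (l ^ n)⁻¹), mul_mem hq' (Q_conj h (L_le k (pow_mem hl n)) hq), ?_⟩
    rw [pow_succ, e, pow_succ]; group

theorem pow_eq_one [Finite E] {k : ZMod 12} {q l : G} (hq : q ∈ gen σ x (arc (k + 1) 5)) (hl : l ∈ gen σ x {k, k + 6})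
    {n : ℕ} (e : (q * l) ^ n = 1) : l ^ n = 1 := by
  obtain ⟨q', hq', e1⟩ := exists_pow h hq hl n
  rw [e] at e1
  exact ((uniq h (one_mem _) hq' (one_mem _) (pow_mem hl n) (by rw [one_mul, e1])).2).symm

omit h in
private theorem conj_L_aux [Finite G] {P Q L U : Subgroup G} (hU : IsPGroup 2 ↥U) (hk : Q ≤ U) (hQ : Q ≤ P) (hL : L ≤ P)
    (hN : ∀ g ∈ P, ∀ y ∈ Q, g * y * g⁻¹ ∈ Q) {q l : G} (hq : q ∈ Q) (hl : l ∈ L) (hs : q * l ∈ P) {m : ℕ} (hm : Odd m)
    (hlm : l ^ m = 1) (hsm : (q * l) ^ m = 1) : ∃ p ∈ P, p * (q * l) * p⁻¹ ∈ L := by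
  have : (Q.subgroupOf P).Normal := by
    refine ⟨fun n hn g => ?_⟩
    rw [Subgroup.mem_subgroupOf] at hn ⊢
    exact hN _ g.2 _ hn
  have h2 : IsPGroup 2 ↥(Q.subgroupOf P) := by
    let f : ↥(Q.subgroupOf P) →* ↥U :=
      { toFun := fun y => ⟨y.1.1, hk y.2⟩
        map_one' := rfl
        map_mul' := fun _ _ => rfl }
    refine IsPGroup.of_injective hU f ?_
    intro a b e
    exact Subtype.ext (Subtype.ext (congrArg (fun y : ↥U => (y : G)) e))
  obtain ⟨r, hr⟩ := IsPGroup.iff_card.1 h2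
  have hcop : ∀ y : ↥P, y ^ m = 1 → (Nat.card (Subgroup.zpowers y)).Coprime (Nat.card ↥(Q.subgroupOf P)) := by
    intro y hy
    rw [Nat.card_zpowers, hr]
    exact Nat.Coprime.pow_right r ((hm.coprime_two_right).coprime_dvd_left (orderOf_dvd_of_pow_eq_one hy))
  obtain ⟨p, hp⟩ := Cfsg.Agent.H967.CopConj.conj_le (Q.subgroupOf P)
    (Subgroup.zpowers (⟨l, hL hl⟩ : ↥P)) inferInstance
    (hcop _ (Subtype.ext (by simpa only [_root_.SubmonoidClass.mk_pow, _root_.OneMemClass.coe_one] using hlm))) (Subgroup.zpowers (⟨q * l, hs⟩ : ↥P))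
    (hcop _ (Subtype.ext (by simpa only [_root_.SubmonoidClass.mk_pow, _root_.OneMemClass.coe_one] using hsm))) (by
      rw [Subgroup.zpowers_le]
      have e : (⟨q * l, hs⟩ : ↥P) = ⟨q, hQ hq⟩ * ⟨l, hL hl⟩ := rfl
      rw [e, sup_comm]
      exact Subgroup.mul_mem_sup (Subgroup.mem_subgroupOf.2 hq) (Subgroup.mem_zpowers _))
  refine ⟨p, p.2, ?_⟩
  have h3 : p * (⟨q * l, hs⟩ : ↥P) * p⁻¹ ∈ Subgroup.zpowers (⟨l, hL hl⟩ : ↥P) :=
    hp (Subgroup.smul_mem_pointwise_smul _ (MulAut.conj p) _ (Subgroup.mem_zpowers _))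
  obtain ⟨n, hn⟩ := Subgroup.mem_zpowers_iff.1 h3
  have h4 := congrArg (fun y : ↥P => (y : G)) hn
  simp only [Subgroup.coe_mul, Subgroup.coe_inv, Subgroup.coe_zpow] at h4
  rw [← h4]
  exact zpow_mem hl n

/-- **Elements of odd order of `P` are conjugate in `P` to elements of `L`.** -/
theorem exists_conj_L [Finite E] [Finite G] {k : ZMod 12} (hk : gen σ x (arc (k + 1) 5) ≤ UU σ x) {s : G}
    (hs : s ∈ gen σ x (arc k 7)) {m : ℕ} (hm : Odd m) (hsm : s ^ m = 1) :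
    ∃ p ∈ gen σ x (arc k 7), p * s * p⁻¹ ∈ gen σ x {k, k + 6} := by
  obtain ⟨q, hq, l, hl, rfl⟩ := (h.mem_P k).1 hs
  exact conj_L_aux h.isPGroup_U hk (Q_le k) (L_le k) (fun _ hg _ hy => Q_conj h hg hy) hq hl hs hm (pow_eq_one h hq hl hsm) hsm

/-- **`C_P(s)`, 2-elements.** `s ∈ L`, `s ≠ 1` of odd order, `u ∈ P` a 2-element commuting with `s`: `u ∈ Q`. -/
theorem mem_Q_of_comm [Finite E] {k : ZMod 12} {s u : G} (hs : s ∈ gen σ x {k, k + 6}) (hs1 : s ≠ 1) {m : ℕ}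
    (hm : Odd m) (hsm : s ^ m = 1) (hu : u ∈ gen σ x (arc k 7)) {n : ℕ} (hun : u ^ 2 ^ n = 1) (e : u * s = s * u) :
    u ∈ gen σ x (arc (k + 1) 5) := by
  obtain ⟨q, hq, l, hl, rfl⟩ := (h.mem_P k).1 hu
  have h1 := pow_eq_one h hq hl hun
  have e1 : q * (l * s) = (s * q * s⁻¹) * (s * l) := by
    calc q * (l * s) = q * l * s := by group
      _ = s * (q * l) := e
      _ = _ := by group
  have h2 := (uniq h hq (Q_conj h (L_le k hs) hq) (mul_mem hl hs) (mul_mem hs hl) e1).2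
  rw [L_eq_one h hl hs h1 hs1 hm hsm h2, mul_one]
  exact hq

end Cfsg.Agent.H168.SRHex.Levi
end

-- part: H168/SRHex/Cen
section
/-!
# The centraliser of the short root involution `x 3 1` (team SR, S4971; helper168)

`mem_P_of_comm` : `C_A(x 3 1) ≤ gen (arc 0 7)`.
-/

set_option autoImplicit false

namespace Cfsg.Agent.H168.SRHex.Cen

open Cfsg.Agent.StdRank2.Hex Cfsg.Agent.StdRank2.Hex.HexTwo Cfsg.Agent.SplitTwo

universe u v

variable {E : Type u} [Field E] {σ : E ≃+* E} {G : Type v} [Group G] {x : ZMod 12 → E → G} (h : HexTwo σ x)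
include h

theorem not_12 {b c d : E} (hb : σ b = b) (hd : σ d = d) (hc : c ≠ 0) : q x b c d 0 0 ∉ gen σ x (arc 1 2) := by
  intro hm
  have z : σ (0 : E) = 0 := map_zero σ
  obtain ⟨a, ha, v, hv, e⟩ := (h.mem_gen_first (k := 1) (n := 1) (by norm_num)).1 hm
  obtain ⟨b', hb', v', hv', e'⟩ := (h.mem_gen_first (k := 1 + 1) (n := 0) (by norm_num)).1 hv
  rw [gen_arc_zero, Subgroup.mem_bot] at hv'
  have hb2 : σ b' = b' := hb' (by decide)
  have e3 : q x b c d 0 0 = uu x a b' 0 0 0 0 := by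
    rw [e, e', hv', mul_one]
    unfold uu
    rw [h.q2]
    rfl
  rw [← h.uq] at e3
  exact hc (h.uu_inj hb hd z hb2 z z e3).2.2.1

theorem not_456 {b c d : E} (hb : σ b = b) (hd : σ d = d) (hc : c ≠ 0) : q x b c d 0 0 ∉ gen σ x (arc 4 3) := by
  intro hm
  have z : σ (0 : E) = 0 := map_zero σ
  obtain ⟨a, ha, v, hv, e⟩ := (h.mem_gen_first (k := 4) (n := 2) (by norm_num)).1 hm
  obtain ⟨b', hb', v', hv', e'⟩ := (h.mem_gen_first (k := 4 + 1) (n := 1) (by norm_num)).1 hv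
  obtain ⟨c', hc', v'', hv'', e''⟩ := (h.mem_gen_first (k := 4 + 1 + 1) (n := 0) (by norm_num)).1 hv'
  rw [gen_arc_zero, Subgroup.mem_bot] at hv''
  have ha2 : σ a = a := ha (by decide)
  have hc2 : σ c' = c' := hc' (by decide)
  have e3 : q x b c d 0 0 = q x 0 0 a b' c' := by
    rw [e, e', e'', hv'', mul_one]
    unfold q
    rw [h.x_zero, h.x_zero, one_mul, one_mul, mul_assoc]
    rfl
  exact hc (h.q_inj hb hd z z ha2 hc2 e3).2.1

/-- conjugates of elements of `X₂X₃X₄` under the Weyl group -/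
theorem weyl3 {w : G} {e c : ZMod 12} (hc : c.val % 2 = 0) (he : e = 1 ∨ e = -1)
    (hw : ∀ j a, Ok σ j a → w * x j a * w⁻¹ = x (e * j + c) a) {b d b' c' d' : E} (hb : σ b = b) (hd : σ d = d)
    (hb' : σ b' = b') (hd' : σ d' = d') (e1 : w * q x b 1 d 0 0 * w⁻¹ = q x b' c' d' 0 0) :
    (e = 1 ∧ c = 0) ∨ (e = -1 ∧ c = 6) := by
  have z : σ (0 : E) = 0 := map_zero σ
  have o : σ (1 : E) = 1 := map_one σ
  have hU : ∀ {b c d : E}, σ b = b → σ d = d → q x b c d 0 0 ∈ UU σ x := by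
    intro b c d hb hd
    rw [← h.uq]
    exact uu_mem hb hd z
  have h1 := h.mem_of_conj hc he hw (hU hb hd) (by rw [e1]; exact hU hb' hd')
  have key : ∀ e c : ZMod 12, (e = 1 ∨ e = -1) → c.val % 2 = 0 →
      (∀ k : ZMod 12, ((k - 1).val < 6 ∧ (e * k + c - 1).val < 6) → (k - 1).val < 2) ∨
      (∀ k : ZMod 12, ((k - 1).val < 6 ∧ (e * k + c - 1).val < 6) → (k - 4).val < 3) ∨
      (e = 1 ∧ c = 0) ∨ (e = -1 ∧ c = 6) ∨ (e = 1 ∧ c = 2) ∨ (e = -1 ∧ c = 8) ∨ (e = 1 ∧ c = 10) ∨ (e = -1 ∧ c = 4) := by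
    decide +kernel
  -- the conjugate
  have ok2 : Ok σ 2 b := ok_of_fix 2 hb
  have ok4 : Ok σ 4 d := ok_of_fix 4 hd
  have e2 : w * q x b 1 d 0 0 * w⁻¹ = x (e * 2 + c) b * x (e * 3 + c) 1 * x (e * 4 + c) d := by
    rw [h.q_234, ← hw 2 b ok2, ← hw 3 1 (ok3 1), ← hw 4 d ok4]; group
  rw [e1] at e2
  rcases key e c he hc with k | k | k | k | k | k | k | k
  · exact absurd (gen_mono (x := x) (σ := σ) (S := {k | k ∈ arc 1 6 ∧ e * k + c ∈ arc 1 6}) (T := arc 1 2)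
      (fun l hl => k l hl) h1) (not_12 h hb hd one_ne_zero)
  · exact absurd (gen_mono (x := x) (σ := σ) (S := {k | k ∈ arc 1 6 ∧ e * k + c ∈ arc 1 6}) (T := arc 4 3)
      (fun l hl => k l hl) h1) (not_456 h hb hd one_ne_zero)
  · exact Or.inl k
  · exact Or.inr k
  · exfalso
    obtain ⟨rfl, rfl⟩ := k
    have e3 : x ((1 : ZMod 12) * 2 + 2) b * x ((1 : ZMod 12) * 3 + 2) 1 * x ((1 : ZMod 12) * 4 + 2) d =
        q x 0 0 b 1 d := by
      have i1 : (1 : ZMod 12) * 2 + 2 = 4 := by decide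
      have i2 : (1 : ZMod 12) * 3 + 2 = 5 := by decide
      have i3 : (1 : ZMod 12) * 4 + 2 = 6 := by decide
      unfold q
      rw [i1, i2, i3, h.x_zero, h.x_zero, one_mul, one_mul]
    rw [e3] at e2
    exact one_ne_zero (h.q_inj hb' hd' z z hb hd e2).2.2.2.1.symm
  · exfalso
    obtain ⟨rfl, rfl⟩ := k
    have e3 : x ((-1 : ZMod 12) * 2 + 8) b * x ((-1 : ZMod 12) * 3 + 8) 1 * x ((-1 : ZMod 12) * 4 + 8) d =
        q x 0 0 d 1 b := by
      have i1 : (-1 : ZMod 12) * 2 + 8 = 6 := by decide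
      have i2 : (-1 : ZMod 12) * 3 + 8 = 5 := by decide
      have i3 : (-1 : ZMod 12) * 4 + 8 = 4 := by decide
      unfold q
      rw [h.x_zero, h.x_zero, one_mul, one_mul, i1, i2, i3, ← h.s56 1 hb, mul_assoc, ← h.s46 hd hb, ← mul_assoc,
        ← h.s45 hd 1]
    rw [e3] at e2
    exact one_ne_zero (h.q_inj hb' hd' z z hd hb e2).2.2.2.1.symm
  · exfalso
    obtain ⟨rfl, rfl⟩ := k
    have i1 : (1 : ZMod 12) * 2 + 10 = 0 := by decide
    have i2 : (1 : ZMod 12) * 3 + 10 = 1 := by decide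
    have i3 : (1 : ZMod 12) * 4 + 10 = 2 := by decide
    rw [i1, i2, i3, h.q_234] at e2
    have m : x 2 b' * x 3 c' * x 4 d' ∈ gen σ x (arc (0 + 1) 5) := by
      refine mul_mem (mul_mem ?_ ?_) ?_
      · exact x_mem_gen (by rw [mem_arc]; decide) (ok_of_fix _ hb')
      · exact x_mem_gen (by rw [mem_arc]; decide) (ok3 _)
      · exact x_mem_gen (by rw [mem_arc]; decide) (ok_of_fix _ hd')
    have m' : x 1 1 * x 2 d ∈ gen σ x (arc (0 + 1) 5) := by
      refine mul_mem ?_ ?_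
      · exact x_mem_gen (by rw [mem_arc]; decide) (ok1 _)
      · exact x_mem_gen (by rw [mem_arc]; decide) (ok_of_fix _ hd)
    have e4 : x 0 0 * (x 2 b' * x 3 c' * x 4 d') = x 0 b * (x 1 1 * x 2 d) := by
      rw [h.x_zero, one_mul, e2, mul_assoc]
    have e5 := (h.uniq_first (k := 0) (n := 5) (by norm_num) (ok_zero σ 0) (ok_of_fix 0 hb) m m' e4).2
    have e6 : uu x 0 b' c' d' 0 0 = uu x 1 d 0 0 0 0 := by
      rw [h.uq, h.q_234, e5]
      unfold uu
      rw [h.q2]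
    exact one_ne_zero (h.uu_inj hb' hd' z hd z z e6).1.symm
  · exfalso
    obtain ⟨rfl, rfl⟩ := k
    have i1 : (-1 : ZMod 12) * 2 + 4 = 2 := by decide
    have i2 : (-1 : ZMod 12) * 3 + 4 = 1 := by decide
    have i3 : (-1 : ZMod 12) * 4 + 4 = 0 := by decide
    rw [i1, i2, i3, h.q_234] at e2
    have m : x 2 b' * x 3 c' * x 4 d' ∈ gen σ x (arc (0 + 1) 5) := by
      refine mul_mem (mul_mem ?_ ?_) ?_
      · exact x_mem_gen (by rw [mem_arc]; decide) (ok_of_fix _ hb')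
      · exact x_mem_gen (by rw [mem_arc]; decide) (ok3 _)
      · exact x_mem_gen (by rw [mem_arc]; decide) (ok_of_fix _ hd')
    have m' : x 1 1 * x 2 b ∈ gen σ x (arc (0 + 1) 5) := by
      refine mul_mem ?_ ?_
      · exact x_mem_gen (by rw [mem_arc]; decide) (ok1 _)
      · exact x_mem_gen (by rw [mem_arc]; decide) (ok_of_fix _ hb)
    have c01 : x 0 d * x 1 1 = x 1 1 * x 0 d := swap (h.commL1 (k := 0) (by decide) hd 1)
    have c02 : x 0 d * x 2 b = x 2 b * x 0 d := swap (h.commL2 (k := 0) (by decide) hd hb)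
    have e4 : x 0 0 * (x 2 b' * x 3 c' * x 4 d') = x 0 d * (x 1 1 * x 2 b) := by
      rw [h.x_zero, one_mul, e2, ← h.s12 1 hb, mul_assoc, ← c02, ← mul_assoc, ← c01, mul_assoc]
    have e5 := (h.uniq_first (k := 0) (n := 5) (by norm_num) (ok_zero σ 0) (ok_of_fix 0 hd) m m' e4).2
    have e6 : uu x 0 b' c' d' 0 0 = uu x 1 b 0 0 0 0 := by
      rw [h.uq, h.q_234, e5]
      unfold uu
      rw [h.q2]
    exact one_ne_zero (h.uu_inj hb' hd' z hb z z e6).1.symm

/-- **The centraliser of `x 3 1` in `A` lies in `gen (arc 0 7)`.** -/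
theorem mem_P_of_comm [Finite E] {g : G} (hg : g ∈ AA σ x) (e0 : g * x 3 1 * g⁻¹ = x 3 1) :
    g ∈ gen σ x (arc 0 7) := by
  have z : σ (0 : E) = 0 := map_zero σ
  have o : σ (1 : E) = 1 := map_one σ
  obtain ⟨u, hu, s, hs, w, hw, u', hu', rfl⟩ := h.bruhat hg
  -- `u' x₃(1) u'⁻¹`
  have form : ∀ v ∈ UU σ x, ∃ t1 t2, σ t1 = t1 ∧ σ t2 = t2 ∧ v * x 3 1 * v⁻¹ = q x t1 1 t2 0 0 := by
    intro v hv
    obtain ⟨a, b, c', d, e, f, hb, hd, hf, rfl⟩ := h.mem_UU.1 hv
    have k1 := h.uu_x3 (a := a) (c := c') (e := e) hb hd hf 1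
    exact ⟨_, _, h.fix_trc a 1, h.fix_trc 1 e, by rw [k1, mul_inv_cancel_right]⟩
  obtain ⟨t1, t2, ht1, ht2, e1⟩ := form u' hu'
  obtain ⟨r1, r2, hr1, hr2, e2⟩ := form u⁻¹ (inv_mem hu)
  rw [inv_inv] at e2
  obtain ⟨c2, hc2, ok2, act2⟩ := h.H_diag (inv_mem hs) 2
  obtain ⟨c3, hc3, ok3', act3⟩ := h.H_diag (inv_mem hs) 3
  obtain ⟨c4, hc4, ok4, act4⟩ := h.H_diag (inv_mem hs) 4
  have e3 : w * q x t1 1 t2 0 0 * w⁻¹ = q x (c2 * r1) c3 (c4 * r2) 0 0 := by
    have e4 : s⁻¹ * q x r1 1 r2 0 0 * s⁻¹⁻¹ = q x (c2 * r1) c3 (c4 * r2) 0 0 := by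
      rw [h.q_234, h.q_234, ← act2 r1 (ok_of_fix 2 hr1), ← act4 r2 (ok_of_fix 4 hr2)]
      have := act3 1 (ok3 1)
      rw [mul_one] at this
      rw [← this]; group
    rw [← e4, ← e1, ← e2]
    calc w * (u' * x 3 1 * u'⁻¹) * w⁻¹ =
        s⁻¹ * (u⁻¹ * ((u * s * w * u') * x 3 1 * (u * s * w * u')⁻¹) * u) * s⁻¹⁻¹ := by group
      _ = _ := by rw [e0]
  have f2 : σ (c2 * r1) = c2 * r1 := by rw [map_mul, ok2 (by decide), hr1]
  have f4 : σ (c4 * r2) = c4 * r2 := by rw [map_mul, ok4 (by decide), hr2]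
  obtain ⟨ε, c, hε, hc, hact⟩ := h.isW_act hw
  have hwc := weyl3 h hc hε hact ht1 ht2 f2 f4 e3
  have hUP : UU σ x ≤ gen σ x (arc 0 7) := gen_mono (by
    intro l hl
    rw [mem_arc] at hl ⊢
    have : ∀ l : ZMod 12, (l - 1).val < 6 → (l - 0).val < 7 := by decide
    exact this l hl)
  have m0 : (0 : ZMod 12) ∈ arc 0 7 := by rw [mem_arc]; decide
  have m6 : (6 : ZMod 12) ∈ arc 0 7 := by rw [mem_arc]; decide
  -- `w ∈ P` and the coordinate at 3
  have hwP : w ∈ gen σ x (arc 0 7) ∧ c3 = 1 := by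
    rcases hwc with ⟨rfl, rfl⟩ | ⟨rfl, rfl⟩
    · have hw1 := (h.isW_faithful hw (f := fun j => 1 * j + 0) hact).1 (by funext j; simp)
      subst hw1
      refine ⟨one_mem _, ?_⟩
      rw [one_mul, inv_one, mul_one] at e3
      exact (h.q_inj ht1 ht2 z f2 f4 z e3).2.1.symm
    · have hw1 := (h.isW_faithful hw (f := fun j => -1 * j + 6) hact).2 6 (by
        funext j
        have : ∀ j : ZMod 12, -1 * j + 6 = 2 * 6 + 6 - j := by decide
        exact this j)
      subst hw1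
      refine ⟨nn_mem_gen m6 (by
        have e6 : (6 : ZMod 12) + 6 = 0 := by decide
        rw [e6]; exact m0), ?_⟩
      have e5 : nn x 6 * q x t1 1 t2 0 0 * (nn x 6)⁻¹ = q x t2 1 t1 0 0 := by
        rw [h.q_234, h.q_234]
        have a2 := h.refl6 2 t1 (ok_of_fix 2 ht1)
        have a3 := h.refl6 3 1 (ok3 1)
        have a4 := h.refl6 4 t2 (ok_of_fix 4 ht2)
        have i2 : (6 : ZMod 12) - 2 = 4 := by decide
        have i3 : (6 : ZMod 12) - 3 = 3 := by decide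
        have i4 : (6 : ZMod 12) - 4 = 2 := by decide
        rw [i2] at a2
        rw [i3] at a3
        rw [i4] at a4
        calc nn x 6 * (x 2 t1 * x 3 1 * x 4 t2) * (nn x 6)⁻¹ =
            (nn x 6 * x 2 t1 * (nn x 6)⁻¹) * (nn x 6 * x 3 1 * (nn x 6)⁻¹) * (nn x 6 * x 4 t2 * (nn x 6)⁻¹) := by group
          _ = x 4 t1 * x 3 1 * x 2 t2 := by rw [a2, a3, a4]
          _ = x 2 t2 * x 3 1 * x 4 t1 := by
            rw [← h.s34 1 ht1, mul_assoc, ← h.s24 ht2 ht1, ← mul_assoc, ← h.s23 ht2 1]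
      rw [e5] at e3
      exact (h.q_inj ht2 ht1 z f2 f4 z e3).2.1.symm
  obtain ⟨hwP, hc31⟩ := hwP
  -- the torus part
  have hsP : s ∈ gen σ x (arc 0 7) := by
    obtain ⟨s1, t, hs1, ht, ht', rfl⟩ := h.mem_H.1 hs
    have a3 := h.H_act hs1 ht ht' (ok3 1)
    have b3 := act3 1 (ok3 1)
    rw [hc31, one_mul] at b3
    have e6 : hh x 1 s1 * hh x 6 t * x 3 1 * (hh x 1 s1 * hh x 6 t)⁻¹ = x 3 1 := by
      calc hh x 1 s1 * hh x 6 t * x 3 1 * (hh x 1 s1 * hh x 6 t)⁻¹ =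
          hh x 1 s1 * hh x 6 t * ((hh x 1 s1 * hh x 6 t)⁻¹ * x 3 1 * (hh x 1 s1 * hh x 6 t)⁻¹⁻¹) *
            (hh x 1 s1 * hh x 6 t)⁻¹ := by rw [b3]
        _ = x 3 1 := by group
    rw [a3, h.x_inj (ok3 _) (ok3 _)] at e6
    have i2 : (3 : ZMod 12) - 1 = 2 := by decide
    have i9 : (3 : ZMod 12) - 6 = 9 := by decide
    rw [i2, i9] at e6
    have ch1 : ch σ 1 2 s1 = s1⁻¹ * shp σ s1 := rfl
    have ch6 : ch σ 6 9 t = 1 := rfl
    rw [ch1, ch6, mul_one, mul_one] at e6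
    have e7 : shp σ s1 = s1 := by
      rw [inv_mul_eq_iff_eq_mul₀ hs1, mul_one] at e6
      exact e6
    rw [h.eq_one_of_shp hs1 e7, h.hh_one, one_mul]
    exact hh_mem_gen m6 (by
      have e6 : (6 : ZMod 12) + 6 = 0 := by decide
      rw [e6]; exact m0) (ok_of_fix _ ht')
  exact mul_mem (mul_mem (mul_mem (hUP hu) hsP) hwP) (hUP hu')

end Cfsg.Agent.H168.SRHex.Cen
end

-- part: H168/SRHex/LTwo
section
/-!
# The action of `L₂ = gen {0, 6}` on `Q₂ = gen (arc 1 5)` (team SR, S4971; helper168)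

`mem_X3` : an element of `Q₂` commuting with an element `s ∈ L₂` with `s * s ≠ 1` lies in `X₃`.
-/

set_option autoImplicit false

namespace Cfsg.Agent.H168.SRHex.LTwo

open Cfsg.Agent.StdRank2.Hex Cfsg.Agent.StdRank2.Hex.HexTwo Cfsg.Agent.SplitTwo
open Cfsg.Agent.SuzukiRankOne.SLTwoRel
open Matrix (SpecialLinearGroup)

universe u v

variable {E : Type u} [Field E] {σ : E ≃+* E} {G : Type v} [Group G] {x : ZMod 12 → E → G}

/-- elements of `Q₂` with given coordinates at 1 and 5 -/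
def In (σ : E ≃+* E) (x : ZMod 12 → E → G) (a e : E) (g : G) : Prop :=
  ∃ b c d, σ b = b ∧ σ d = d ∧ g = uu x a b c d e 0

variable (h : HexTwo σ x)
include h

theorem In.mul {a e a' e' : E} {g g' : G} (hg : In σ x a e g) (hg' : In σ x a' e' g') :
    In σ x (a + a') (e + e') (g * g') := by
  obtain ⟨b, c, d, hb, hd, rfl⟩ := hg
  obtain ⟨b', c', d', hb', hd', rfl⟩ := hg'
  have z : σ (0 : E) = 0 := map_zero σ
  have m1 := h.uu_mul (a := a) (c := c) (e := e) (a' := a') (c' := c') (e' := e') hb hd z hb' hd' z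
  have e5 : e + 0 * a' + e' = e + e' := by ring
  have e6 : (0 : E) + 0 = 0 := add_zero 0
  rw [e5, e6] at m1
  refine ⟨_, _, _, ?_, ?_, m1⟩
  · simp only [map_add, map_mul, hb, hb', h.fix_trc, h.fix_nrm, z]
  · simp only [map_add, map_mul, map_pow, hd, hd', hb', h.fix_trc, h.fix_nrm, z]

theorem in1 (a : E) : In σ x a 0 (x 1 a) := by
  have z : σ (0 : E) = 0 := map_zero σ
  refine ⟨0, 0, 0, z, z, ?_⟩
  rw [h.u1]

theorem in2 {b : E} (hb : σ b = b) : In σ x 0 0 (x 2 b) :=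
  ⟨b, 0, 0, hb, map_zero σ, by rw [h.uq, h.q2]⟩

theorem in3 (c : E) : In σ x 0 0 (x 3 c) :=
  ⟨0, c, 0, map_zero σ, map_zero σ, by rw [h.uq, h.q3]⟩

theorem in4 {d : E} (hd : σ d = d) : In σ x 0 0 (x 4 d) :=
  ⟨0, 0, d, map_zero σ, hd, by rw [h.uq, h.q4]⟩

theorem in5 (e : E) : In σ x 0 e (x 5 e) :=
  ⟨0, 0, 0, map_zero σ, map_zero σ, by rw [h.uq, h.q5]⟩

omit h in
theorem in_congr {a e a' e' : E} {g : G} (hg : In σ x a e g) (ha : a = a') (he : e = e') : In σ x a' e' g := by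
  subst ha he; exact hg

theorem in_uniq {a e a' e' : E} {g : G} (hg : In σ x a e g) (hg' : In σ x a' e' g) : a = a' ∧ e = e' := by
  obtain ⟨b, c, d, hb, hd, rfl⟩ := hg
  obtain ⟨b', c', d', hb', hd', e1⟩ := hg'
  have z : σ (0 : E) = 0 := map_zero σ
  have := h.uu_inj hb hd z hb' hd' z e1
  exact ⟨this.1, this.2.2.2.2.1⟩

/-- the elements as products -/
theorem uu_prod (a b c d e : E) : uu x a b c d e 0 = x 1 a * (x 2 b * x 3 c * x 4 d * x 5 e) := by
  unfold uu q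
  rw [h.x_zero, mul_one]

/-- linear action: `y` acts on the coordinates by the matrix `(m, n; r, s)` -/
def Act (σ : E ≃+* E) (x : ZMod 12 → E → G) (m n r s : E) (y : G) : Prop :=
  (∀ a e g, In σ x a e g → In σ x (m * a + n * e) (r * a + s * e) (y * g * y⁻¹)) ∧
  (∀ b d, σ b = b → σ d = d → y * (x 2 b * x 4 d) * y⁻¹ = x 2 (m * b + n * d) * x 4 (r * b + s * d))

omit h in
theorem Act.mul {m n r s m' n' r' s' : E} {y y' : G} (hy : Act σ x m n r s y) (hy' : Act σ x m' n' r' s' y')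
    (f : σ m' = m' ∧ σ n' = n' ∧ σ r' = r' ∧ σ s' = s') :
    Act σ x (m * m' + n * r') (m * n' + n * s') (r * m' + s * r') (r * n' + s * s') (y * y') := by
  constructor
  · intro a e g hg
    have h1 := hy.1 _ _ _ (hy'.1 _ _ _ hg)
    have e1 : y * (y' * g * y'⁻¹) * y⁻¹ = y * y' * g * (y * y')⁻¹ := by group
    rw [e1] at h1
    exact in_congr h1 (by ring) (by ring)
  · intro b d hb hd
    have h1 := hy'.2 b d hb hd
    have h2 := hy.2 (m' * b + n' * d) (r' * b + s' * d) (by rw [map_add, map_mul, map_mul, f.1, f.2.1, hb, hd])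
      (by rw [map_add, map_mul, map_mul, f.2.2.1, f.2.2.2, hb, hd])
    rw [← h1] at h2
    have e1 : y * (y' * (x 2 b * x 4 d) * y'⁻¹) * y⁻¹ = y * y' * (x 2 b * x 4 d) * (y * y')⁻¹ := by group
    rw [e1] at h2
    rw [h2]
    congr 2 <;> ring

/-- the reflection -/
theorem act_nn : Act σ x 0 1 1 0 (nn x 6) := by
  have i1 : (6 : ZMod 12) - 1 = 5 := by decide
  have i2 : (6 : ZMod 12) - 2 = 4 := by decide
  have i3 : (6 : ZMod 12) - 3 = 3 := by decide
  have i4 : (6 : ZMod 12) - 4 = 2 := by decide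
  have i5 : (6 : ZMod 12) - 5 = 1 := by decide
  constructor
  · rintro a e g ⟨b, c, d, hb, hd, rfl⟩
    have a1 := h.refl6 1 a (ok1 a)
    have a2 := h.refl6 2 b (ok_of_fix 2 hb)
    have a3 := h.refl6 3 c (ok3 c)
    have a4 := h.refl6 4 d (ok_of_fix 4 hd)
    have a5 := h.refl6 5 e (ok5 e)
    rw [i1] at a1
    rw [i2] at a2
    rw [i3] at a3
    rw [i4] at a4
    rw [i5] at a5
    have e1 : nn x 6 * uu x a b c d e 0 * (nn x 6)⁻¹ = x 5 a * (x 4 b * x 3 c * x 2 d * x 1 e) := by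
      rw [uu_prod h]
      calc nn x 6 * (x 1 a * (x 2 b * x 3 c * x 4 d * x 5 e)) * (nn x 6)⁻¹ = (nn x 6 * x 1 a * (nn x 6)⁻¹) *
          ((nn x 6 * x 2 b * (nn x 6)⁻¹) * (nn x 6 * x 3 c * (nn x 6)⁻¹) * (nn x 6 * x 4 d * (nn x 6)⁻¹) *
            (nn x 6 * x 5 e * (nn x 6)⁻¹)) := by group
        _ = _ := by rw [a1, a2, a3, a4, a5]
    rw [e1]
    have h1 := In.mul h (in5 h a) (In.mul h (In.mul h (In.mul h (in4 h hb) (in3 h c)) (in2 h hd)) (in1 h e))
    exact in_congr h1 (by ring) (by ring)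
  · intro b d hb hd
    have a2 := h.refl6 2 b (ok_of_fix 2 hb)
    have a4 := h.refl6 4 d (ok_of_fix 4 hd)
    rw [i2] at a2
    rw [i4] at a4
    have e1 : nn x 6 * (x 2 b * x 4 d) * (nn x 6)⁻¹ = x 4 b * x 2 d := by rw [← a2, ← a4]; group
    rw [e1, zero_mul, zero_add, one_mul, one_mul, zero_mul, add_zero, h.s24 hd hb]

/-- the lower root elements -/
theorem act_x6 {t : E} (ht : σ t = t) : Act σ x 1 0 t 1 (x 6 t) := by
  have cj : ∀ {y z : G}, y * z = z * y → y * z * y⁻¹ = z := fun e => by rw [e, mul_inv_cancel_right]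
  constructor
  · rintro a e g ⟨b, c, d, hb, hd, rfl⟩
    have a1 : In σ x a (t * a) (x 6 t * x 1 a * (x 6 t)⁻¹) := by
      have m1 := h.uu_mul (a := 0) (b := 0) (c := 0) (d := 0) (e := 0) (a' := a) (b' := 0) (c' := 0) (d' := 0)
        (e' := 0) (f' := 0) (map_zero σ) (map_zero σ) ht (map_zero σ) (map_zero σ) (map_zero σ)
      rw [h.uq, h.q6, h.u1, add_zero t] at m1
      have hB : σ (0 + trc σ a 0 + trc σ (shp σ a) 0 + t * nrm σ a + 0) =
          0 + trc σ a 0 + trc σ (shp σ a) 0 + t * nrm σ a + 0 := by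
        simp only [map_add, map_mul, h.fix_trc, ht, h.fix_nrm, map_zero]
      have hD : σ (0 + trc σ a (shp σ 0) + t ^ 2 * nrm σ a + t * trc σ (shp σ a) 0 + 0 + 0 * t +
          trc σ 0 (0 + t * a)) = 0 + trc σ a (shp σ 0) + t ^ 2 * nrm σ a + t * trc σ (shp σ a) 0 + 0 + 0 * t +
          trc σ 0 (0 + t * a) := by
        simp only [map_add, map_mul, map_pow, h.fix_trc, ht, h.fix_nrm, map_zero]
      generalize 0 + trc σ a 0 + trc σ (shp σ a) 0 + t * nrm σ a + 0 = B at m1 hB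
      generalize 0 + trc σ a (shp σ 0) + t ^ 2 * nrm σ a + t * trc σ (shp σ a) 0 + 0 + 0 * t +
          trc σ 0 (0 + t * a) = D at m1 hD
      generalize 0 + crs σ a 0 + t * shp σ a + 0 = C at m1
      refine ⟨B, C, D, hB, hD, ?_⟩
      rw [m1, mul_inv_eq_iff_eq_mul]
      unfold uu q
      rw [h.x_zero, mul_one, zero_add a, zero_add (t * a), add_zero (t * a)]
      group
    have a2 : In σ x 0 0 (x 6 t * x 2 b * (x 6 t)⁻¹) := by
      have e1 : x 6 t * x 2 b * (x 6 t)⁻¹ = x 4 (b * t) * x 2 b := by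
        have := h.c26 hb ht
        have e2 : x 6 t * x 2 b = x 4 (b * t) * (x 2 b * x 6 t) := by
          rw [this, ← mul_assoc, ← mul_assoc, h.x_sq (ok_of_fix 4 (by rw [map_mul, hb, ht])), one_mul]
        rw [e2, ← mul_assoc, mul_inv_cancel_right]
      rw [e1]
      exact in_congr (In.mul h (in4 h (by rw [map_mul, hb, ht])) (in2 h hb)) (by ring) (by ring)
    have a3 : x 6 t * x 3 c * (x 6 t)⁻¹ = x 3 c := cj (h.s36 c ht).symm
    have a4 : x 6 t * x 4 d * (x 6 t)⁻¹ = x 4 d := cj (h.s46 hd ht).symm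
    have a5 : x 6 t * x 5 e * (x 6 t)⁻¹ = x 5 e := cj (h.s56 e ht).symm
    have e1 : x 6 t * uu x a b c d e 0 * (x 6 t)⁻¹ = (x 6 t * x 1 a * (x 6 t)⁻¹) *
        ((x 6 t * x 2 b * (x 6 t)⁻¹) * (x 6 t * x 3 c * (x 6 t)⁻¹) * (x 6 t * x 4 d * (x 6 t)⁻¹) *
          (x 6 t * x 5 e * (x 6 t)⁻¹)) := by
      rw [uu_prod h]; group
    rw [e1, a3, a4, a5]
    exact in_congr (In.mul h a1 (In.mul h (In.mul h (In.mul h a2 (in3 h c)) (in4 h hd)) (in5 h e))) (by ring) (by ring)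
  · intro b d hb hd
    have hbt : σ (b * t) = b * t := by rw [map_mul, hb, ht]
    have e2 : x 6 t * x 2 b = x 4 (b * t) * (x 2 b * x 6 t) := by
      rw [h.c26 hb ht, ← mul_assoc, ← mul_assoc, h.x_sq (ok_of_fix 4 hbt), one_mul]
    have e3 : x 6 t * x 4 d = x 4 d * x 6 t := (h.s46 hd ht).symm
    have e4 : x 6 t * (x 2 b * x 4 d) * (x 6 t)⁻¹ = x 4 (b * t) * x 2 b * x 4 d := by
      calc x 6 t * (x 2 b * x 4 d) * (x 6 t)⁻¹ = (x 6 t * x 2 b) * x 4 d * (x 6 t)⁻¹ := by group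
        _ = x 4 (b * t) * x 2 b * (x 6 t * x 4 d) * (x 6 t)⁻¹ := by rw [e2]; group
        _ = _ := by rw [e3]; group
    rw [e4, ← h.s24 hb hbt, mul_assoc, ← h.add 4 _ _ (ok_of_fix 4 hbt) (ok_of_fix 4 hd), one_mul, zero_mul,
      add_zero, one_mul, mul_comm b t]

/-- **An element of `Q₂` commuting with `s ∈ L₂`, `s * s ≠ 1`, lies in `X₃`.** -/
theorem mem_X3 [Finite E] {s u : G} (hs : s ∈ gen σ x {(0 : ZMod 12), 0 + 6}) (hs1 : s * s ≠ 1)
    (hu : u ∈ gen σ x (arc (0 + 1) 5)) (e0 : s * u = u * s) : ∃ c, u = x 3 c := by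
  obtain ⟨K, _, _, ι, θ, hP, hi, h1, h2, h3, hr⟩ := Levi.exists_theta h 0
  have e06 : (0 : ZMod 12) + 6 = 6 := by decide
  have fixι : ∀ a, σ (ι a) = ι a := fun a => hP.ok a (by decide)
  have nn06 : nn x 0 = nn x 6 := by
    have := h.nn_opp 0
    rw [e06] at this
    exact this.symm
  -- the action of `SL₂(K)`
  let R : _root_.Matrix.SpecialLinearGroup (Fin 2) K → Prop := fun M =>
    Act σ x (ι (mat M 0 0)) (ι (mat M 0 1)) (ι (mat M 1 0)) (ι (mat M 1 1)) (θ M)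
  have Rmul : ∀ M N, R M → R N → R (M * N) := by
    intro M N hM hN
    have := Act.mul hM hN ⟨fixι _, fixι _, fixι _, fixι _⟩
    have e1 : mat (M * N) = mat M * mat N := rfl
    show Act σ x (ι (mat (M * N) 0 0)) (ι (mat (M * N) 0 1)) (ι (mat (M * N) 1 0)) (ι (mat (M * N) 1 1)) (θ (M * N))
    rw [map_mul, e1]
    simp only [Matrix.mul_apply, Fin.sum_univ_two, map_add, map_mul]
    exact this
  have RT : R (Tm K) := by
    have := act_nn h
    show Act σ x (ι (mat (Tm K) 0 0)) (ι (mat (Tm K) 0 1)) (ι (mat (Tm K) 1 0)) (ι (mat (Tm K) 1 1)) (θ (Tm K))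
    rw [h2, nn06, Tm_mat]
    simpa using this
  have RL : ∀ a, R (loU a) := by
    intro a
    have hm : mat (loU a) = !![1, 0; a, 1] := by
      unfold loU
      rw [mat_mul, mat_mul, Tm_mat, U_mat, Matrix.mul_fin_two, Matrix.mul_fin_two]
      simp
    show Act σ x (ι (mat (loU a) 0 0)) (ι (mat (loU a) 0 1)) (ι (mat (loU a) 1 0)) (ι (mat (loU a) 1 1)) (θ (loU a))
    rw [h3, hm, e06]
    simpa only [_root_.Fin.isValue, _root_.Matrix.of_apply, _root_.Matrix.cons_val', _root_.Matrix.cons_val_zero, _root_.Matrix.cons_val_fin_one, _root_.map_one, _root_.Matrix.cons_val_one, _root_.map_zero] using act_x6 h (fixι a)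
  have RU : ∀ a, R (U a) := by
    intro a
    have e1 : U a = Tm K * loU a * Tm K := by
      have t2 : Tm K * Tm K = 1 := rel_model.tt
      unfold loU
      calc U a = (Tm K * Tm K) * U a * (Tm K * Tm K) := by rw [t2]; group
        _ = _ := by group
    rw [e1]
    exact Rmul _ _ (Rmul _ _ RT (RL a)) RT
  have RD : ∀ c : Kˣ, R (Dg c) := by
    intro c
    have e1 : Dg c = U (c : K) * loU ((c⁻¹ : Kˣ) : K) * U (c : K) * Tm K := by
      have hm : mat (loU ((c⁻¹ : Kˣ) : K)) = !![1, 0; ((c⁻¹ : Kˣ) : K), 1] := by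
        unfold loU
        rw [mat_mul, mat_mul, Tm_mat, U_mat, Matrix.mul_fin_two, Matrix.mul_fin_two]
        simp
      have two : (1 : K) + 1 = 0 := CharTwo.add_self_eq_zero 1
      have cc : (c : K) * ((c⁻¹ : Kˣ) : K) = 1 := by rw [← Units.val_mul, mul_inv_cancel, Units.val_one]
      have cc' : ((c⁻¹ : Kˣ) : K) * (c : K) = 1 := by rw [mul_comm, cc]
      apply mat_ext
      rw [mat_mul, mat_mul, mat_mul, hm, Dg_mat, U_mat, Tm_mat, Matrix.mul_fin_two, Matrix.mul_fin_two,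
        Matrix.mul_fin_two]
      have k1 : ((1 * 1 + (c : K) * ((c⁻¹ : Kˣ) : K)) * 1 + (1 * 0 + (c : K) * 1) * 0) * 0 +
          ((1 * 1 + (c : K) * ((c⁻¹ : Kˣ) : K)) * (c : K) + (1 * 0 + (c : K) * 1) * 1) * 1 = (c : K) := by
        rw [cc]; linear_combination (c : K) * two
      have k2 : ((1 * 1 + (c : K) * ((c⁻¹ : Kˣ) : K)) * 1 + (1 * 0 + (c : K) * 1) * 0) * 1 +
          ((1 * 1 + (c : K) * ((c⁻¹ : Kˣ) : K)) * (c : K) + (1 * 0 + (c : K) * 1) * 1) * 0 = 0 := by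
        rw [cc]; linear_combination two
      have k3 : ((0 * 1 + 1 * ((c⁻¹ : Kˣ) : K)) * 1 + (0 * 0 + 1 * 1) * 0) * 0 +
          ((0 * 1 + 1 * ((c⁻¹ : Kˣ) : K)) * (c : K) + (0 * 0 + 1 * 1) * 1) * 1 = (0 : K) := by
        linear_combination cc' + two
      have k4 : ((0 * 1 + 1 * ((c⁻¹ : Kˣ) : K)) * 1 + (0 * 0 + 1 * 1) * 0) * 1 +
          ((0 * 1 + 1 * ((c⁻¹ : Kˣ) : K)) * (c : K) + (0 * 0 + 1 * 1) * 1) * 0 = ((c⁻¹ : Kˣ) : K) := by
        ring
      rw [k1, k2, k3, k4]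
    rw [e1]
    exact Rmul _ _ (Rmul _ _ (Rmul _ _ (RU _) (RL _)) (RU _)) RT
  have Rall : ∀ M, R M := by
    intro M
    rcases exists_form M with ⟨a, c, rfl⟩ | ⟨a, c, b, rfl⟩
    · exact Rmul _ _ (RU _) (RD _)
    · exact Rmul _ _ (Rmul _ _ (Rmul _ _ (RU _) (RD _)) RT) (RU _)
  -- the element
  rw [← hr] at hs
  obtain ⟨M, rfl⟩ := hs
  have hM := Rall M
  obtain ⟨m, n, r, s, hdet, rfl⟩ := exists_mk M
  have hA : Act σ x (ι m) (ι n) (ι r) (ι s) (θ (_root_.Cfsg.Agent.SuzukiRankOne.SLTwoRel.mk m n r s hdet)) := hM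
  have htr : m + s ≠ 0 := by
    intro h0
    apply hs1
    rw [← map_mul, (SLTwo.sq_iff hdet).2 h0, map_one]
  have hdet' := SLTwo.det_add hdet
  have two : (2 : E) = 0 := h.two
  have htr' : ι m + ι s ≠ 0 := by
    rw [← map_add]
    exact fun h0 => htr ((map_eq_zero ι).1 h0)
  have hdet2 : ι m * ι s + ι n * ι r = 1 := by rw [← map_mul, ← map_mul, ← map_add, hdet', map_one]
  have zero_of : ∀ a e : E, ι m * a + ι n * e = a → ι r * a + ι s * e = e → a = 0 ∧ e = 0 := by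
    intro a e k1 k2
    have j1 : (ι m + ι s) * a = 0 := by
      linear_combination -(ι s - 1) * k1 + ι n * k2 + a * hdet2 + (a - ι n * ι r * a) * two
    have j2 : (ι m + ι s) * e = 0 := by
      linear_combination -(ι m - 1) * k2 + ι r * k1 + e * hdet2 + (e - ι n * ι r * e) * two
    exact ⟨(mul_eq_zero.1 j1).resolve_left htr', (mul_eq_zero.1 j2).resolve_left htr'⟩
  have e01 : (0 : ZMod 12) + 1 = 1 := by decide
  rw [e01] at hu
  obtain ⟨a, b, c, d, e, hb, hd, rfl⟩ := h.mem_Q2.1 hu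
  have hc := hA.1 a e _ ⟨b, c, d, hb, hd, rfl⟩
  rw [e0, mul_inv_cancel_right] at hc
  obtain ⟨k1, k2⟩ := in_uniq h hc ⟨b, c, d, hb, hd, rfl⟩
  obtain ⟨rfl, rfl⟩ := zero_of a e k1 k2
  -- the coordinates at 2, 4
  have e5 : uu x 0 b c d 0 0 = x 3 c * (x 2 b * x 4 d) := by
    rw [h.uq, h.q_234, h.s23 hb c, mul_assoc]
  have c3 : θ (_root_.Cfsg.Agent.SuzukiRankOne.SLTwoRel.mk m n r s hdet) * x 3 c = x 3 c * θ (_root_.Cfsg.Agent.SuzukiRankOne.SLTwoRel.mk m n r s hdet) := by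
    have hmem : θ (_root_.Cfsg.Agent.SuzukiRankOne.SLTwoRel.mk m n r s hdet) ∈ gen σ x {(0 : ZMod 12), 0 + 6} := by rw [← hr]; exact ⟨_, rfl⟩
    have : ∀ y ∈ gen σ x {(0 : ZMod 12), 0 + 6}, Commute y (x 3 c) := by
      intro y hy
      unfold gen at hy
      induction hy using Subgroup.closure_induction with
      | mem y hy =>
        obtain ⟨k, hk, t, ht, rfl⟩ := hy
        rcases hk with rfl | hk
        · exact swap (h.commL3 (k := 0) (by decide) (ht (by decide)) c)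
        · rw [Set.mem_singleton_iff, e06] at hk
          subst hk
          exact (h.s36 c (ht (by decide))).symm
      | one => exact Commute.one_left _
      | mul y z _ _ h1 h2 => exact h1.mul_left h2
      | inv y _ h1 => exact h1.inv_left
    exact this _ hmem
  have hc2 := hA.2 b d hb hd
  have e6 : θ (_root_.Cfsg.Agent.SuzukiRankOne.SLTwoRel.mk m n r s hdet) * (x 2 b * x 4 d) = (x 2 b * x 4 d) * θ (_root_.Cfsg.Agent.SuzukiRankOne.SLTwoRel.mk m n r s hdet) := by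
    rw [e5] at e0
    have : x 3 c * (θ (_root_.Cfsg.Agent.SuzukiRankOne.SLTwoRel.mk m n r s hdet) * (x 2 b * x 4 d)) = x 3 c * ((x 2 b * x 4 d) * θ (_root_.Cfsg.Agent.SuzukiRankOne.SLTwoRel.mk m n r s hdet)) := by
      rw [← mul_assoc, ← c3, mul_assoc, e0, mul_assoc]
    exact mul_left_cancel this
  rw [e6, mul_inv_cancel_right] at hc2
  have f2 : σ (ι m * b + ι n * d) = ι m * b + ι n * d := by rw [map_add, map_mul, map_mul, fixι, fixι, hb, hd]
  have f4 : σ (ι r * b + ι s * d) = ι r * b + ι s * d := by rw [map_add, map_mul, map_mul, fixι, fixι, hb, hd]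
  have e7 : q x b 0 d 0 0 = q x (ι m * b + ι n * d) 0 (ι r * b + ι s * d) 0 0 := by
    rw [h.q_234, h.q_234, h.x_zero, mul_one, mul_one, hc2]
  have z : σ (0 : E) = 0 := map_zero σ
  have e8 := h.q_inj hb hd z f2 f4 z e7
  obtain ⟨rfl, rfl⟩ := zero_of b d e8.1.symm e8.2.2.1.symm
  exact ⟨c, by rw [h.uq, h.q3]⟩

end Cfsg.Agent.H168.SRHex.LTwo
end

private theorem dce_30e6d476b1d1 : _root_.True := by
  try have : _root_.True := by simp only [_root_.Cfsg.Agent.SuzukiRankOne.SLTwoRel.Tm.congr_simp]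
  try have : _root_.True := by simp only [_root_.Cfsg.Agent.SuzukiRankOne.SLTwoRel.mk.congr_simp]
  exact _root_.True.intro
end

-- part: H196/SRX/Final_mg
section
prune_inst 0x4052004400902020000000086110000040800040000000000082001000000202a0d02a04008203100180a800000000000001000a0404000000e000400000000000088100461c00000800018000180400000000000000000000000000000000004000000000
set_option linter.all false
open scoped Cfsg.Agent.FastGrp

-- part: H196/SRX/Defs
section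
/-!
# TEAM SR (S4971), exceptional groups: the combinatorial data of an isolated element (helper196)

`hp : IsType D l M`, lattice `ℤ^l` of the roots. `Ell hp ℓ f P U m lam`:

* `f` : a functional (coefficient vector); `Ψ = {roots a : ℓ ∣ f a}` is the root system of the centraliser of the torus
  element `s` with `a(s) = ζ ^ f a`, `ζ` of order `ℓ`;
* `P` : the simple system of `Ψ⁺` (full rank), `U` the dual matrix: `ℓ x = ∑ U_i(x) P_i`;
* `m`, `lam` : `U_i ≡ m_i f mod ℓ`, `f lam = 1`.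

`Cent hp ℓ f P` : an element of `W` preserving `f mod ℓ` and `{P i}` is trivial (connected centraliser).

* `Ell.of_chk`, `Cent.of_chk` : both follow from a finite check (`by decide +kernel`).
-/

set_option autoImplicit false
set_option linter.unusedSectionVars false

namespace Cfsg.Agent.H196.SRX

open CoxeterSystem Cfsg Cfsg.Lie Cfsg.Lie.ChevalleyDatum
open Cfsg.Agent.ChevalleyStructure Cfsg.Agent.ChevalleyStructure.Elts Cfsg.Agent.ChevalleyStructure.CoxeterGeom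
  Cfsg.Agent.ChevalleyStructure.CoxeterGeomTypes Cfsg.Agent.ChevalleyStructure.NPerm
open Cfsg.Agent.Tits.Roots Cfsg.Agent.Tits.Core Cfsg.Agent.Nodes Cfsg.Agent.Nodes.Reps Cfsg.Agent.Nodes.BNOf
  Cfsg.Agent.Nodes.RGDChev Cfsg.Agent.Nodes.Bruhat
open Cfsg.Agent.KFacts.RgdField Cfsg.Agent.KFacts.RgdChevCoord Cfsg.Agent.H129.TorusChar

/-- the functional with coefficient vector `v` -/
def fn {l : ℕ} (v x : Fin l → ℤ) : ℤ := ∑ j, v j * x j

theorem fn_add {l : ℕ} (v x y : Fin l → ℤ) : fn v (x + y) = fn v x + fn v y := by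
  unfold fn
  rw [← Finset.sum_add_distrib]
  exact Finset.sum_congr rfl fun j _ => by rw [Pi.add_apply, mul_add]

theorem fn_smul {l : ℕ} (v : Fin l → ℤ) (c : ℤ) (x : Fin l → ℤ) : fn v (c • x) = c * fn v x := by
  unfold fn
  rw [Finset.mul_sum]
  exact Finset.sum_congr rfl fun j _ => by rw [Pi.smul_apply, smul_eq_mul]; ring

/-- `fn` as an additive homomorphism -/
def fnH {l : ℕ} (v : Fin l → ℤ) : (Fin l → ℤ) →+ ℤ where
  toFun := fn v
  map_zero' := by
    show ∑ j, v j * (0 : Fin l → ℤ) j = 0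
    simp only [_root_.Pi.zero_apply, _root_.MulZeroClass.mul_zero, _root_.Finset.sum_const_zero]
  map_add' := fn_add v

@[simp] theorem fnH_apply {l : ℕ} (v x : Fin l → ℤ) : fnH v x = fn v x := rfl

theorem fn_sum {l : ℕ} {ι : Type*} (s : Finset ι) (v : Fin l → ℤ) (x : ι → Fin l → ℤ) :
    fn v (∑ i ∈ s, x i) = ∑ i ∈ s, fn v (x i) := map_sum (fnH v) x s

section

variable {D : ChevalleyDatum} {l : ℕ} {M : CoxeterMatrix (Fin l)} (hp : IsType D l M)

/-- The data of an isolated element of order `ℓ`. -/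
structure Ell (hp : IsType D l M) (ℓ : ℕ) (f : Fin l → ℤ) (P U : Fin l → Fin l → ℤ) (m lam : Fin l → ℤ) : Prop where
  root : ∀ i, IsRoot M.toCoxeterSystem hp.isCartan (P i)
  pos : ∀ i, 0 ≤ P i
  fP : ∀ i, (ℓ : ℤ) ∣ fn f (P i)
  expand : ∀ x : Fin l → ℤ, (ℓ : ℤ) • x = ∑ i, fn (U i) x • P i
  dual : ∀ i j, fn (U i) (P j) = if i = j then (ℓ : ℤ) else 0
  nonneg : ∀ a, IsRoot M.toCoxeterSystem hp.isCartan a → 0 ≤ a → (ℓ : ℤ) ∣ fn f a → ∀ i, 0 ≤ fn (U i) a
  cong : ∀ i x, (ℓ : ℤ) ∣ fn (U i) x - m i * fn f x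
  lam : fn f lam = 1

/-- Connectedness of the centraliser. -/
def Cent (hp : IsType D l M) (ℓ : ℕ) (f : Fin l → ℤ) (P : Fin l → Fin l → ℤ) : Prop :=
  ∀ w : M.Group, (∀ x, (ℓ : ℤ) ∣ fn f (rep M.toCoxeterSystem hp.isCartan w x) - fn f x) →
    (∀ i, ∃ j, rep M.toCoxeterSystem hp.isCartan w (P i) = P j) → w = 1

/-- The finite check for `Ell`. `ri i` is the index of the root `P i`. -/
def chk (D : ChevalleyDatum) (l ℓ : ℕ) (f : Fin l → ℤ) (P U : Fin l → Fin l → ℤ) (m lam : Fin l → ℤ)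
    (ri : Fin l → ℕ) : Prop :=
  (∀ i, ri i < D.nroots ∧ ∀ j, vec D l (ri i) j = P i j) ∧
  (∀ i j, 0 ≤ P i j) ∧
  (∀ i, (ℓ : ℤ) ∣ fn f (P i)) ∧
  (∀ j k, ∑ i, U i j * P i k = if j = k then (ℓ : ℤ) else 0) ∧
  (∀ i j, fn (U i) (P j) = if i = j then (ℓ : ℤ) else 0) ∧
  (∀ r : Fin D.nroots, (∀ j, 0 ≤ vec D l r j) → (ℓ : ℤ) ∣ fn f (vec D l r) → ∀ i, 0 ≤ fn (U i) (vec D l r)) ∧
  (∀ i j, (ℓ : ℤ) ∣ U i j - m i * f j) ∧
  fn f lam = 1

instance decChk (D : ChevalleyDatum) (l ℓ : ℕ) (f : Fin l → ℤ) (P U : Fin l → Fin l → ℤ) (m lam : Fin l → ℤ)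
    (ri : Fin l → ℕ) : Decidable (chk D l ℓ f P U m lam ri) := by
  unfold chk; infer_instance

theorem Ell.of_chk {ℓ : ℕ} {f : Fin l → ℤ} {P U : Fin l → Fin l → ℤ} {m lam : Fin l → ℤ} {ri : Fin l → ℕ}
    (h : chk D l ℓ f P U m lam ri) : Ell hp ℓ f P U m lam := by
  obtain ⟨h1, h2, h3, h4, h5, h6, h7, h8⟩ := h
  have hroot : ∀ i, vec D l (ri i) = P i := fun i => funext (h1 i).2
  refine ⟨fun i => ?_, fun i j => h2 i j, h3, fun x => ?_, h5, ?_, fun i x => ?_, h8⟩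
  · rw [← hroot i]
    exact isRoot_vec hp _ (h1 i).1
  · funext k
    rw [Finset.sum_apply]
    simp only [Pi.smul_apply, smul_eq_mul]
    unfold fn
    simp only [Finset.sum_mul]
    rw [Finset.sum_comm]
    have h9 : ∀ j, ∑ i, U i j * x j * P i k = x j * (if j = k then (ℓ : ℤ) else 0) := by
      intro j
      rw [← h4 j k, Finset.mul_sum]
      exact Finset.sum_congr rfl fun i _ => by ring
    simp only [h9]
    rw [Finset.sum_eq_single k]
    · rw [if_pos rfl, mul_comm]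
    · intro j _ hj
      rw [if_neg hj, mul_zero]
    · intro hk
      exact absurd (Finset.mem_univ k) hk
  · intro a ha h0 hf i
    obtain ⟨r, hr, rfl⟩ := (isRoot_iff hp M.toCoxeterSystem a).1 ha
    exact h6 ⟨r, hr⟩ (fun j => h0 j) hf i
  · have h9 : fn (U i) x - m i * fn f x = ∑ j, (U i j - m i * f j) * x j := by
      unfold fn
      rw [Finset.mul_sum, ← Finset.sum_sub_distrib]
      exact Finset.sum_congr rfl fun j _ => by ring
    rw [h9]
    exact Finset.dvd_sum fun j _ => Dvd.dvd.mul_right (h7 i j) _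

/-! ### the invariant form -/

/-- the bilinear form with matrix `S` -/
def sf {l : ℕ} (S : Fin l → Fin l → ℤ) (x y : Fin l → ℤ) : ℤ := ∑ i, ∑ j, S i j * x i * y j

theorem sf_simple {S : Fin l → Fin l → ℤ} (hs : ∀ i j, S i j = S j i)
    (hS : ∀ i j, 2 * S i j = S i i * cartanOf D l i j) (i : Fin l) (x y : Fin l → ℤ) :
    sf S (rep M.toCoxeterSystem hp.isCartan (M.toCoxeterSystem.simple i) x)
      (rep M.toCoxeterSystem hp.isCartan (M.toCoxeterSystem.simple i) y) = sf S x y := by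
  have hadd1 : ∀ x x' y, sf S (x + x') y = sf S x y + sf S x' y := fun x x' y => by
    unfold sf
    simp only [Pi.add_apply, ← Finset.sum_add_distrib]
    exact Finset.sum_congr rfl fun i _ => Finset.sum_congr rfl fun j _ => by ring
  have hadd2 : ∀ x y y', sf S x (y + y') = sf S x y + sf S x y' := fun x y y' => by
    unfold sf
    simp only [Pi.add_apply, ← Finset.sum_add_distrib]
    exact Finset.sum_congr rfl fun i _ => Finset.sum_congr rfl fun j _ => by ring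
  have hsm1 : ∀ (c : ℤ) x y, sf S (c • x) y = c * sf S x y := fun c x y => by
    unfold sf
    simp only [Pi.smul_apply, smul_eq_mul, Finset.mul_sum]
    exact Finset.sum_congr rfl fun i _ => Finset.sum_congr rfl fun j _ => by ring
  have hsm2 : ∀ (c : ℤ) x y, sf S x (c • y) = c * sf S x y := fun c x y => by
    unfold sf
    simp only [Pi.smul_apply, smul_eq_mul, Finset.mul_sum]
    exact Finset.sum_congr rfl fun i _ => Finset.sum_congr rfl fun j _ => by ring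
  have hsymm : ∀ x y, sf S x y = sf S y x := fun x y => by
    unfold sf
    rw [Finset.sum_comm]
    exact Finset.sum_congr rfl fun i _ => Finset.sum_congr rfl fun j _ => by rw [hs j i]; ring
  have hsr : ∀ (y : Fin l → ℤ), 2 * sf S (sr i) y = S i i * pairing (cartanOf D l) i y := fun y => by
    unfold sf pairing
    rw [Finset.sum_eq_single i]
    · rw [Finset.mul_sum, Finset.mul_sum]
      refine Finset.sum_congr rfl fun j _ => ?_
      rw [sr_self, mul_one, ← mul_assoc, hS i j]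
      ring
    · intro j _ hj
      exact Finset.sum_eq_zero fun k _ => by rw [sr_ne hj]; ring
    · intro hi
      exact absurd (Finset.mem_univ i) hi
  have hii : sf S (sr i) (sr i) = S i i := by
    unfold sf
    rw [Finset.sum_eq_single i]
    · rw [Finset.sum_eq_single i]
      · rw [sr_self, mul_one, mul_one]
      · intro j _ hj
        rw [sr_ne hj]; ring
      · intro hi
        exact absurd (Finset.mem_univ i) hi
    · intro j _ hj
      exact Finset.sum_eq_zero fun k _ => by rw [sr_ne hj]; ring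
    · intro hi
      exact absurd (Finset.mem_univ i) hi
  rw [rep_simple_eq, rep_simple_eq]
  set a := pairing (cartanOf D l) i x
  set b := pairing (cartanOf D l) i y
  have e1 : x - a • sr i = x + (-a) • (sr i : Fin l → ℤ) := by rw [neg_smul, sub_eq_add_neg]
  have e2 : y - b • sr i = y + (-b) • (sr i : Fin l → ℤ) := by rw [neg_smul, sub_eq_add_neg]
  rw [e1, e2, hadd1, hadd2, hadd2, hsm1, hsm2, hsm1, hsm2, hii, hsymm x (sr i)]
  have h1 := hsr x
  have h2 := hsr y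
  have h3 : 2 * (sf S x y + -b * sf S (sr i) x + (-a * sf S (sr i) y + -a * (-b * S i i))) = 2 * sf S x y := by
    linear_combination (-b) * h1 - a * h2
  linarith

theorem sf_rep {S : Fin l → Fin l → ℤ} (hs : ∀ i j, S i j = S j i)
    (hS : ∀ i j, 2 * S i j = S i i * cartanOf D l i j) (w : M.Group) (x y : Fin l → ℤ) :
    sf S (rep M.toCoxeterSystem hp.isCartan w x) (rep M.toCoxeterSystem hp.isCartan w y) = sf S x y := by
  obtain ⟨ω, rfl⟩ := M.toCoxeterSystem.wordProd_surjective w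
  induction ω with
  | nil => rw [wordProd_nil, map_one, Module.End.one_apply, Module.End.one_apply]
  | cons i ω ih => rw [wordProd_cons, rep_mul_apply, rep_mul_apply, sf_simple hp hs hS, ih]

/-- The finite check for `Cent`: `B` the Gram matrix of the base, `c` a sequence of colourings of the nodes. -/
def chkC (D : ChevalleyDatum) (l ℓ : ℕ) (S P B : Fin l → Fin l → ℤ) (m : Fin l → ℤ) (N : ℕ)
    (c : Fin (N + 1) → Fin l → ℤ) : Prop :=
  (∀ i j, S i j = S j i) ∧ (∀ i j, 2 * S i j = S i i * cartanOf D l i j) ∧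
  (∀ i j, B i j = sf S (P i) (P j)) ∧
  (∀ i, c 0 i = m i % (ℓ : ℤ)) ∧
  (∀ n : Fin N, ∀ i, c n.succ i = (∑ j, B i j * (c n.castSucc j * c n.castSucc j)) % 1009) ∧
  (∀ i j, (∀ n, c n i = c n j) → i = j)

instance decChkC (D : ChevalleyDatum) (l ℓ : ℕ) (S P B : Fin l → Fin l → ℤ) (m : Fin l → ℤ) (N : ℕ)
    (c : Fin (N + 1) → Fin l → ℤ) : Decidable (chkC D l ℓ S P B m N c) := by
  unfold chkC; infer_instance

theorem Ell.rep_U {ℓ : ℕ} {f : Fin l → ℤ} {P U : Fin l → Fin l → ℤ} {m lam : Fin l → ℤ}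
    (E : Ell hp ℓ f P U m lam) {w : M.Group} (π : Equiv.Perm (Fin l))
    (hπ : ∀ i, rep M.toCoxeterSystem hp.isCartan w (P i) = P (π i)) (hℓ : ℓ ≠ 0) (i : Fin l) (x : Fin l → ℤ) :
    fn (U (π i)) (rep M.toCoxeterSystem hp.isCartan w x) = fn (U i) x := by
  have h1 := congrArg (rep M.toCoxeterSystem hp.isCartan w) (E.expand x)
  rw [map_smul, map_sum] at h1
  have h2 := congrArg (fn (U (π i))) h1
  rw [fn_smul, fn_sum, Finset.sum_eq_single i] at h2
  · rw [map_smul, hπ, fn_smul, E.dual, if_pos rfl, mul_comm] at h2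
    exact mul_right_cancel₀ (by exact_mod_cast hℓ) h2
  · intro j _ hj
    rw [map_smul, hπ, fn_smul, E.dual, if_neg (fun h => hj (π.injective h.symm)), mul_zero]
  · intro hi
    exact absurd (Finset.mem_univ i) hi

/-- the permutation induced on the base -/
theorem Ell.exists_perm {ℓ : ℕ} {f : Fin l → ℤ} {P U : Fin l → Fin l → ℤ} {m lam : Fin l → ℤ}
    (E : Ell hp ℓ f P U m lam) (hℓ : ℓ ≠ 0) {w : M.Group}
    (hw : ∀ i, ∃ j, rep M.toCoxeterSystem hp.isCartan w (P i) = P j) :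
    ∃ π : Equiv.Perm (Fin l), ∀ i, rep M.toCoxeterSystem hp.isCartan w (P i) = P (π i) := by
  choose g hg using hw
  have hinj : Function.Injective g := by
    intro i j hij
    have h1 : rep M.toCoxeterSystem hp.isCartan w (P i) = rep M.toCoxeterSystem hp.isCartan w (P j) := by
      rw [hg, hg, hij]
    have h2 := rep_injective_apply M.toCoxeterSystem hp.isCartan w h1
    by_contra hne
    have h3 := E.dual i j
    rw [if_neg hne, ← h2, E.dual, if_pos rfl] at h3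
    exact hℓ (by exact_mod_cast h3)
  exact ⟨Equiv.ofBijective g (Finite.injective_iff_bijective.1 hinj), hg⟩

theorem Cent.of_chk {ℓ : ℕ} {f : Fin l → ℤ} {P U : Fin l → Fin l → ℤ} {m lam : Fin l → ℤ}
    (E : Ell hp ℓ f P U m lam) (hℓ : ℓ ≠ 0) {S B : Fin l → Fin l → ℤ} {N : ℕ} {c : Fin (N + 1) → Fin l → ℤ}
    (h : chkC D l ℓ S P B m N c) : Cent hp ℓ f P := by
  obtain ⟨hs, hS, hB, h0, hsucc, hcol⟩ := h
  intro w hf hw
  obtain ⟨π, hπ⟩ := E.exists_perm hp hℓ hw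
  have hℓ' : (ℓ : ℤ) ≠ 0 := by exact_mod_cast hℓ
  have hm : ∀ i, m (π i) % (ℓ : ℤ) = m i % (ℓ : ℤ) := by
    intro i
    have h1 := E.cong (π i) (rep M.toCoxeterSystem hp.isCartan w lam)
    have h2 := E.cong i lam
    have h3 := hf lam
    rw [E.rep_U hp π hπ hℓ] at h1
    rw [E.lam] at h2 h3
    rw [mul_one] at h2
    refine (Int.emod_eq_emod_iff_emod_sub_eq_zero).2 (Int.emod_eq_zero_of_dvd ?_)
    have h4 : m (π i) - m i = (fn (U i) lam - m i) -
        (fn (U i) lam - m (π i) * fn f (rep M.toCoxeterSystem hp.isCartan w lam)) -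
        m (π i) * (fn f (rep M.toCoxeterSystem hp.isCartan w lam) - 1) := by ring
    rw [h4]
    exact dvd_sub (dvd_sub h2 h1) (Dvd.dvd.mul_left h3 _)
  have hc : ∀ n i, c n (π i) = c n i := by
    intro n
    induction n using Fin.induction with
    | zero =>
      intro i
      rw [h0, h0, hm]
    | succ n ih =>
      intro i
      rw [hsucc, hsucc]
      congr 1
      rw [← Equiv.sum_comp π]
      refine Finset.sum_congr rfl fun j _ => ?_
      rw [ih, hB, hB, ← hπ, ← hπ, sf_rep hp hs hS]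
  have hπ1 : ∀ i, π i = i := fun i => hcol _ _ fun n => hc n i
  apply rep_injective M.toCoxeterSystem hp.isCartan
  apply LinearMap.ext
  intro x
  rw [map_one, Module.End.one_apply]
  have h1 := congrArg (rep M.toCoxeterSystem hp.isCartan w) (E.expand x)
  rw [map_smul, map_sum] at h1
  have h2 : ∑ i, rep M.toCoxeterSystem hp.isCartan w (fn (U i) x • P i) = (ℓ : ℤ) • x := by
    rw [E.expand x]
    refine Finset.sum_congr rfl fun i _ => ?_
    rw [map_smul, hπ, hπ1]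
  rw [h2] at h1
  exact smul_right_injective _ hℓ' h1

end

end Cfsg.Agent.H196.SRX
end

-- part: H196/SRX/Data
section
/-!
# TEAM SR (S4971): the data of the isolated elements of order 3 and 4 (helper196)

`ell_G2_3`, `ell_F4_3` (`A2 × A2`), `ell_F4_4` (`A3 × A1`), `ell_E7_3` (`A2 × A5`), `ell_E7_4` (`A3 × A3 × A1`, not
connected), `ell_E8_3` (`A8`), `ell_E8_4` (`A7 × A1`), and `cent_..`.
-/

set_option autoImplicit false
set_option maxRecDepth 100000

namespace Cfsg.Agent.H196.SRX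

open Cfsg Cfsg.Lie Cfsg.Agent.Nodes.RGDChev Cfsg.Agent.ChevalleyStructure.CoxeterGeomTypes

theorem isType_F4 : IsType chevF4 4 CoxeterMatrix.F₄ := by simp [IsType, typeList]

theorem isType_E7 : IsType chevE7 7 CoxeterMatrix.E₇ := by simp [IsType, typeList]

theorem isType_E8 : IsType chevE8 8 CoxeterMatrix.E₈ := by simp [IsType, typeList]

/-- the functional of the isolated element of order 3 of F4 -/
def f_F4_3 : Fin 4 → ℤ := ![0, 0, 1, 0]

/-- the base -/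
def P_F4_3 : Fin 4 → Fin 4 → ℤ :=
  ![![1, 0, 0, 0], ![0, 1, 0, 0], ![2, 4, 3, 1], ![0, 0, 0, 1]]

/-- the dual matrix -/
def U_F4_3 : Fin 4 → Fin 4 → ℤ :=
  ![![3, 0, -2, 0], ![0, 3, -4, 0], ![0, 0, 1, 0], ![0, 0, -1, 3]]

/-- the coefficients -/
def m_F4_3 : Fin 4 → ℤ := ![1, 2, 1, 2]

theorem ell_F4_3 : Ell isType_F4 3 f_F4_3 P_F4_3 U_F4_3 m_F4_3 f_F4_3 :=
  Ell.of_chk (ri := ![33, 27, 46, 24]) isType_F4 (by decide +kernel)

theorem cent_F4_3 : Cent isType_F4 3 f_F4_3 P_F4_3 :=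
  Cent.of_chk isType_F4 ell_F4_3 (by norm_num) (N := 1)
    (S := ![![2, -1, 0, 0], ![-1, 2, -2, 0], ![0, -2, 4, -2], ![0, 0, -2, 4]])
    (B := ![![2, -1, 0, 0], ![-1, 2, 0, 0], ![0, 0, 4, -2], ![0, 0, -2, 4]])
    (c := ![![1, 2, 1, 2], ![1007, 7, 1005, 14]]) (by decide +kernel)

/-- the functional of the isolated element of order 4 of F4 -/
def f_F4_4 : Fin 4 → ℤ := ![0, 1, 0, 0]

/-- the base -/
def P_F4_4 : Fin 4 → Fin 4 → ℤ :=
  ![![1, 0, 0, 0], ![2, 4, 2, 1], ![0, 0, 1, 0], ![0, 0, 0, 1]]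

/-- the dual matrix -/
def U_F4_4 : Fin 4 → Fin 4 → ℤ :=
  ![![4, -2, 0, 0], ![0, 1, 0, 0], ![0, -2, 4, 0], ![0, -1, 0, 4]]

/-- the coefficients -/
def m_F4_4 : Fin 4 → ℤ := ![2, 1, 2, 3]

theorem ell_F4_4 : Ell isType_F4 4 f_F4_4 P_F4_4 U_F4_4 m_F4_4 f_F4_4 :=
  Ell.of_chk (ri := ![33, 45, 25, 24]) isType_F4 (by decide +kernel)

theorem cent_F4_4 : Cent isType_F4 4 f_F4_4 P_F4_4 :=
  Cent.of_chk isType_F4 ell_F4_4 (by norm_num) (N := 1)
    (S := ![![2, -1, 0, 0], ![-1, 2, -2, 0], ![0, -2, 4, -2], ![0, 0, -2, 4]])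
    (B := ![![2, 0, 0, 0], ![0, 4, -2, 0], ![0, -2, 4, -2], ![0, 0, -2, 4]])
    (c := ![![2, 1, 2, 3], ![8, 1005, 1005, 28]]) (by decide +kernel)

/-- the functional of the isolated element of order 3 of E7 -/
def f_E7_3 : Fin 7 → ℤ := ![0, 0, 1, 0, 0, 0, 0]

/-- the base -/
def P_E7_3 : Fin 7 → Fin 7 → ℤ :=
  ![![1, 0, 0, 0, 0, 0, 0], ![0, 1, 0, 0, 0, 0, 0], ![1, 2, 3, 4, 3, 2, 1], ![0, 0, 0, 1, 0, 0, 0], ![0, 0, 0, 0,
      1, 0, 0], ![0, 0, 0, 0, 0, 1, 0], ![0, 0, 0, 0, 0, 0, 1]]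

/-- the dual matrix -/
def U_E7_3 : Fin 7 → Fin 7 → ℤ :=
  ![![3, 0, -1, 0, 0, 0, 0], ![0, 3, -2, 0, 0, 0, 0], ![0, 0, 1, 0, 0, 0, 0], ![0, 0, -4, 3, 0, 0, 0], ![0, 0, -3,
      0, 3, 0, 0], ![0, 0, -2, 0, 0, 3, 0], ![0, 0, -1, 0, 0, 0, 3]]

/-- the coefficients -/
def m_E7_3 : Fin 7 → ℤ := ![2, 1, 1, 2, 0, 1, 2]

private noncomputable def _root_.Cfsg.Agent.LsF.ff7d1e6_0 : {f // @Cfsg.Agent.ChevalleyStructure.RootVecTab.dig = f} := ⟨_, by first | (delta Cfsg.Agent.ChevalleyStructure.RootVecTab.dig; rewrite [Cfsg.Agent.LsF.nmul_pat]; exact rfl) | exact rfl⟩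
private noncomputable def _root_.Cfsg.Agent.LsF.ff7d1e6_1 : {f // @Cfsg.Agent.ChevalleyStructure.RootVecTab.packTab = f} := ⟨_, by first | (delta Cfsg.Agent.ChevalleyStructure.RootVecTab.packTab; rewrite [Cfsg.Agent.LsF.instDecEq_eq, Cfsg.Agent.LsF.ite_eq]; exact rfl) | exact rfl⟩
private noncomputable def _root_.Cfsg.Agent.LsF.ff7d1e6_2 : {f // @Cfsg.Agent.ChevalleyStructure.RootVecTab.code = f} := ⟨_, by first | (delta Cfsg.Agent.ChevalleyStructure.RootVecTab.code; rewrite [Cfsg.Agent.LsF.ff7d1e6_1.2, Cfsg.Agent.LsF.nmul_pat, Cfsg.Agent.LsF.npow_pat]; exact rfl) | exact rfl⟩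
private noncomputable def _root_.Cfsg.Agent.LsF.ff7d1e6_3 : {f // @Cfsg.Agent.ChevalleyStructure.RootVec.rt = f} := ⟨_, by first | (delta Cfsg.Agent.ChevalleyStructure.RootVec.rt; rewrite [Cfsg.Agent.LsF.ff7d1e6_0.2, Cfsg.Agent.LsF.ff7d1e6_2.2, Cfsg.Agent.LsF.nsub_pat, Cfsg.Agent.LsF.isub_pat, Cfsg.Agent.LsF.icast_pat, Cfsg.Agent.LsF.decLt_eq, Cfsg.Agent.LsF.dAnd_eq, Cfsg.Agent.LsF.ite_eq]; exact rfl) | exact rfl⟩
private noncomputable def _root_.Cfsg.Agent.LsF.ff7d1e6_4 : {f // @Cfsg.Agent.Nodes.RGDChev.vec = f} := ⟨_, by first | (delta Cfsg.Agent.Nodes.RGDChev.vec; rewrite [Cfsg.Agent.LsF.ff7d1e6_3.2]; exact rfl) | exact rfl⟩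
private noncomputable def _root_.Cfsg.Agent.LsF.ff7d1e6_5 : {f // @Cfsg.Agent.H196.SRX.P_E7_3 = f} := ⟨_, by first | (delta Cfsg.Agent.H196.SRX.P_E7_3; rewrite [Cfsg.Agent.LsF.vecCons_eq]; exact rfl) | exact rfl⟩
private noncomputable def _root_.Cfsg.Agent.LsF.ff7d1e6_6 : {f // @Cfsg.Agent.H196.SRX.fn = f} := ⟨_, by first | (delta Cfsg.Agent.H196.SRX.fn; rewrite [Cfsg.Agent.LsF.imul_pat, Cfsg.Agent.LsF.finFintype_eq, Cfsg.Agent.LsF.fsum_eq, Cfsg.Agent.LsF.iACM_eq]; exact rfl) | exact rfl⟩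
private noncomputable def _root_.Cfsg.Agent.LsF.ff7d1e6_7 : {f // @Cfsg.Agent.H196.SRX.f_E7_3 = f} := ⟨_, by first | (delta Cfsg.Agent.H196.SRX.f_E7_3; rewrite [Cfsg.Agent.LsF.vecCons_eq]; exact rfl) | exact rfl⟩
private noncomputable def _root_.Cfsg.Agent.LsF.ff7d1e6_8 : {f // @Cfsg.Agent.H196.SRX.U_E7_3 = f} := ⟨_, by first | (delta Cfsg.Agent.H196.SRX.U_E7_3; rewrite [Cfsg.Agent.LsF.ineg_pat, Cfsg.Agent.LsF.vecCons_eq]; exact rfl) | exact rfl⟩
private noncomputable def _root_.Cfsg.Agent.LsF.ff7d1e6_9 : {f // @Cfsg.Agent.H196.SRX.m_E7_3 = f} := ⟨_, by first | (delta Cfsg.Agent.H196.SRX.m_E7_3; rewrite [Cfsg.Agent.LsF.vecCons_eq]; exact rfl) | exact rfl⟩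
theorem ell_E7_3 : Ell isType_E7 3 f_E7_3 P_E7_3 U_E7_3 m_E7_3 f_E7_3 :=
  Ell.of_chk (ri := ![93, 78, 124, 69, 66, 64, 63]) isType_E7 (by (refine of_decide_eq_true ?_; (try (delta Cfsg.Agent.H196.SRX.chk Cfsg.Agent.H196.SRX.decChk; rewrite [Cfsg.Agent.LsF.sumF_pat, Cfsg.Agent.LsF.ff7d1e6_4.2, Cfsg.Agent.LsF.ff7d1e6_5.2, Cfsg.Agent.LsF.ff7d1e6_6.2, Cfsg.Agent.LsF.ff7d1e6_7.2, Cfsg.Agent.LsF.ff7d1e6_8.2, Cfsg.Agent.LsF.ff7d1e6_9.2, Cfsg.Agent.LsF.iadd_pat, Cfsg.Agent.LsF.imul_pat, Cfsg.Agent.LsF.isub_pat, Cfsg.Agent.LsF.icast_pat, Cfsg.Agent.LsF.vecCons_eq, Cfsg.Agent.LsF.iACM_eq, Cfsg.Agent.LsF.decLt_eq, Cfsg.Agent.LsF.instIDecEq_eq, Cfsg.Agent.LsF.idecLe_eq, Cfsg.Agent.LsF.dAnd_eq, Cfsg.Agent.LsF.dFinEq_eq, Cfsg.Agent.LsF.dForallFin_eq, Cfsg.Agent.LsF.dAllP_eq, Cfsg.Agent.LsF.idDvd_eq, Cfsg.Agent.LsF.ite_eq, Cfsg.Agent.LsF.decide_eq])); decide +kernel))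

theorem cent_E7_3 : Cent isType_E7 3 f_E7_3 P_E7_3 :=
  Cent.of_chk isType_E7 ell_E7_3 (by norm_num) (N := 3)
    (S := ![![2, 0, -1, 0, 0, 0, 0], ![0, 2, 0, -1, 0, 0, 0], ![-1, 0, 2, -1, 0, 0, 0], ![0, -1, -1, 2, -1, 0, 0],
      ![0, 0, 0, -1, 2, -1, 0], ![0, 0, 0, 0, -1, 2, -1], ![0, 0, 0, 0, 0, -1, 2]])
    (B := ![![2, 0, -1, 0, 0, 0, 0], ![0, 2, 0, -1, 0, 0, 0], ![-1, 0, 2, 0, 0, 0, 0], ![0, -1, 0, 2, -1, 0, 0],
      ![0, 0, 0, -1, 2, -1, 0], ![0, 0, 0, 0, -1, 2, -1], ![0, 0, 0, 0, 0, -1, 2]])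
    (c := ![![2, 1, 1, 2, 0, 1, 2], ![7, 1007, 1007, 7, 1004, 1007, 7], ![94, 968, 968, 69, 1006, 943, 94], ![856,
      619, 580, 769, 991, 876, 199]]) (by decide +kernel)

/-- the functional of the isolated element of order 3 of E8 -/
def f_E8_3 : Fin 8 → ℤ := ![0, 1, 0, 0, 0, 0, 0, 0]

/-- the base -/
def P_E8_3 : Fin 8 → Fin 8 → ℤ :=
  ![![1, 0, 0, 0, 0, 0, 0, 0], ![1, 3, 3, 5, 4, 3, 2, 1], ![0, 0, 1, 0, 0, 0, 0, 0], ![0, 0, 0, 1, 0, 0, 0, 0],
      ![0, 0, 0, 0, 1, 0, 0, 0], ![0, 0, 0, 0, 0, 1, 0, 0], ![0, 0, 0, 0, 0, 0, 1, 0], ![0, 0, 0, 0, 0, 0, 0, 1]]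

/-- the dual matrix -/
def U_E8_3 : Fin 8 → Fin 8 → ℤ :=
  ![![3, -1, 0, 0, 0, 0, 0, 0], ![0, 1, 0, 0, 0, 0, 0, 0], ![0, -3, 3, 0, 0, 0, 0, 0], ![0, -5, 0, 3, 0, 0, 0, 0],
      ![0, -4, 0, 0, 3, 0, 0, 0], ![0, -3, 0, 0, 0, 3, 0, 0], ![0, -2, 0, 0, 0, 0, 3, 0], ![0, -1, 0, 0, 0, 0, 0, 3]]

/-- the coefficients -/
def m_E8_3 : Fin 8 → ℤ := ![2, 1, 0, 1, 2, 0, 1, 2]

private noncomputable def _root_.Cfsg.Agent.LsF.ff7d1e6_10 : {f // @Cfsg.Agent.H196.SRX.P_E8_3 = f} := ⟨_, by first | (delta Cfsg.Agent.H196.SRX.P_E8_3; rewrite [Cfsg.Agent.LsF.vecCons_eq]; exact rfl) | exact rfl⟩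
private noncomputable def _root_.Cfsg.Agent.LsF.ff7d1e6_11 : {f // @Cfsg.Agent.H196.SRX.f_E8_3 = f} := ⟨_, by first | (delta Cfsg.Agent.H196.SRX.f_E8_3; rewrite [Cfsg.Agent.LsF.vecCons_eq]; exact rfl) | exact rfl⟩
private noncomputable def _root_.Cfsg.Agent.LsF.ff7d1e6_12 : {f // @Cfsg.Agent.H196.SRX.U_E8_3 = f} := ⟨_, by first | (delta Cfsg.Agent.H196.SRX.U_E8_3; rewrite [Cfsg.Agent.LsF.ineg_pat, Cfsg.Agent.LsF.vecCons_eq]; exact rfl) | exact rfl⟩
private noncomputable def _root_.Cfsg.Agent.LsF.ff7d1e6_13 : {f // @Cfsg.Agent.H196.SRX.m_E8_3 = f} := ⟨_, by first | (delta Cfsg.Agent.H196.SRX.m_E8_3; rewrite [Cfsg.Agent.LsF.vecCons_eq]; exact rfl) | exact rfl⟩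
theorem ell_E8_3 : Ell isType_E8 3 f_E8_3 P_E8_3 U_E8_3 m_E8_3 f_E8_3 :=
  Ell.of_chk (ri := ![162, 225, 135, 130, 126, 123, 121, 120]) isType_E8 (by (refine of_decide_eq_true ?_; (try (delta Cfsg.Agent.H196.SRX.chk Cfsg.Agent.H196.SRX.decChk; rewrite [Cfsg.Agent.LsF.sumF_pat, Cfsg.Agent.LsF.ff7d1e6_4.2, Cfsg.Agent.LsF.ff7d1e6_10.2, Cfsg.Agent.LsF.ff7d1e6_6.2, Cfsg.Agent.LsF.ff7d1e6_11.2, Cfsg.Agent.LsF.ff7d1e6_12.2, Cfsg.Agent.LsF.ff7d1e6_13.2, Cfsg.Agent.LsF.iadd_pat, Cfsg.Agent.LsF.imul_pat, Cfsg.Agent.LsF.isub_pat, Cfsg.Agent.LsF.icast_pat, Cfsg.Agent.LsF.vecCons_eq, Cfsg.Agent.LsF.iACM_eq, Cfsg.Agent.LsF.decLt_eq, Cfsg.Agent.LsF.instIDecEq_eq, Cfsg.Agent.LsF.idecLe_eq, Cfsg.Agent.LsF.dAnd_eq, Cfsg.Agent.LsF.dFinEq_eq, Cfsg.Agent.LsF.dForallFin_eq, Cfsg.Agent.LsF.dAllP_eq, Cfsg.Agent.LsF.idDvd_eq, Cfsg.Agent.LsF.ite_eq, Cfsg.Agent.LsF.decide_eq])); decide +kernel))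

theorem cent_E8_3 : Cent isType_E8 3 f_E8_3 P_E8_3 :=
  Cent.of_chk isType_E8 ell_E8_3 (by norm_num) (N := 4)
    (S := ![![2, 0, -1, 0, 0, 0, 0, 0], ![0, 2, 0, -1, 0, 0, 0, 0], ![-1, 0, 2, -1, 0, 0, 0, 0], ![0, -1, -1, 2,
      -1, 0, 0, 0], ![0, 0, 0, -1, 2, -1, 0, 0], ![0, 0, 0, 0, -1, 2, -1, 0], ![0, 0, 0, 0, 0, -1, 2, -1], ![0, 0,
      0, 0, 0, 0, -1, 2]])
    (B := ![![2, -1, -1, 0, 0, 0, 0, 0], ![-1, 2, 0, 0, 0, 0, 0, 0], ![-1, 0, 2, -1, 0, 0, 0, 0], ![0, 0, -1, 2,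
      -1, 0, 0, 0], ![0, 0, 0, -1, 2, -1, 0, 0], ![0, 0, 0, 0, -1, 2, -1, 0], ![0, 0, 0, 0, 0, -1, 2, -1], ![0, 0,
      0, 0, 0, 0, -1, 2]])
    (c := ![![2, 1, 0, 1, 2, 0, 1, 2], ![7, 1007, 1004, 1007, 7, 1004, 1007, 7], ![69, 968, 1006, 943, 69, 1006,
      943, 94], ![769, 619, 991, 915, 112, 991, 876, 199], ![109, 404, 806, 768, 793, 685, 498,
      973]]) (by decide +kernel)

/-- the functional of the isolated element of order 4 of E8 -/
def f_E8_4 : Fin 8 → ℤ := ![0, 0, 1, 0, 0, 0, 0, 0]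

/-- the base -/
def P_E8_4 : Fin 8 → Fin 8 → ℤ :=
  ![![1, 0, 0, 0, 0, 0, 0, 0], ![0, 1, 0, 0, 0, 0, 0, 0], ![2, 2, 4, 5, 4, 3, 2, 1], ![0, 0, 0, 1, 0, 0, 0, 0],
      ![0, 0, 0, 0, 1, 0, 0, 0], ![0, 0, 0, 0, 0, 1, 0, 0], ![0, 0, 0, 0, 0, 0, 1, 0], ![0, 0, 0, 0, 0, 0, 0, 1]]

/-- the dual matrix -/
def U_E8_4 : Fin 8 → Fin 8 → ℤ :=
  ![![4, 0, -2, 0, 0, 0, 0, 0], ![0, 4, -2, 0, 0, 0, 0, 0], ![0, 0, 1, 0, 0, 0, 0, 0], ![0, 0, -5, 4, 0, 0, 0, 0],
      ![0, 0, -4, 0, 4, 0, 0, 0], ![0, 0, -3, 0, 0, 4, 0, 0], ![0, 0, -2, 0, 0, 0, 4, 0], ![0, 0, -1, 0, 0, 0, 0, 4]]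

/-- the coefficients -/
def m_E8_4 : Fin 8 → ℤ := ![2, 2, 1, 3, 0, 1, 2, 3]

private noncomputable def _root_.Cfsg.Agent.LsF.ff7d1e6_14 : {f // @Cfsg.Agent.H196.SRX.P_E8_4 = f} := ⟨_, by first | (delta Cfsg.Agent.H196.SRX.P_E8_4; rewrite [Cfsg.Agent.LsF.vecCons_eq]; exact rfl) | exact rfl⟩
private noncomputable def _root_.Cfsg.Agent.LsF.ff7d1e6_15 : {f // @Cfsg.Agent.H196.SRX.f_E8_4 = f} := ⟨_, by first | (delta Cfsg.Agent.H196.SRX.f_E8_4; rewrite [Cfsg.Agent.LsF.vecCons_eq]; exact rfl) | exact rfl⟩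
private noncomputable def _root_.Cfsg.Agent.LsF.ff7d1e6_16 : {f // @Cfsg.Agent.H196.SRX.U_E8_4 = f} := ⟨_, by first | (delta Cfsg.Agent.H196.SRX.U_E8_4; rewrite [Cfsg.Agent.LsF.ineg_pat, Cfsg.Agent.LsF.vecCons_eq]; exact rfl) | exact rfl⟩
private noncomputable def _root_.Cfsg.Agent.LsF.ff7d1e6_17 : {f // @Cfsg.Agent.H196.SRX.m_E8_4 = f} := ⟨_, by first | (delta Cfsg.Agent.H196.SRX.m_E8_4; rewrite [Cfsg.Agent.LsF.vecCons_eq]; exact rfl) | exact rfl⟩
theorem ell_E8_4 : Ell isType_E8 4 f_E8_4 P_E8_4 U_E8_4 m_E8_4 f_E8_4 :=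
  Ell.of_chk (ri := ![162, 141, 232, 130, 126, 123, 121, 120]) isType_E8 (by (refine of_decide_eq_true ?_; (try (delta Cfsg.Agent.H196.SRX.chk Cfsg.Agent.H196.SRX.decChk; rewrite [Cfsg.Agent.LsF.sumF_pat, Cfsg.Agent.LsF.ff7d1e6_4.2, Cfsg.Agent.LsF.ff7d1e6_14.2, Cfsg.Agent.LsF.ff7d1e6_6.2, Cfsg.Agent.LsF.ff7d1e6_15.2, Cfsg.Agent.LsF.ff7d1e6_16.2, Cfsg.Agent.LsF.ff7d1e6_17.2, Cfsg.Agent.LsF.iadd_pat, Cfsg.Agent.LsF.imul_pat, Cfsg.Agent.LsF.isub_pat, Cfsg.Agent.LsF.icast_pat, Cfsg.Agent.LsF.vecCons_eq, Cfsg.Agent.LsF.iACM_eq, Cfsg.Agent.LsF.decLt_eq, Cfsg.Agent.LsF.instIDecEq_eq, Cfsg.Agent.LsF.idecLe_eq, Cfsg.Agent.LsF.dAnd_eq, Cfsg.Agent.LsF.dFinEq_eq, Cfsg.Agent.LsF.dForallFin_eq, Cfsg.Agent.LsF.dAllP_eq, Cfsg.Agent.LsF.idDvd_eq, Cfsg.Agent.LsF.ite_eq, Cfsg.Agent.LsF.decide_eq])); decide +kernel))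

theorem cent_E8_4 : Cent isType_E8 4 f_E8_4 P_E8_4 :=
  Cent.of_chk isType_E8 ell_E8_4 (by norm_num) (N := 3)
    (S := ![![2, 0, -1, 0, 0, 0, 0, 0], ![0, 2, 0, -1, 0, 0, 0, 0], ![-1, 0, 2, -1, 0, 0, 0, 0], ![0, -1, -1, 2,
      -1, 0, 0, 0], ![0, 0, 0, -1, 2, -1, 0, 0], ![0, 0, 0, 0, -1, 2, -1, 0], ![0, 0, 0, 0, 0, -1, 2, -1], ![0, 0,
      0, 0, 0, 0, -1, 2]])
    (B := ![![2, 0, 0, 0, 0, 0, 0, 0], ![0, 2, -1, -1, 0, 0, 0, 0], ![0, -1, 2, 0, 0, 0, 0, 0], ![0, -1, 0, 2, -1,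
      0, 0, 0], ![0, 0, 0, -1, 2, -1, 0, 0], ![0, 0, 0, 0, -1, 2, -1, 0], ![0, 0, 0, 0, 0, -1, 2, -1], ![0, 0, 0,
      0, 0, 0, -1, 2]])
    (c := ![![2, 2, 1, 3, 0, 1, 2, 3], ![8, 1007, 1007, 14, 999, 1007, 1007, 14], ![128, 817, 4, 288, 0, 913, 817,
      388], ![480, 858, 501, 881, 668, 739, 742, 875]]) (by decide +kernel)

end Cfsg.Agent.H196.SRX
end

-- part: H374/SR/Rel
section
/-!
# Coordinates of the unipotent group of a closed subsystem with respect to its simple roots (helper374, S4971)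

`P` an integrally closed set of positive roots, `f` a functional with `c ≤ f a` on `P`; the roots with `f a = c` are
"simple". `Coo β u y` : the `β`-coordinate of `u ∈ Sup X P` is `y ∈ X β` (`β` simple).
-/

set_option autoImplicit false
set_option linter.unusedSectionVars false

namespace Cfsg.Agent.H374.SR

open CoxeterSystem Cfsg.Agent.ChevalleyStructure.CoxeterGeom Cfsg.Agent.Tits.Roots Cfsg.Agent.Tits.Core
  Cfsg.Agent.Tits.Exchange Cfsg.Agent.Nodes.Reps Cfsg.Agent.Nodes.BNOf Cfsg.Agent.Nodes.StabComb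
  Cfsg.Agent.Nodes.Comb Cfsg.Agent.Nodes.Bruhat Cfsg.Agent.Nodes.OppDec Cfsg.Agent.Nodes.Slope
  Cfsg.Agent.Nodes.NormalForm Cfsg.Agent.Nodes.SubComb Cfsg.Agent.Nodes.Coroot
  Cfsg.Agent.ChevalleyStructure.AbstractBN Cfsg.Agent.BpExc.Zc
open scoped commutatorElement

variable {I W Y : Type*} [Fintype I] [DecidableEq I] [Group W] [Group Y] {M : CoxeterMatrix I}
  {cs : CoxeterSystem M W} {A : I → I → ℤ} {h : IsCartan M A} {p : ℕ} {T : Subgroup Y} {n : I → Y}
  {X : (I → ℤ) → Subgroup Y}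

theorem pos_of_ht {b : I → ℤ} (hb : IsRoot cs h b) (h0 : 0 < htHom b) : 0 ≤ b := by
  rcases hb.pos_or_neg with h3 | h3
  · exact h3
  · exfalso
    have h4 := RGD.ht_pos hb.neg (neg_nonneg.2 h3)
    have h5 : ht (-b) = - ht b := by unfold ht; simp only [_root_.Pi.neg_apply, _root_.Finset.sum_neg_distrib]
    have h6 : (htHom b : ℤ) = ht b := rfl
    omega

theorem neg_of_ht {b : I → ℤ} (hb : IsRoot cs h b) (h0 : htHom b ≤ 0) : b ≤ 0 := by
  rcases hb.pos_or_neg with h3 | h3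
  · exfalso
    have h4 := RGD.ht_pos hb h3
    have h6 : (htHom b : ℤ) = ht b := rfl
    omega
  · exact h3

/-- `X a` meets the group of an integrally closed set of positive roots not containing `a` trivially (proof of helper85). -/
theorem X_inf_Sup [Finite W] (R : RGD cs h p T n X) (hZ : CommZ cs h X) {S' : Set (I → ℤ)} (hS' : ZClosed cs h S')
    (hP : S' ⊆ RGD.Pos cs h) {a : I → ℤ} (ha : IsRoot cs h a) (haS : a ∉ S') {x : Y} (hx : x ∈ X a)
    (hx' : x ∈ RGD.Sup X S') : x = 1 := by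
  obtain ⟨v, i, rfl⟩ := id ha
  obtain ⟨k, hk⟩ := exists_rp cs R.nsys v⁻¹
  set S2 : Set (I → ℤ) := {b | rep cs h v b ∈ S'} with hS2
  have hS2Z : ZClosed cs h S2 := by
    refine ⟨fun b hb => ?_, ?_⟩
    · have := (hS'.root _ hb).act v⁻¹
      rwa [rep_inv_apply] at this
    · rintro b hb c hc z ⟨hz, m, l, hm, hl, e⟩
      exact hS'.btw _ hb _ hc _ ⟨hz.act v, m, l, hm, hl, by rw [e, map_add, map_smul, map_smul]⟩
  have h1 : k * x * k⁻¹ ∈ X (sr i) := by
    have := R.conj_mem hk ha hx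
    rwa [rep_inv_apply] at this
  have h2 : k * x * k⁻¹ ∈ RGD.Sup X S2 :=
    conj_mem_Sup R hk (S := S') (S' := S2) hS'.root (fun b hb => by
      show rep cs h v (rep cs h v⁻¹ b) ∈ S'
      rw [rep_apply_inv]; exact hb) hx'
  obtain ⟨a', ha', c', hc', e⟩ := splitZ R hZ hS2Z (htHom.comp (rep cs h v).toAddMonoidHom) htHom
    (fun b hb => RGD.ht_pos (hS'.root _ hb) (hP hb).2) h2
  have haU : a' ∈ RGD.Sup X (RGD.Pos cs h) :=
    RGD.Sup_mono (S := {x | x ∈ S2 ∧ 0 < htHom x}) (S' := RGD.Pos cs h) (fun b hb => ⟨hS2Z.root b hb.1, pos_of_ht (hS2Z.root b hb.1) hb.2⟩) ha'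
  have hxU : k * x * k⁻¹ ∈ RGD.Sup X (RGD.Pos cs h) := RGD.le_Sup (S := RGD.Pos cs h) (z := sr i)
    ⟨isRoot_sr cs h i, sr_nonneg i⟩ h1
  have hc1 : c' = 1 := by
    refine eq_one_of_mem_UN_of_mem_B R (RGD.Sup_mono (S := {x | x ∈ S2 ∧ htHom x ≤ 0}) (S' := _root_.Cfsg.Agent.Nodes.OppDec.Neg cs h)
      (fun b hb => ⟨hS2Z.root b hb.1, neg_of_ht (hS2Z.root b hb.1) hb.2⟩) hc') ?_
    have : c' = a'⁻¹ * (k * x * k⁻¹) := by rw [e]; group
    rw [this]
    exact mul_mem (inv_mem (RGD.U_le_B haU)) (RGD.U_le_B hxU)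
  rw [hc1, mul_one] at e
  -- conjugation by `n i`
  obtain ⟨k', hk'⟩ := exists_rp cs R.nsys (cs.simple i)
  have h3 : k' * (k * x * k⁻¹) * k'⁻¹ ∈ X (-sr i) := by
    have := R.conj_mem hk' (isRoot_sr cs h i) h1
    rwa [rep_simple_sr] at this
  have h4 : k' * (k * x * k⁻¹) * k'⁻¹ ∈ RGD.Sup X (RGD.Pos cs h) := by
    rw [e]
    refine conj_mem_Sup R hk' (S := {x | x ∈ S2 ∧ 0 < htHom x}) (fun b hb => hS2Z.root b hb.1) (fun b hb => ?_) ha'
    have hb1 := hS2Z.root b hb.1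
    have h5 : b ∈ Cfsg.Agent.Nodes.Unique.Fut cs h (1 * cs.simple i) := by
      rw [Cfsg.Agent.Nodes.Unique.fut_mul (w := 1) (by rw [map_one, Module.End.one_apply]; exact sr_nonneg i), Cfsg.Agent.Nodes.Unique.fut_one]
      refine ⟨⟨hb1, pos_of_ht hb1 hb.2⟩, ?_⟩
      rw [map_one, Module.End.one_apply]
      rintro rfl
      exact haS hb.1
    rw [one_mul] at h5
    have h6 := h5.2.2
    rw [cs.inv_simple] at h6
    exact ⟨hb1.act _, h6⟩
  have h5 := eq_one_of_mem_UN_of_mem_B R (RGD.le_Sup (S := _root_.Cfsg.Agent.Nodes.OppDec.Neg cs h) (z := -sr i)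
    ⟨(isRoot_sr cs h i).neg, neg_nonpos.2 (sr_nonneg i)⟩ h3) (RGD.U_le_B h4)
  rw [conj_eq_one_iff, conj_eq_one_iff] at h5
  exact h5

/-! ### simple roots of a closed set of positive roots -/

/-- `P` closed, positive, `c ≤ f` on `P`. -/
structure Bas (cs : CoxeterSystem M W) (h : IsCartan M A) (P : Set (I → ℤ)) (f : (I → ℤ) →+ ℤ) (c : ℤ) : Prop where
  zc : ZClosed cs h P
  pos : P ⊆ RGD.Pos cs h
  c0 : 0 < c
  le : ∀ a ∈ P, c ≤ f a

/-- the non-simple roots -/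
def Com (P : Set (I → ℤ)) (f : (I → ℤ) →+ ℤ) (c : ℤ) : Set (I → ℤ) := {a | a ∈ P ∧ c < f a}

/-- the `β`-coordinate of `u` is `y` -/
def Coo (X : (I → ℤ) → Subgroup Y) (P : Set (I → ℤ)) (β : I → ℤ) (u y : Y) : Prop :=
  y ∈ X β ∧ y⁻¹ * u ∈ RGD.Sup X (P \ {β})

section

variable {P : Set (I → ℤ)} {f : (I → ℤ) →+ ℤ} {c : ℤ} (B : Bas cs h P f c)

include B

theorem Bas.zb_lt {x y z : I → ℤ} (hx : x ∈ P) (hy : y ∈ P) (hz : ZB cs h x y z) : c < f z := by
  obtain ⟨a, b, ha, hb, e⟩ := hz.map f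
  have h1 := B.le x hx
  have h2 := B.le y hy
  have h3 := B.c0
  have h4 : c ≤ a * f x := by nlinarith only [ha, h1, h3]
  have h5 : c ≤ b * f y := by nlinarith only [hb, h2, h3]
  rw [e]
  linarith

theorem Bas.ne_neg {x y : I → ℤ} (hx : x ∈ P) (hy : y ∈ P) : x ≠ -y := by
  rintro rfl
  have h1 := B.le _ hx
  have h2 := B.le _ hy
  have h3 := B.c0
  rw [map_neg] at h1
  linarith

theorem Bas.diff {β : I → ℤ} (hβ : f β = c) : ZClosed cs h (P \ {β}) where
  root x hx := B.zc.root x hx.1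
  btw x hx y hy z hz := by
    refine ⟨B.zc.btw x hx.1 y hy.1 z hz, ?_⟩
    rintro rfl
    have := B.zb_lt hx.1 hy.1 hz
    omega

theorem Bas.com_sub {β : I → ℤ} (hβ : f β = c) : Com P f c ⊆ P \ {β} := by
  rintro a ⟨ha, h1⟩
  refine ⟨ha, ?_⟩
  rintro rfl
  omega

variable (R : RGD cs h p T n X) (hZ : CommZ cs h X)

include R hZ

theorem Bas.norm {β a : I → ℤ} (hβ : f β = c) (ha : a ∈ P) :
    X a ≤ Subgroup.normalizer (RGD.Sup X (P \ {β}) : Set Y) :=
  le_normalizerZ R hZ (B.zc.root a ha) fun y hy => ⟨B.zc.root y hy.1, Or.inr ⟨B.ne_neg ha hy.1, fun z hz => by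
    refine ⟨B.zc.btw a ha y hy.1 z hz, ?_⟩
    rintro rfl
    have := B.zb_lt ha hy.1 hz
    omega⟩⟩

theorem Bas.norm_com {a : I → ℤ} (ha : a ∈ P) :
    X a ≤ Subgroup.normalizer (RGD.Sup X (Com P f c) : Set Y) :=
  le_normalizerZ R hZ (B.zc.root a ha) fun y hy => ⟨B.zc.root y hy.1, Or.inr ⟨B.ne_neg ha hy.1, fun z hz =>
    ⟨B.zc.btw a ha y hy.1 z hz, B.zb_lt ha hy.1 hz⟩⟩⟩

theorem Bas.normU {β : I → ℤ} (hβ : f β = c) :
    RGD.Sup X P ≤ Subgroup.normalizer (RGD.Sup X (P \ {β}) : Set Y) :=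
  RGD.Sup_le fun _ ha => B.norm R hZ hβ ha

theorem Bas.conj_mem {β : I → ℤ} (hβ : f β = c) {u m : Y} (hu : u ∈ RGD.Sup X P) (hm : m ∈ RGD.Sup X (P \ {β})) :
    u * m * u⁻¹ ∈ RGD.Sup X (P \ {β}) :=
  (Subgroup.mem_normalizer_iff.1 (B.normU R hZ hβ hu) m).1 hm

omit B R hZ in
theorem Coo.mem {β : I → ℤ} (hβ : β ∈ P) {u y : Y} (h1 : Coo X P β u y) : u ∈ RGD.Sup X P := by
  have e : u = y * (y⁻¹ * u) := by group
  rw [e]
  exact mul_mem (RGD.le_Sup hβ h1.1) (RGD.Sup_mono Set.sdiff_subset h1.2)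

theorem Bas.coo_mul {β : I → ℤ} (hβP : β ∈ P) (hβ : f β = c) {u y u' y' : Y} (h1 : Coo X P β u y)
    (h2 : Coo X P β u' y') : Coo X P β (u * u') (y * y') := by
  refine ⟨mul_mem h1.1 h2.1, ?_⟩
  have e : (y * y')⁻¹ * (u * u') = y'⁻¹ * (y⁻¹ * u) * y'⁻¹⁻¹ * (y'⁻¹ * u') := by group
  rw [e]
  exact mul_mem (B.conj_mem R hZ hβ (inv_mem (RGD.le_Sup hβP h2.1)) h1.2) h2.2

theorem Bas.coo_inv {β : I → ℤ} (hβP : β ∈ P) (hβ : f β = c) {u y : Y} (h1 : Coo X P β u y) :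
    Coo X P β u⁻¹ y⁻¹ := by
  refine ⟨inv_mem h1.1, ?_⟩
  have e : y⁻¹⁻¹ * u⁻¹ = y * (y⁻¹ * u)⁻¹ * y⁻¹ := by group
  rw [e]
  exact B.conj_mem R hZ hβ (RGD.le_Sup hβP h1.1) (inv_mem h1.2)

omit hZ R B in
theorem coo_one {β : I → ℤ} : Coo X P β (1 : Y) 1 := ⟨one_mem _, by rw [inv_one, one_mul]; exact one_mem _⟩

omit hZ R B in
theorem coo_self {β : I → ℤ} {y : Y} (hy : y ∈ X β) : Coo X P β y y :=
  ⟨hy, by rw [inv_mul_cancel]; exact one_mem _⟩

omit hZ R B in
theorem coo_of_mem {β : I → ℤ} {u : Y} (hu : u ∈ RGD.Sup X (P \ {β})) : Coo X P β u 1 :=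
  ⟨one_mem _, by rw [inv_one, one_mul]; exact hu⟩

theorem Bas.coo_exists {β : I → ℤ} (hβP : β ∈ P) (hβ : f β = c) {u : Y} (hu : u ∈ RGD.Sup X P) :
    ∃ y, Coo X P β u y := by
  let K : Subgroup Y :=
    { carrier := {u | ∃ y, Coo X P β u y}
      mul_mem' := by
        rintro a b ⟨y, hy⟩ ⟨z, hz⟩
        exact ⟨_, B.coo_mul R hZ hβP hβ hy hz⟩
      one_mem' := ⟨1, coo_one⟩
      inv_mem' := by
        rintro a ⟨y, hy⟩
        exact ⟨_, B.coo_inv R hZ hβP hβ hy⟩ }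
  have h1 : RGD.Sup X P ≤ K := by
    refine RGD.Sup_le fun a ha y hy => ?_
    by_cases hab : a = β
    · subst hab
      exact ⟨y, coo_self hy⟩
    · exact ⟨1, coo_of_mem (RGD.le_Sup (S := P \ {β}) ⟨ha, hab⟩ hy)⟩
  exact h1 hu

theorem Bas.coo_uniq [Finite W] {β : I → ℤ} (hβP : β ∈ P) (hβ : f β = c) {u y z : Y} (h1 : Coo X P β u y)
    (h2 : Coo X P β u z) : y = z := by
  have h3 : y⁻¹ * z = 1 := by
    refine X_inf_Sup R hZ (B.diff hβ) (fun a ha => B.pos ha.1) (B.zc.root β hβP) (fun h' => h'.2 rfl)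
      (mul_mem (inv_mem h1.1) h2.1) ?_
    have e : y⁻¹ * z = (y⁻¹ * u) * (z⁻¹ * u)⁻¹ := by group
    rw [e]
    exact mul_mem h1.2 (inv_mem h2.2)
  exact inv_mul_eq_one.1 h3

/-- conjugation by elements of `Sup X P` -/
theorem Bas.coo_conj {β : I → ℤ} (hβP : β ∈ P) (hβ : f β = c) (hab : ∀ a ∈ X β, ∀ b ∈ X β, a * b = b * a)
    {b u y : Y} (hb : b ∈ RGD.Sup X P) (h1 : Coo X P β u y) : Coo X P β (b * u * b⁻¹) y := by
  obtain ⟨z, hz⟩ := B.coo_exists R hZ hβP hβ hb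
  have h2 := B.coo_mul R hZ hβP hβ (B.coo_mul R hZ hβP hβ hz h1) (B.coo_inv R hZ hβP hβ hz)
  have e : z * y * z⁻¹ = y := by rw [hab z hz.1 y h1.1]; group
  rwa [e] at h2

omit B hZ in
/-- conjugation by elements of `T` -/
theorem coo_tor (hP : ∀ a ∈ P, IsRoot cs h a) {β : I → ℤ} (hβP : β ∈ P) {t u y : Y} (ht : t ∈ T)
    (h1 : Coo X P β u y) : Coo X P β (t * u * t⁻¹) (t * y * t⁻¹) := by
  refine ⟨?_, ?_⟩
  · rw [← R.tor β (hP β hβP) t ht]
    exact conj_mem_cj.2 h1.1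
  · have e : (t * y * t⁻¹)⁻¹ * (t * u * t⁻¹) = t * (y⁻¹ * u) * t⁻¹ := by group
    rw [e]
    exact (Subgroup.mem_normalizer_iff.1 (R.T_le_normalizer (S := P \ {β}) (fun x hx => hP x hx.1) ht) _).1 h1.2

/-- **Positivity.** If a representative of `v` conjugates `u` into `U` and the `β`-coordinate of `u` is not trivial,
then `v β > 0`. -/
theorem Bas.pos_of_conj [Finite W] {β : I → ℤ} (hβP : β ∈ P) (hβ : f β = c) {v : W} {k : Y} (hk : Rp cs R.nsys v k)
    {u y : Y} (h1 : Coo X P β u y) (hy : y ≠ 1) (hU : k * u * k⁻¹ ∈ RGD.Sup X (RGD.Pos cs h)) :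
    0 ≤ rep cs h v β := by
  by_contra hcon
  have hβr := B.zc.root β hβP
  have hneg : rep cs h v β ≤ 0 := (hβr.act v).pos_or_neg.resolve_left hcon
  have hu := h1.mem hβP
  obtain ⟨a, ha, c', hc', e⟩ := splitZ R hZ B.zc htHom (htHom.comp (rep cs h v).toAddMonoidHom)
    (fun b hb => RGD.ht_pos (B.zc.root _ hb) (B.pos hb).2) hu
  have h2 : k * a * k⁻¹ ∈ RGD.Sup X (RGD.Pos cs h) :=
    conj_mem_Sup R hk (S := {x | x ∈ P ∧ 0 < (htHom.comp (rep cs h v).toAddMonoidHom) x}) (S' := RGD.Pos cs h)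
      (fun b hb => B.zc.root b hb.1)
      (fun b hb => ⟨(B.zc.root b hb.1).act v, pos_of_ht ((B.zc.root b hb.1).act v) hb.2⟩) ha
  have h3 : k * c' * k⁻¹ ∈ RGD.Sup X (_root_.Cfsg.Agent.Nodes.OppDec.Neg cs h) :=
    conj_mem_Sup R hk (S := {x | x ∈ P ∧ (htHom.comp (rep cs h v).toAddMonoidHom) x ≤ 0}) (S' := _root_.Cfsg.Agent.Nodes.OppDec.Neg cs h)
      (fun b hb => B.zc.root b hb.1)
      (fun b hb => ⟨(B.zc.root b hb.1).act v, neg_of_ht ((B.zc.root b hb.1).act v) hb.2⟩) hc'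
  have h4 : k * c' * k⁻¹ = 1 := by
    refine eq_one_of_mem_UN_of_mem_B R h3 (RGD.U_le_B ?_)
    have e' : k * c' * k⁻¹ = (k * a * k⁻¹)⁻¹ * (k * u * k⁻¹) := by rw [e]; group
    rw [e']
    exact mul_mem (inv_mem h2) hU
  rw [conj_eq_one_iff] at h4
  rw [h4, mul_one] at e
  have h5 : u ∈ RGD.Sup X (P \ {β}) := by
    rw [e]
    refine RGD.Sup_mono (S := {x | x ∈ P ∧ 0 < (htHom.comp (rep cs h v).toAddMonoidHom) x}) (S' := P \ {β}) ?_ ha
    rintro b ⟨hb, hb0⟩
    refine ⟨hb, ?_⟩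
    rintro rfl
    have h6 : 0 ≤ rep cs h v b := pos_of_ht (hβr.act v) hb0
    exact hcon h6
  exact hy (B.coo_uniq R hZ hβP hβ h1 (coo_of_mem h5))

/-- coordinates of a product over a list of simple roots -/
theorem Bas.coo_prod {β : I → ℤ} (hβP : β ∈ P) (hβ : f β = c) {y : (I → ℤ) → Y} :
    ∀ L : List (I → ℤ), (∀ b ∈ L, b ∈ P ∧ y b ∈ X b) → L.Nodup →
      Coo X P β ((L.map y).prod) (if β ∈ L then y β else 1) := by
  intro L
  induction L with
  | nil =>
    intro _ _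
    simpa using coo_one
  | cons b L ih =>
    intro hL hN
    rw [List.nodup_cons] at hN
    have h1 := ih (fun b' hb' => hL b' (List.mem_cons_of_mem _ hb')) hN.2
    have h2 := hL b List.mem_cons_self
    rw [List.map_cons, List.prod_cons]
    by_cases hb : β = b
    · subst hb
      rw [if_neg hN.1] at h1
      have h3 := B.coo_mul R hZ hβP hβ (coo_self (P := P) h2.2) h1
      rw [mul_one] at h3
      rw [if_pos List.mem_cons_self]
      exact h3
    · have h3 := B.coo_mul R hZ hβP hβ (coo_of_mem (P := P) (RGD.le_Sup (S := P \ {β}) ⟨h2.1, fun h' => hb h'.symm⟩ h2.2)) h1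
      rw [one_mul] at h3
      have h4 : (if β ∈ b :: L then y β else 1) = if β ∈ L then y β else 1 := by
        by_cases h5 : β ∈ L
        · rw [if_pos h5, if_pos (List.mem_cons_of_mem _ h5)]
        · rw [if_neg h5, if_neg]
          intro h6
          rcases List.mem_cons.1 h6 with h7 | h7
          · exact hb h7
          · exact h5 h7
      rw [h4]
      exact h3

/-- products over permuted lists -/
theorem Bas.prod_perm {y : (I → ℤ) → Y} {L L' : List (I → ℤ)} (hp : L.Perm L') :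
    (∀ b ∈ L, b ∈ P ∧ y b ∈ X b) → (L.map y).prod * ((L'.map y).prod)⁻¹ ∈ RGD.Sup X (Com P f c) := by
  have hprod : ∀ L : List (I → ℤ), (∀ b ∈ L, b ∈ P ∧ y b ∈ X b) → (L.map y).prod ∈ RGD.Sup X P := by
    intro L
    induction L with
    | nil => intro _; exact one_mem _
    | cons b L ih =>
      intro hL
      rw [List.map_cons, List.prod_cons]
      exact mul_mem (RGD.le_Sup (hL b List.mem_cons_self).1 (hL b List.mem_cons_self).2)
        (ih fun b' hb' => hL b' (List.mem_cons_of_mem _ hb'))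
  have hnorm : ∀ u ∈ RGD.Sup X P, ∀ m ∈ RGD.Sup X (Com P f c), u * m * u⁻¹ ∈ RGD.Sup X (Com P f c) := by
    intro u hu m hm
    have h1 : RGD.Sup X P ≤ Subgroup.normalizer (RGD.Sup X (Com P f c) : Set Y) :=
      RGD.Sup_le fun a ha => B.norm_com R hZ ha
    exact (Subgroup.mem_normalizer_iff.1 (h1 hu) m).1 hm
  induction hp with
  | nil => intro _; rw [mul_inv_cancel]; exact one_mem _
  | cons b _ ih =>
    intro hL
    rw [List.map_cons, List.prod_cons, List.map_cons, List.prod_cons]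
    have h1 := ih fun b' hb' => hL b' (List.mem_cons_of_mem _ hb')
    have h2 := hnorm _ (RGD.le_Sup (hL b List.mem_cons_self).1 (hL b List.mem_cons_self).2) _ h1
    have e : ∀ a b c : Y, a * b * (a * c)⁻¹ = a * (b * c⁻¹) * a⁻¹ := by intro a b c; group
    rw [e]
    exact h2
  | swap a b l =>
    intro hL
    have ha := hL a (List.mem_cons_of_mem _ List.mem_cons_self)
    have hb := hL b List.mem_cons_self
    rw [List.map_cons, List.prod_cons, List.map_cons, List.prod_cons, List.map_cons, List.prod_cons, List.map_cons,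
      List.prod_cons]
    have e : y b * (y a * (l.map y).prod) * (y a * (y b * (l.map y).prod))⁻¹ = ⁅y b, y a⁆ := by
      rw [commutatorElement_def]; group
    rw [e]
    by_cases hab : b = a
    · subst hab
      rw [commutatorElement_self]
      exact one_mem _
    · exact RGD.Sup_mono (S := {z | ZB cs h b a z}) (S' := Com P f c)
        (fun z hz => ⟨B.zc.btw b hb.1 a ha.1 z hz, B.zb_lt hb.1 ha.1 hz⟩)
        (hZ b a (B.zc.root b hb.1) (B.zc.root a ha.1) hab (B.ne_neg hb.1 ha.1) _ hb.2 _ ha.2)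
  | trans h1 h2 ih1 ih2 =>
    intro hL
    have h3 := ih1 hL
    have h4 := ih2 fun b hb => hL b (h1.symm.subset hb)
    have e : ∀ a b c : Y, a * c⁻¹ = (a * b⁻¹) * (b * c⁻¹) := by intro a b c; group
    rw [e _ _ _]
    exact mul_mem h3 h4

end

end Cfsg.Agent.H374.SR
end

-- part: H374/SR/Comb
section
/-!
# The closed subsystem `{a : m ∣ a j}` and its simple roots `sr i` (`i ≠ j`), `β` (helper374, S4971)
-/

set_option autoImplicit false
set_option linter.unusedSectionVars false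

namespace Cfsg.Agent.H374.SR

open CoxeterSystem Cfsg.Agent.ChevalleyStructure.CoxeterGeom Cfsg.Agent.Tits.Roots Cfsg.Agent.Tits.Core
  Cfsg.Agent.Tits.Exchange Cfsg.Agent.Nodes.Reps Cfsg.Agent.Nodes.BNOf Cfsg.Agent.BpExc.Zc

variable {I W : Type*} [Fintype I] [DecidableEq I] [Group W] {M : CoxeterMatrix I}
  {cs : CoxeterSystem M W} {A : I → I → ℤ} {h : IsCartan M A}

/-- the simple roots of the subsystem -/
def Pi (j : I) (β : I → ℤ) : Set (I → ℤ) := {a | a = β ∨ ∃ i, i ≠ j ∧ a = sr i}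

/-- `m` times the height with respect to the simple roots of the subsystem -/
def fj (j : I) (β : I → ℤ) (m : ℕ) : (I → ℤ) →+ ℤ where
  toFun x := x j + ∑ i ∈ Finset.univ.erase j, ((m : ℤ) * x i - x j * β i)
  map_zero' := by simp only [_root_.Pi.zero_apply, _root_.MulZeroClass.mul_zero, _root_.MulZeroClass.zero_mul, _root_.sub_self, _root_.Finset.sum_const_zero, _root_.add_zero]
  map_add' x y := by
    have e : ∀ i, (m : ℤ) * (x + y) i - (x + y) j * β i = ((m : ℤ) * x i - x j * β i) + ((m : ℤ) * y i - y j * β i) := by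
      intro i
      rw [Pi.add_apply, Pi.add_apply]; ring
    rw [Finset.sum_congr rfl fun i _ => e i, Finset.sum_add_distrib, Pi.add_apply]
    ring

theorem fj_apply (j : I) (β : I → ℤ) (m : ℕ) (x : I → ℤ) :
    fj j β m x = x j + ∑ i ∈ Finset.univ.erase j, ((m : ℤ) * x i - x j * β i) := rfl

/-- the positive roots of the subsystem -/
def PP (cs : CoxeterSystem M W) (h : IsCartan M A) (j : I) (m : ℕ) : Set (I → ℤ) :=
  {a | IsRoot cs h a ∧ 0 ≤ a ∧ (m : ℤ) ∣ a j}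

/-- the data of the subsystem -/
structure Dat (cs : CoxeterSystem M W) (h : IsCartan M A) (j : I) (m : ℕ) (β : I → ℤ) : Prop where
  m2 : 2 < m
  root : IsRoot cs h β
  pos : 0 ≤ β
  bj : β j = m
  nn : ∀ a, IsRoot cs h a → 0 ≤ a → (m : ℤ) ∣ a j → ∀ i, i ≠ j → a j * β i ≤ m * a i

variable {j : I} {m : ℕ} {β : I → ℤ} (D : Dat cs h j m β)

include D

theorem Dat.m0 : (0 : ℤ) < m := by have := D.m2; omega

theorem Dat.mem_PP {b : I → ℤ} (hb : b ∈ Pi j β) : b ∈ PP cs h j m := by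
  rcases hb with rfl | ⟨i, hi, rfl⟩
  · exact ⟨D.root, D.pos, by rw [D.bj]⟩
  · refine ⟨isRoot_sr cs h i, sr_nonneg i, ?_⟩
    rw [sr_ne (Ne.symm hi)]
    exact dvd_zero _

theorem Dat.fj_Pi {b : I → ℤ} (hb : b ∈ Pi j β) : fj j β m b = m := by
  rw [fj_apply]
  rcases hb with rfl | ⟨i, hi, rfl⟩
  · rw [D.bj]
    have : ∀ i ∈ Finset.univ.erase j, ((m : ℤ) * b i - (m : ℤ) * b i) = 0 := fun i _ => sub_self _
    rw [Finset.sum_congr rfl this, Finset.sum_const_zero, add_zero]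
  · rw [sr_ne (Ne.symm hi), zero_add, Finset.sum_eq_single i]
    · rw [sr_self, mul_one, zero_mul, sub_zero]
    · intro k _ hk
      rw [sr_ne hk, mul_zero, zero_mul, sub_zero]
    · intro hi'
      exact absurd (Finset.mem_erase.2 ⟨hi, Finset.mem_univ _⟩) hi'

theorem Dat.expand (x : I → ℤ) :
    (m : ℤ) • x = x j • β + ∑ i ∈ Finset.univ.erase j, ((m : ℤ) * x i - x j * β i) • (sr i : I → ℤ) := by
  funext k
  rw [Pi.smul_apply, Pi.add_apply, Pi.smul_apply, Finset.sum_apply, smul_eq_mul, smul_eq_mul]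
  by_cases hk : k = j
  · subst hk
    rw [Finset.sum_eq_zero, D.bj, add_zero, mul_comm]
    intro i hi
    rw [Pi.smul_apply, sr_ne (Ne.symm (Finset.ne_of_mem_erase hi)), smul_zero]
  · rw [Finset.sum_eq_single k]
    · rw [Pi.smul_apply, sr_self, smul_eq_mul]; ring
    · intro i _ hi
      rw [Pi.smul_apply, sr_ne (Ne.symm hi), smul_zero]
    · intro hk'
      exact absurd (Finset.mem_erase.2 ⟨hk, Finset.mem_univ _⟩) hk'

theorem Dat.map_expand {G : Type*} [AddCommGroup G] (g : (I → ℤ) →+ G) (x : I → ℤ) :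
    (m : ℤ) • g x = x j • g β + ∑ i ∈ Finset.univ.erase j, ((m : ℤ) * x i - x j * β i) • g (sr i) := by
  rw [← map_zsmul, D.expand, map_add, map_zsmul, map_sum]
  congr 1
  exact Finset.sum_congr rfl fun i _ => map_zsmul _ _ _

theorem Dat.coef_nonneg {a : I → ℤ} (ha : a ∈ PP cs h j m) : 0 ≤ a j ∧ ∀ i, i ≠ j → 0 ≤ (m : ℤ) * a i - a j * β i :=
  ⟨ha.2.1 j, fun i hi => sub_nonneg.2 (D.nn a ha.1 ha.2.1 ha.2.2 i hi)⟩

/-- additive maps with values at least `e` on the simple roots -/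
theorem Dat.le_map {g : (I → ℤ) →+ ℤ} {f : (I → ℤ) →+ ℤ} (hfg : ∀ b ∈ Pi j β, f b ≤ g b) {a : I → ℤ}
    (ha : a ∈ PP cs h j m) : f a ≤ g a := by
  obtain ⟨h1, h2⟩ := D.coef_nonneg ha
  have h3 := D.map_expand f a
  have h4 := D.map_expand g a
  simp only [smul_eq_mul] at h3 h4
  have h5 : a j * f β ≤ a j * g β := mul_le_mul_of_nonneg_left (hfg β (Or.inl rfl)) h1
  have h6 : ∑ i ∈ Finset.univ.erase j, ((m : ℤ) * a i - a j * β i) * f (sr i) ≤
      ∑ i ∈ Finset.univ.erase j, ((m : ℤ) * a i - a j * β i) * g (sr i) :=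
    Finset.sum_le_sum fun i hi => mul_le_mul_of_nonneg_left
      (hfg _ (Or.inr ⟨i, Finset.ne_of_mem_erase hi, rfl⟩)) (h2 i (Finset.ne_of_mem_erase hi))
  have h7 : (m : ℤ) * f a ≤ m * g a := by rw [h3, h4]; exact add_le_add h5 h6
  exact le_of_mul_le_mul_left h7 D.m0

theorem Dat.eq_of_Pi {g f : (I → ℤ) →+ ℤ} (hfg : ∀ b ∈ Pi j β, f b = g b) (x : I → ℤ) : f x = g x := by
  have h3 := D.map_expand f x
  have h4 := D.map_expand g x
  simp only [smul_eq_mul] at h3 h4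
  have h7 : (m : ℤ) * f x = m * g x := by
    rw [h3, h4, hfg β (Or.inl rfl)]
    congr 1
    exact Finset.sum_congr rfl fun i hi => by rw [hfg _ (Or.inr ⟨i, Finset.ne_of_mem_erase hi, rfl⟩)]
  exact mul_left_cancel₀ D.m0.ne' h7

theorem Dat.fj_le {a : I → ℤ} (ha : a ∈ PP cs h j m) : (m : ℤ) ≤ fj j β m a ∧ (fj j β m a = m → a ∈ Pi j β) := by
  obtain ⟨h1, h2⟩ := D.coef_nonneg ha
  have hm := D.m0
  obtain ⟨t, ht⟩ := ha.2.2
  rw [fj_apply]
  by_cases h0 : a j = 0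
  · rw [h0, zero_add]
    have e : ∑ i ∈ Finset.univ.erase j, ((m : ℤ) * a i - 0 * β i) = m * ∑ i ∈ Finset.univ.erase j, a i := by
      rw [Finset.mul_sum]
      exact Finset.sum_congr rfl fun i _ => by ring
    rw [e]
    have h3 : 0 < ∑ i ∈ Finset.univ.erase j, a i := by
      by_contra hcon
      have h4 : ∑ i ∈ Finset.univ.erase j, a i = 0 :=
        le_antisymm (not_lt.1 hcon) (Finset.sum_nonneg fun i _ => ha.2.1 i)
      have h5 := (Finset.sum_eq_zero_iff_of_nonneg (fun i _ => ha.2.1 i)).1 h4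
      apply ha.1.ne_zero
      funext i
      by_cases hi : i = j
      · rw [hi, h0]; rfl
      · exact h5 i (Finset.mem_erase.2 ⟨hi, Finset.mem_univ _⟩)
    refine ⟨by nlinarith only [h3], fun h4 => ?_⟩
    have h5 : ∑ i ∈ Finset.univ.erase j, a i = 1 := mul_left_cancel₀ hm.ne' (by rw [h4, mul_one])
    obtain ⟨i, hi, h6⟩ : ∃ i ∈ Finset.univ.erase j, 0 < a i := by
      by_contra hcon
      push Not at hcon
      have := Finset.sum_nonpos hcon
      omega
    have h7 : ∑ i' ∈ (Finset.univ.erase j).erase i, a i' = 1 - a i := by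
      rw [← h5, ← Finset.add_sum_erase _ _ hi]; ring
    have h8 : 0 ≤ ∑ i' ∈ (Finset.univ.erase j).erase i, a i' := Finset.sum_nonneg fun i _ => ha.2.1 i
    have h9 : a i = 1 := by omega
    rw [h9, sub_self] at h7
    have h10 := (Finset.sum_eq_zero_iff_of_nonneg (fun i _ => ha.2.1 i)).1 h7
    refine Or.inr ⟨i, Finset.ne_of_mem_erase hi, ?_⟩
    funext k
    by_cases hk : k = i
    · rw [hk, h9, sr_self]
    · rw [sr_ne hk]
      by_cases hkj : k = j
      · rw [hkj, h0]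
      · exact h10 k (Finset.mem_erase.2 ⟨hk, Finset.mem_erase.2 ⟨hkj, Finset.mem_univ _⟩⟩)
  · have ht0 : 0 < t := by
      by_contra hcon
      have : m * t ≤ 0 := mul_nonpos_of_nonneg_of_nonpos hm.le (not_lt.1 hcon)
      omega
    have h3 : (m : ℤ) ≤ a j := by rw [ht]; nlinarith only [ht0]
    have h4 : 0 ≤ ∑ i ∈ Finset.univ.erase j, ((m : ℤ) * a i - a j * β i) :=
      Finset.sum_nonneg fun i hi => h2 i (Finset.ne_of_mem_erase hi)
    refine ⟨by omega, fun h5 => ?_⟩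
    have h6 : a j = m := by omega
    have h7 : ∑ i ∈ Finset.univ.erase j, ((m : ℤ) * a i - a j * β i) = 0 := by omega
    have h8 := (Finset.sum_eq_zero_iff_of_nonneg (fun i hi => h2 i (Finset.ne_of_mem_erase hi))).1 h7
    left
    funext i
    by_cases hi : i = j
    · rw [hi, h6, D.bj]
    · have h9 := h8 i (Finset.mem_erase.2 ⟨hi, Finset.mem_univ _⟩)
      rw [h6] at h9
      exact mul_left_cancel₀ hm.ne' (sub_eq_zero.1 h9)

theorem Dat.bas : Bas cs h (PP cs h j m) (fj j β m) m where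
  zc :=
    { root := fun a ha => ha.1
      btw := by
        rintro x hx y hy z hz
        refine ⟨hz.1, hz.nonneg' hx.2.1 hy.2.1, ?_⟩
        obtain ⟨-, a, b, -, -, e⟩ := hz
        rw [e]
        exact dvd_add (Dvd.dvd.mul_left hx.2.2 a) (Dvd.dvd.mul_left hy.2.2 b) }
  pos := fun a ha => ⟨ha.1, ha.2.1⟩
  c0 := D.m0
  le := fun a ha => (D.fj_le ha).1

/-- an element of `W` preserving the `j`-coordinate modulo `m` up to a scalar and positive on the simple roots maps the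
positive roots of the subsystem into themselves -/
theorem Dat.map_PP {v : W} {q : ℤ} (hv : ∀ x, (m : ℤ) ∣ rep cs h v x j - q * x j)
    (hpos : ∀ b ∈ Pi j β, 0 ≤ rep cs h v b) {a : I → ℤ} (ha : a ∈ PP cs h j m) : rep cs h v a ∈ PP cs h j m := by
  refine ⟨ha.1.act v, fun i => ?_, ?_⟩
  · have h1 := D.le_map (f := 0) (g := (Pi.evalAddMonoidHom (fun _ : I => ℤ) i).comp (rep cs h v).toAddMonoidHom)
      (fun b hb => hpos b hb i) ha
    exact h1
  · have h1 := hv a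
    have h2 := dvd_add h1 (Dvd.dvd.mul_left ha.2.2 q)
    rwa [sub_add_cancel] at h2

/-- an element of `W` fixing the `j`-coordinate modulo `m` and positive on the simple roots permutes them -/
theorem Dat.map_Pi [Finite W] {v : W} (hv : ∀ x, (m : ℤ) ∣ rep cs h v x j - x j)
    (hpos : ∀ b ∈ Pi j β, 0 ≤ rep cs h v b) : ∀ b ∈ Pi j β, rep cs h v b ∈ Pi j β := by
  have hP : ∀ a ∈ PP cs h j m, rep cs h v a ∈ PP cs h j m := fun a ha =>
    D.map_PP (q := 1) (fun x => by rw [one_mul]; exact hv x) hpos ha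
  have hf : ∀ a ∈ PP cs h j m, fj j β m a ≤ fj j β m (rep cs h v a) := fun a ha =>
    D.le_map (f := fj j β m) (g := (fj j β m).comp (rep cs h v).toAddMonoidHom)
      (fun b hb => by
        rw [D.fj_Pi hb]
        exact (D.fj_le (hP b (D.mem_PP hb))).1) ha
  have hit : ∀ (n : ℕ) (a : I → ℤ), a ∈ PP cs h j m → rep cs h (v ^ n) a ∈ PP cs h j m ∧
      fj j β m a ≤ fj j β m (rep cs h (v ^ n) a) := by
    intro n
    induction n with
    | zero => intro a ha; rw [pow_zero, map_one, Module.End.one_apply]; exact ⟨ha, le_rfl⟩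
    | succ n ih =>
      intro a ha
      obtain ⟨h1, h2⟩ := ih a ha
      rw [pow_succ', rep_mul_apply]
      exact ⟨hP _ h1, h2.trans (hf _ h1)⟩
  intro b hb
  have hbP := D.mem_PP hb
  refine (D.fj_le (hP b hbP)).2 (le_antisymm ?_ (D.fj_le (hP b hbP)).1)
  have h1 : 0 < orderOf v := orderOf_pos v
  have h2 := (hit (orderOf v - 1) (rep cs h v b) (hP b hbP)).2
  rw [← rep_mul_apply, ← pow_succ, Nat.sub_add_cancel h1, pow_orderOf_eq_one, map_one, Module.End.one_apply,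
    D.fj_Pi hb] at h2
  exact h2

end Cfsg.Agent.H374.SR
end

-- part: H196/SRX/Rows
section
/-!
# TEAM SR (S4971): the data in the form of helper374's theorem, and the element `w₀ w_Ψ` (helper196)
-/

set_option autoImplicit false
set_option maxRecDepth 100000
set_option linter.unusedSectionVars false

namespace Cfsg.Agent.H196.SRX

open CoxeterSystem Cfsg Cfsg.Lie Cfsg.Agent.Nodes.RGDChev Cfsg.Agent.ChevalleyStructure
  Cfsg.Agent.ChevalleyStructure.CoxeterGeom Cfsg.Agent.ChevalleyStructure.CoxeterGeomTypes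
  Cfsg.Agent.Tits.Roots Cfsg.Agent.Tits.Core Cfsg.Agent.Nodes.Reps Cfsg.Agent.Nodes.BNOf Cfsg.Agent.H374.SR
  Cfsg.Agent.Nodes.Coroot Cfsg.Agent.KFacts.RgdField Cfsg.Agent.Tits.RootComb

section

variable {I W : Type*} [Fintype I] [DecidableEq I] [Group W] {M : CoxeterMatrix I}
  {cs : CoxeterSystem M W} {A : I → I → ℤ} {h : IsCartan M A} {j : I} {m : ℕ} {β : I → ℤ}

/-- an element of `W` multiplying the `j`-coordinate by `q` modulo `m` and positive on the simple roots permutes them -/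
theorem map_Pi' (D : Dat cs h j m β) [Finite W] {v : W} {q : ℤ} (hv : ∀ x, (m : ℤ) ∣ rep cs h v x j - q * x j)
    (hpos : ∀ b ∈ Pi j β, 0 ≤ rep cs h v b) : ∀ b ∈ Pi j β, rep cs h v b ∈ Pi j β := by
  have hP : ∀ a ∈ PP cs h j m, rep cs h v a ∈ PP cs h j m := fun a ha => D.map_PP hv hpos ha
  have hf : ∀ a ∈ PP cs h j m, fj j β m a ≤ fj j β m (rep cs h v a) := fun a ha =>
    D.le_map (f := fj j β m) (g := (fj j β m).comp (rep cs h v).toAddMonoidHom)
      (fun b hb => by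
        rw [D.fj_Pi hb]
        exact (D.fj_le (hP b (D.mem_PP hb))).1) ha
  have hit : ∀ (n : ℕ) (a : I → ℤ), a ∈ PP cs h j m → rep cs h (v ^ n) a ∈ PP cs h j m ∧
      fj j β m a ≤ fj j β m (rep cs h (v ^ n) a) := by
    intro n
    induction n with
    | zero => intro a ha; rw [pow_zero, map_one, Module.End.one_apply]; exact ⟨ha, le_rfl⟩
    | succ n ih =>
      intro a ha
      obtain ⟨h1, h2⟩ := ih a ha
      rw [pow_succ', rep_mul_apply]
      exact ⟨hP _ h1, h2.trans (hf _ h1)⟩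
  intro b hb
  have hbP := D.mem_PP hb
  refine (D.fj_le (hP b hbP)).2 (le_antisymm ?_ (D.fj_le (hP b hbP)).1)
  have h1 : 0 < orderOf v := orderOf_pos v
  have h2 := (hit (orderOf v - 1) (rep cs h v b) (hP b hbP)).2
  rw [← rep_mul_apply, ← pow_succ, Nat.sub_add_cancel h1, pow_orderOf_eq_one, map_one, Module.End.one_apply,
    D.fj_Pi hb] at h2
  exact h2

/-- **The element `w₀ w_Ψ`.** -/
theorem exists_w (D : Dat cs h j m β) [Finite W] {w₀ : W} (hneg : ∀ x, rep cs h w₀ x = -x) :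
    ∃ w : W, (∀ x, (m : ℤ) ∣ rep cs h w x j + x j) ∧ ∀ b ∈ Pi j β, rep cs h w b ∈ Pi j β := by
  let V : Subgroup W :=
    { carrier := {v | ∀ x, (m : ℤ) ∣ rep cs h v x j - x j}
      one_mem' := fun x => by
        rw [map_one, Module.End.one_apply, sub_self]
        exact dvd_zero _
      mul_mem' := by
        intro v v' hv hv' x
        rw [rep_mul_apply]
        have h1 := dvd_add (hv (rep cs h v' x)) (hv' x)
        rwa [sub_add_sub_cancel] at h1
      inv_mem' := by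
        intro v hv x
        have h1 := hv (rep cs h v⁻¹ x)
        rw [rep_apply_inv] at h1
        rwa [← dvd_neg, neg_sub] }
  obtain ⟨v, hv, hpos⟩ := Cfsg.Agent.BpExc.Fr.exists_adjust (cs := cs) (h := h)
    {a | IsRoot cs h a ∧ (m : ℤ) ∣ a j} V (by
      rintro a ⟨⟨w, i, rfl⟩, ha⟩
      refine ⟨w, i, rfl, fun x => ?_⟩
      rw [rep_rfl'_eq, Pi.sub_apply, Pi.smul_apply, smul_eq_mul, sub_sub_cancel_left]
      exact (Dvd.dvd.mul_left ha _).neg_right) (Cfsg.Agent.BpExc.Fr.repAut cs h w₀)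
    (fun a ha => ha.act w₀)
  have hw : ∀ x, (m : ℤ) ∣ rep cs h (w₀ * v) x j + x j := by
    intro x
    rw [rep_mul_apply, hneg, Pi.neg_apply]
    have h1 := (hv x).neg_right
    rw [neg_sub] at h1
    rwa [neg_add_eq_sub]
  refine ⟨w₀ * v, hw, map_Pi' D (q := -1) (fun x => ?_) fun b hb => ?_⟩
  · rw [neg_one_mul, sub_neg_eq_add]
    exact hw x
  · obtain ⟨h1, h2, h3⟩ := D.mem_PP hb
    rw [rep_mul_apply]
    exact hpos b ⟨h1, h3⟩ h2

end

section

variable {D : ChevalleyDatum} {l : ℕ} {M : CoxeterMatrix (Fin l)} (hp : IsType D l M)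

/-- the finite check for `Dat` -/
def chkD (D : ChevalleyDatum) (l m : ℕ) (j : Fin l) (β : Fin l → ℤ) (r : ℕ) : Prop :=
  2 < m ∧ r < D.nroots ∧ (∀ i, vec D l r i = β i) ∧ (∀ i, 0 ≤ β i) ∧ β j = m ∧
  ∀ r' : Fin D.nroots, (∀ i, 0 ≤ vec D l r' i) → (m : ℤ) ∣ vec D l r' j → ∀ i, i ≠ j →
    vec D l r' j * β i ≤ m * vec D l r' i

instance decChkD (D : ChevalleyDatum) (l m : ℕ) (j : Fin l) (β : Fin l → ℤ) (r : ℕ) :
    Decidable (chkD D l m j β r) := by
  unfold chkD; infer_instance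

theorem dat_of_chk {m : ℕ} {j : Fin l} {β : Fin l → ℤ} {r : ℕ} (h : chkD D l m j β r) :
    Dat M.toCoxeterSystem hp.isCartan j m β := by
  obtain ⟨h1, h2, h3, h4, h5, h6⟩ := h
  refine ⟨h1, ?_, fun i => h4 i, h5, ?_⟩
  · rw [← (funext h3 : vec D l r = β)]
    exact isRoot_vec hp _ h2
  · intro a ha h0 hm i hi
    obtain ⟨r', hr', rfl⟩ := (isRoot_iff hp M.toCoxeterSystem a).1 ha
    exact h6 ⟨r', hr'⟩ (fun i => h0 i) hm i hi

/-- `hstab` from `Cent` -/
theorem hstab_of_cent {m : ℕ} {f : Fin l → ℤ} {P : Fin l → Fin l → ℤ} {j : Fin l} {β : Fin l → ℤ}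
    (hC : Cent hp m f P) (hf : ∀ i, f i = if i = j then 1 else 0) (hPj : ∀ i, P j i = β i)
    (hPi : ∀ i, i ≠ j → ∀ k, P i k = if k = i then 1 else 0) (v : M.Group)
    (hv : ∀ x, (m : ℤ) ∣ rep M.toCoxeterSystem hp.isCartan v x j - x j)
    (hvP : ∀ b ∈ Pi j β, rep M.toCoxeterSystem hp.isCartan v b ∈ Pi j β) : v = 1 := by
  have hfn : ∀ x, fn f x = x j := fun x => by
    unfold fn
    rw [Finset.sum_eq_single j]
    · rw [hf, if_pos rfl, one_mul]
    · intro i _ hi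
      rw [hf, if_neg hi, zero_mul]
    · intro hj
      exact absurd (Finset.mem_univ j) hj
  have hPj' : P j = β := funext hPj
  have hPi' : ∀ i, i ≠ j → P i = sr i := fun i hi => by
    funext k
    rw [hPi i hi k]
    by_cases hk : k = i
    · rw [if_pos hk, hk, sr_self]
    · rw [if_neg hk, sr_ne hk]
  have hmem : ∀ b, b ∈ Pi j β ↔ ∃ i, P i = b := by
    intro b
    constructor
    · rintro (rfl | ⟨i, hi, rfl⟩)
      · exact ⟨j, hPj'⟩
      · exact ⟨i, hPi' i hi⟩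
    · rintro ⟨i, rfl⟩
      by_cases hi : i = j
      · subst hi
        exact Or.inl hPj'
      · exact Or.inr ⟨i, hi, hPi' i hi⟩
  refine hC v (fun x => ?_) (fun i => ?_)
  · rw [hfn, hfn]
    exact hv x
  · obtain ⟨k, hk⟩ := (hmem _).1 (hvP _ ((hmem _).2 ⟨i, rfl⟩))
    exact ⟨k, hk.symm⟩

end

/-! ### the instances -/

open Cfsg.Agent.H720.RowsNeg Cfsg.Agent.H130.WeylTab

theorem neg_F4 : ∃ w, ∀ x, rep (CoxeterMatrix.F₄).toCoxeterSystem isType_F4.isCartan w x = -x :=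
  exists_neg lists_F4 _ _ [0, 1, 2, 3] 6 (by decide +kernel)

private noncomputable def _root_.Cfsg.Agent.LsF.ff7d1e6_18 : {f // @Cfsg.Agent.H130.WeylCk.dot = f} := ⟨_, by first | (delta Cfsg.Agent.H130.WeylCk.dot List.brecOn List.brecOn.go Cfsg.Agent.H130.WeylCk.dot._f; rewrite [Cfsg.Agent.LsF.iadd_pat, Cfsg.Agent.LsF.imul_pat]; (try delta Cfsg.Agent.H130.WeylCk.dot.match_3); (try delta Cfsg.Agent.H130.WeylCk.dot.match_1); (try delta List.casesOn); first | dsimp -zeta only | exact rfl) | exact rfl⟩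
private noncomputable def _root_.Cfsg.Agent.LsF.ff7d1e6_19 : {f // @Cfsg.Agent.H130.WeylCk.rf = f} := ⟨_, by first | (delta Cfsg.Agent.H130.WeylCk.rf; rewrite [Cfsg.Agent.LsF.ff7d1e6_18.2, Cfsg.Agent.LsF.isub_pat, Cfsg.Agent.LsF.getD_eq, Cfsg.Agent.LsF.set_eq]; exact rfl) | exact rfl⟩
private noncomputable def _root_.Cfsg.Agent.LsF.ff7d1e6_20 : {f // @Cfsg.Agent.H130.WeylCk.ac = f} := ⟨_, by first | (delta Cfsg.Agent.H130.WeylCk.ac; rewrite [Cfsg.Agent.LsF.ff7d1e6_19.2, Cfsg.Agent.LsF.foldr_eq]; exact rfl) | exact rfl⟩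
private noncomputable def _root_.Cfsg.Agent.LsF.ff7d1e6_21 : {f // @Cfsg.Agent.H130.WeylCk.acn = f} := ⟨_, by first | (delta Cfsg.Agent.H130.WeylCk.acn Cfsg.Agent.H130.WeylCk.acn._f Nat.brecOn.go Nat.brecOn; rewrite [Cfsg.Agent.LsF.ff7d1e6_20.2]; (try delta Cfsg.Agent.H130.WeylCk.acn.match_1); (try delta Nat.casesOn); first | dsimp -zeta only | exact rfl) | exact rfl⟩
private noncomputable def _root_.Cfsg.Agent.LsF.ff7d1e6_22 : {f // @Cfsg.Agent.H130.WeylCk.bas = f} := ⟨_, by first | (delta Cfsg.Agent.H130.WeylCk.bas; rewrite [Cfsg.Agent.LsF.replicate_eq, Cfsg.Agent.LsF.set_eq]; exact rfl) | exact rfl⟩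
theorem neg_E7 : ∃ w, ∀ x, rep (CoxeterMatrix.E₇).toCoxeterSystem isType_E7.isCartan w x = -x :=
  exists_neg lists_E7 _ _ [0, 1, 2, 3, 4, 5, 6] 9 (by (refine of_decide_eq_true ?_; (try (rewrite [Cfsg.Agent.LsF.ff7d1e6_21.2, Cfsg.Agent.LsF.ff7d1e6_22.2, Cfsg.Agent.LsF.imul_pat, Cfsg.Agent.LsF.ineg_pat, Cfsg.Agent.LsF.map_eq, Cfsg.Agent.LsF.instIDecEq_eq, Cfsg.Agent.LsF.dListEq_eq, Cfsg.Agent.LsF.dForallFin_eq, Cfsg.Agent.LsF.decide_eq])); decide +kernel))

theorem neg_E8 : ∃ w, ∀ x, rep (CoxeterMatrix.E₈).toCoxeterSystem isType_E8.isCartan w x = -x :=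
  exists_neg lists_E8 _ _ [0, 1, 2, 3, 4, 5, 6, 7] 15 (by (refine of_decide_eq_true ?_; (try (rewrite [Cfsg.Agent.LsF.ff7d1e6_21.2, Cfsg.Agent.LsF.ff7d1e6_22.2, Cfsg.Agent.LsF.imul_pat, Cfsg.Agent.LsF.ineg_pat, Cfsg.Agent.LsF.map_eq, Cfsg.Agent.LsF.instIDecEq_eq, Cfsg.Agent.LsF.dListEq_eq, Cfsg.Agent.LsF.dForallFin_eq, Cfsg.Agent.LsF.decide_eq])); decide +kernel))

/-- the highest simple root -/
def b_F4_3 : Fin 4 → ℤ := ![2, 4, 3, 1]

theorem dat_F4_3 : Dat (CoxeterMatrix.F₄).toCoxeterSystem isType_F4.isCartan 2 3 b_F4_3 :=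
  dat_of_chk isType_F4 (r := 46) (by decide +kernel)

theorem w_F4_3 : ∃ w, (∀ x, ((3 : ℕ) : ℤ) ∣ rep (CoxeterMatrix.F₄).toCoxeterSystem isType_F4.isCartan w x 2 + x 2) ∧
    ∀ b ∈ Pi 2 b_F4_3, rep (CoxeterMatrix.F₄).toCoxeterSystem isType_F4.isCartan w b ∈ Pi 2 b_F4_3 := by
  have := finite_W isType_F4 (CoxeterMatrix.F₄).toCoxeterSystem
  obtain ⟨w, hw⟩ := neg_F4
  exact exists_w dat_F4_3 hw

theorem hstab_F4_3 (v : (CoxeterMatrix.F₄).Group)
    (hv : ∀ x, ((3 : ℕ) : ℤ) ∣ rep (CoxeterMatrix.F₄).toCoxeterSystem isType_F4.isCartan v x 2 - x 2)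
    (hvP : ∀ b ∈ Pi 2 b_F4_3, rep (CoxeterMatrix.F₄).toCoxeterSystem isType_F4.isCartan v b ∈ Pi 2 b_F4_3) : v = 1 :=
  hstab_of_cent isType_F4 cent_F4_3 (by decide +kernel) (by decide +kernel) (by decide +kernel) v hv hvP

/-- the highest simple root -/
def b_F4_4 : Fin 4 → ℤ := ![2, 4, 2, 1]

theorem dat_F4_4 : Dat (CoxeterMatrix.F₄).toCoxeterSystem isType_F4.isCartan 1 4 b_F4_4 :=
  dat_of_chk isType_F4 (r := 45) (by decide +kernel)

theorem w_F4_4 : ∃ w, (∀ x, ((4 : ℕ) : ℤ) ∣ rep (CoxeterMatrix.F₄).toCoxeterSystem isType_F4.isCartan w x 1 + x 1) ∧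
    ∀ b ∈ Pi 1 b_F4_4, rep (CoxeterMatrix.F₄).toCoxeterSystem isType_F4.isCartan w b ∈ Pi 1 b_F4_4 := by
  have := finite_W isType_F4 (CoxeterMatrix.F₄).toCoxeterSystem
  obtain ⟨w, hw⟩ := neg_F4
  exact exists_w dat_F4_4 hw

theorem hstab_F4_4 (v : (CoxeterMatrix.F₄).Group)
    (hv : ∀ x, ((4 : ℕ) : ℤ) ∣ rep (CoxeterMatrix.F₄).toCoxeterSystem isType_F4.isCartan v x 1 - x 1)
    (hvP : ∀ b ∈ Pi 1 b_F4_4, rep (CoxeterMatrix.F₄).toCoxeterSystem isType_F4.isCartan v b ∈ Pi 1 b_F4_4) : v = 1 :=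
  hstab_of_cent isType_F4 cent_F4_4 (by decide +kernel) (by decide +kernel) (by decide +kernel) v hv hvP

/-- the highest simple root -/
def b_E7_3 : Fin 7 → ℤ := ![1, 2, 3, 4, 3, 2, 1]

theorem dat_E7_3 : Dat (CoxeterMatrix.E₇).toCoxeterSystem isType_E7.isCartan 2 3 b_E7_3 :=
  dat_of_chk isType_E7 (r := 124) (by decide +kernel)

theorem w_E7_3 : ∃ w, (∀ x, ((3 : ℕ) : ℤ) ∣ rep (CoxeterMatrix.E₇).toCoxeterSystem isType_E7.isCartan w x 2 + x 2) ∧
    ∀ b ∈ Pi 2 b_E7_3, rep (CoxeterMatrix.E₇).toCoxeterSystem isType_E7.isCartan w b ∈ Pi 2 b_E7_3 := by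
  have := finite_W isType_E7 (CoxeterMatrix.E₇).toCoxeterSystem
  obtain ⟨w, hw⟩ := neg_E7
  exact exists_w dat_E7_3 hw

theorem hstab_E7_3 (v : (CoxeterMatrix.E₇).Group)
    (hv : ∀ x, ((3 : ℕ) : ℤ) ∣ rep (CoxeterMatrix.E₇).toCoxeterSystem isType_E7.isCartan v x 2 - x 2)
    (hvP : ∀ b ∈ Pi 2 b_E7_3, rep (CoxeterMatrix.E₇).toCoxeterSystem isType_E7.isCartan v b ∈ Pi 2 b_E7_3) : v = 1 :=
  hstab_of_cent isType_E7 cent_E7_3 (by decide +kernel) (by decide +kernel) (by decide +kernel) v hv hvP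

/-- the highest simple root -/
def b_E8_3 : Fin 8 → ℤ := ![1, 3, 3, 5, 4, 3, 2, 1]

private noncomputable def _root_.Cfsg.Agent.LsF.ff7d1e6_23 : {f // @Cfsg.Agent.H196.SRX.b_E8_3 = f} := ⟨_, by first | (delta Cfsg.Agent.H196.SRX.b_E8_3; rewrite [Cfsg.Agent.LsF.vecCons_eq]; exact rfl) | exact rfl⟩
theorem dat_E8_3 : Dat (CoxeterMatrix.E₈).toCoxeterSystem isType_E8.isCartan 1 3 b_E8_3 :=
  dat_of_chk isType_E8 (r := 225) (by (refine of_decide_eq_true ?_; (try (delta Cfsg.Agent.H196.SRX.chkD Cfsg.Agent.H196.SRX.decChkD; rewrite [Cfsg.Agent.LsF.ff7d1e6_4.2, Cfsg.Agent.LsF.ff7d1e6_23.2, Cfsg.Agent.LsF.imul_pat, Cfsg.Agent.LsF.icast_pat, Cfsg.Agent.LsF.decLt_eq, Cfsg.Agent.LsF.instIDecEq_eq, Cfsg.Agent.LsF.idecLe_eq, Cfsg.Agent.LsF.dAnd_eq, Cfsg.Agent.LsF.dNot_eq, Cfsg.Agent.LsF.dFinEq_eq, Cfsg.Agent.LsF.dForallFin_eq, Cfsg.Agent.LsF.dAllP_eq, Cfsg.Agent.LsF.idDvd_eq, Cfsg.Agent.LsF.decide_eq])); decide +kernel))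

theorem w_E8_3 : ∃ w, (∀ x, ((3 : ℕ) : ℤ) ∣ rep (CoxeterMatrix.E₈).toCoxeterSystem isType_E8.isCartan w x 1 + x 1) ∧
    ∀ b ∈ Pi 1 b_E8_3, rep (CoxeterMatrix.E₈).toCoxeterSystem isType_E8.isCartan w b ∈ Pi 1 b_E8_3 := by
  have := finite_W isType_E8 (CoxeterMatrix.E₈).toCoxeterSystem
  obtain ⟨w, hw⟩ := neg_E8
  exact exists_w dat_E8_3 hw

theorem hstab_E8_3 (v : (CoxeterMatrix.E₈).Group)
    (hv : ∀ x, ((3 : ℕ) : ℤ) ∣ rep (CoxeterMatrix.E₈).toCoxeterSystem isType_E8.isCartan v x 1 - x 1)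
    (hvP : ∀ b ∈ Pi 1 b_E8_3, rep (CoxeterMatrix.E₈).toCoxeterSystem isType_E8.isCartan v b ∈ Pi 1 b_E8_3) : v = 1 :=
  hstab_of_cent isType_E8 cent_E8_3 (by decide +kernel) (by decide +kernel) (by decide +kernel) v hv hvP

/-- the highest simple root -/
def b_E8_4 : Fin 8 → ℤ := ![2, 2, 4, 5, 4, 3, 2, 1]

private noncomputable def _root_.Cfsg.Agent.LsF.ff7d1e6_24 : {f // @Cfsg.Agent.H196.SRX.b_E8_4 = f} := ⟨_, by first | (delta Cfsg.Agent.H196.SRX.b_E8_4; rewrite [Cfsg.Agent.LsF.vecCons_eq]; exact rfl) | exact rfl⟩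
theorem dat_E8_4 : Dat (CoxeterMatrix.E₈).toCoxeterSystem isType_E8.isCartan 2 4 b_E8_4 :=
  dat_of_chk isType_E8 (r := 232) (by (refine of_decide_eq_true ?_; (try (delta Cfsg.Agent.H196.SRX.chkD Cfsg.Agent.H196.SRX.decChkD; rewrite [Cfsg.Agent.LsF.ff7d1e6_4.2, Cfsg.Agent.LsF.ff7d1e6_24.2, Cfsg.Agent.LsF.imul_pat, Cfsg.Agent.LsF.icast_pat, Cfsg.Agent.LsF.decLt_eq, Cfsg.Agent.LsF.instIDecEq_eq, Cfsg.Agent.LsF.idecLe_eq, Cfsg.Agent.LsF.dAnd_eq, Cfsg.Agent.LsF.dNot_eq, Cfsg.Agent.LsF.dFinEq_eq, Cfsg.Agent.LsF.dForallFin_eq, Cfsg.Agent.LsF.dAllP_eq, Cfsg.Agent.LsF.idDvd_eq, Cfsg.Agent.LsF.decide_eq])); decide +kernel))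

theorem w_E8_4 : ∃ w, (∀ x, ((4 : ℕ) : ℤ) ∣ rep (CoxeterMatrix.E₈).toCoxeterSystem isType_E8.isCartan w x 2 + x 2) ∧
    ∀ b ∈ Pi 2 b_E8_4, rep (CoxeterMatrix.E₈).toCoxeterSystem isType_E8.isCartan w b ∈ Pi 2 b_E8_4 := by
  have := finite_W isType_E8 (CoxeterMatrix.E₈).toCoxeterSystem
  obtain ⟨w, hw⟩ := neg_E8
  exact exists_w dat_E8_4 hw

theorem hstab_E8_4 (v : (CoxeterMatrix.E₈).Group)
    (hv : ∀ x, ((4 : ℕ) : ℤ) ∣ rep (CoxeterMatrix.E₈).toCoxeterSystem isType_E8.isCartan v x 2 - x 2)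
    (hvP : ∀ b ∈ Pi 2 b_E8_4, rep (CoxeterMatrix.E₈).toCoxeterSystem isType_E8.isCartan v b ∈ Pi 2 b_E8_4) : v = 1 :=
  hstab_of_cent isType_E8 cent_E8_4 (by decide +kernel) (by decide +kernel) (by decide +kernel) v hv hvP

end Cfsg.Agent.H196.SRX
end

-- part: H374/SR/Cent
section
/-!
# The centraliser of `s u` in `D.group k` (helper374, S4971)

`k` algebraically closed and locally finite, `s` in the torus with `x(s) = ζ ^ (x j)`, `u` in the unipotent group of the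
subsystem `{a : m ∣ a j}` with simple coordinates `1`.

* `exists_TT_Pi` : torus elements with prescribed values on the simple roots of the subsystem;
* `fixT` : torus elements trivial on the simple roots are fixed by the frame automorphism;
* `cent` : an element commuting with `s` and `u` is `u' t`, `t` in the torus, trivial on the simple roots.
-/

set_option autoImplicit false
set_option linter.unusedSectionVars false

namespace Cfsg.Agent.H374.SR

open CoxeterSystem Cfsg Cfsg.Lie Cfsg.Lie.ChevalleyDatum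
open Cfsg.Agent.ChevalleyStructure Cfsg.Agent.ChevalleyStructure.Elts Cfsg.Agent.ChevalleyStructure.CoxeterGeom
  Cfsg.Agent.ChevalleyStructure.CoxeterGeomTypes Cfsg.Agent.ChevalleyStructure.NPerm
open Cfsg.Agent.Tits.Roots Cfsg.Agent.Tits.Core Cfsg.Agent.Nodes Cfsg.Agent.Nodes.Reps Cfsg.Agent.Nodes.BNOf
  Cfsg.Agent.Nodes.RGDChev Cfsg.Agent.Nodes.Bruhat
open Cfsg.Agent.KFacts.RgdField Cfsg.Agent.KFacts.RgdChevCoord Cfsg.Agent.BpExc.TorCent Cfsg.Agent.BpExc.TorChev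
open Cfsg.Agent.GpExc.Field Cfsg.Agent.BpExc.Tow Cfsg.Agent.BpExc.TowChev Cfsg.Agent.BpExc.Fr
  Cfsg.Agent.BpExc.LangFr Cfsg.Agent.H129.TorusChar Cfsg.Agent.BpExc Cfsg.Agent.BpExc.Zc

universe u

variable {D : ChevalleyDatum} {l : ℕ} {M : CoxeterMatrix (Fin l)} (hp : IsType D l M)
  {k : Type u} [Field k] {r e : ℕ} [Fact r.Prime] [CharP k r] {j : Fin l} {m : ℕ} {β : Fin l → ℤ}

theorem rp_cast {I W Y : Type*} [Fintype I] [DecidableEq I] [Group W] [Group Y] {M : CoxeterMatrix I}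
    {cs : CoxeterSystem M W} {T T' : Subgroup Y} {n : I → Y} (h : T = T') {hN : NSys M T n} {hN' : NSys M T' n}
    {w : W} {g : Y} (h1 : Rp cs hN w g) : Rp cs hN' w g := by
  subst h
  exact h1

/-- the integral commutator relations of the levels -/
theorem commZ (E : Lev k) : CommZ M.toCoxeterSystem hp.isCartan (Xj hp E) := by
  intro x y hx hy hxy hxy' a ha b hb
  refine RGD.Sup_mono (S := CommZ.combZ M.toCoxeterSystem hp x y) ?_
    (CommZ.comm_mem_Zj hp M.toCoxeterSystem E hx hy hxy hxy' ha hb)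
  rintro z ⟨hz, i, j, hi, hj, e⟩
  exact ⟨hz, i, j, by exact_mod_cast hi, by exact_mod_cast hj, by rw [e, natCast_zsmul, natCast_zsmul]⟩

/-- prescribed values on the simple roots of the subsystem -/
theorem exists_TT_Pi [IsAlgClosed k] {d : ℕ} {B : Fin l → Fin l → ℤ} (hB : InvC D l d B) (hd : d ≠ 0)
    (Dt : Dat M.toCoxeterSystem hp.isCartan j m β) (a : (Fin l → ℤ) → k) (ha : ∀ b ∈ Pi j β, a b ≠ 0) :
    ∃ t ∈ TT D k, ∀ b ∈ Pi j β, cX hp t b = a b := by
  have hm0 : 0 < m := by have := Dt.m2; omega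
  obtain ⟨y, hy⟩ := IsAlgClosed.exists_pow_nat_eq (a β * (∏ i ∈ Finset.univ.erase j, a (sr i) ^ β i)⁻¹) hm0
  have hne : ∀ i ∈ Finset.univ.erase j, a (sr i) ^ β i ≠ 0 := fun i hi =>
    zpow_ne_zero _ (ha _ (Or.inr ⟨i, Finset.ne_of_mem_erase hi, rfl⟩))
  have hprod : ∏ i ∈ Finset.univ.erase j, a (sr i) ^ β i ≠ 0 := Finset.prod_ne_zero_iff.2 hne
  have hy0 : y ≠ 0 := by
    rintro rfl
    rw [zero_pow hm0.ne'] at hy
    exact mul_ne_zero (ha β (Or.inl rfl)) (inv_ne_zero hprod) hy.symm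
  let c : Fin l → k := fun i => if i = j then y else a (sr i)
  have hc0 : ∀ i, c i ≠ 0 := by
    intro i
    by_cases hi : i = j
    · simp only [c, if_pos hi]; exact hy0
    · simp only [c, if_neg hi]; exact ha _ (Or.inr ⟨i, hi, rfl⟩)
  obtain ⟨t, ht, hX⟩ := exists_cX hp hB hd (IsMC.of_prod c hc0)
    (fun i => IsAlgClosed.exists_pow_nat_eq _ (Nat.pos_of_ne_zero hd))
  refine ⟨t, ht, ?_⟩
  rintro b (rfl | ⟨i, hi, rfl⟩)
  · rw [hX, ← Finset.mul_prod_erase _ _ (Finset.mem_univ j)]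
    have e1 : ∏ i ∈ Finset.univ.erase j, c i ^ b i = ∏ i ∈ Finset.univ.erase j, a (sr i) ^ b i :=
      Finset.prod_congr rfl fun i hi => by simp only [c, if_neg (Finset.ne_of_mem_erase hi)]
    rw [e1, Dt.bj, zpow_natCast]
    simp only [c, if_true]
    rw [hy, inv_mul_cancel_right₀ hprod]
  · rw [hX, Finset.prod_eq_single i]
    · rw [sr_self, zpow_one]
      simp only [c, if_neg hi]
    · intro i' _ hi'
      rw [sr_ne hi', zpow_zero]
    · intro h; exact absurd (Finset.mem_univ i) h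

/-- the characters of the torus elements trivial on the simple roots -/
theorem cX_of_Pi (Dt : Dat M.toCoxeterSystem hp.isCartan j m β) {t : ↥(D.group k)} (ht : t ∈ TT D k)
    (hb : ∀ b ∈ Pi j β, cX hp t b = 1) : cX hp t (sr j) ^ m = 1 ∧ ∀ x, cX hp t x = cX hp t (sr j) ^ x j := by
  have hmc := isMC_cX hp ht
  have h1 : ∀ x, cX hp t x = cX hp t (sr j) ^ x j := by
    intro x
    rw [hmc.eq_prod x, Finset.prod_eq_single j]
    · intro i _ hi
      rw [hb _ (Or.inr ⟨i, hi, rfl⟩), one_zpow]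
    · intro h; exact absurd (Finset.mem_univ j) h
  refine ⟨?_, h1⟩
  have h2 := h1 β
  rw [Dt.bj, zpow_natCast, hb β (Or.inl rfl)] at h2
  exact h2.symm

/-- torus elements trivial on the simple roots are fixed -/
theorem fixT [IsAlgClosed k] (Dt : Dat M.toCoxeterSystem hp.isCartan j m β) {σ : MulAut ↥(D.group k)} {w : M.Group}
    (hσ : IsFrob r e σ)
    (F : Fr M.toCoxeterSystem hp.isCartan (TT D k) (XX D l k) σ (repAut (h := hp.isCartan) M.toCoxeterSystem w))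
    (hw : ∀ x, (m : ℤ) ∣ rep M.toCoxeterSystem hp.isCartan w x j - ((r ^ e : ℕ) : ℤ) * x j)
    {t : ↥(D.group k)} (ht : t ∈ TT D k) (hb : ∀ b ∈ Pi j β, cX hp t b = 1) : σ t = t := by
  obtain ⟨h1, h2⟩ := cX_of_Pi hp Dt ht hb
  have hη : cX hp t (sr j) ≠ 0 := (isMC_cX hp ht).ne_zero _
  refine cX_inj hp ((F.tor t).2 ht) ht fun i => ?_
  obtain ⟨x, hx⟩ : ∃ x, rep M.toCoxeterSystem hp.isCartan w x = sr i :=
    ⟨rep M.toCoxeterSystem hp.isCartan w⁻¹ (sr i), rep_apply_inv _ _ _ _⟩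
  have h3 := cX_sigma hp M.toCoxeterSystem hσ F ht x
  rw [repAut_apply, hx] at h3
  rw [h3, ← hx, h2 (rep _ _ w x), h2 x]
  obtain ⟨c, hc⟩ := hw x
  have h4 : rep M.toCoxeterSystem hp.isCartan w x j = (m : ℤ) * c + ((r ^ e : ℕ) : ℤ) * x j := by linarith
  rw [h4, zpow_add₀ hη, zpow_mul, zpow_natCast, h1, one_zpow, one_mul, mul_comm, zpow_mul, zpow_natCast]

variable (hk : LocFin k)

theorem xc_mem_Xj (E : Lev k) {b : Fin l → ℤ} (hb : IsRoot M.toCoxeterSystem hp.isCartan b) :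
    xc hp b (1 : k) ∈ Xj hp E b := by
  obtain ⟨a, ha, rfl⟩ := (isRoot_iff hp M.toCoxeterSystem b).1 hb
  refine ⟨xc hp (vec D l a) (1 : ↥E.1), (BpExc.HX.mem_XX_xc hp ha).2 ⟨1, rfl⟩, ?_⟩
  rw [emb_xc]
  rfl

include hk

/-- **The centraliser of `s u`.** -/
theorem cent (r : ℕ) [Fact r.Prime] [CharP k r] (Dt : Dat M.toCoxeterSystem hp.isCartan j m β)
    (hstab : ∀ v : M.Group, (∀ x, (m : ℤ) ∣ rep M.toCoxeterSystem hp.isCartan v x j - x j) →
      (∀ b ∈ Pi j β, rep M.toCoxeterSystem hp.isCartan v b ∈ Pi j β) → v = 1)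
    {s : ↥(D.group k)} (hs : s ∈ TT D k) {ζ : k} (hζ : IsPrimitiveRoot ζ m) (hsx : ∀ x, cX hp s x = ζ ^ x j)
    {y0 : ↥(D.group k)}
    (hy0 : y0 ∈ RGD.Sup (XX D l k) (Com (PP M.toCoxeterSystem hp.isCartan j m) (fj j β m) m))
    {L : List (Fin l → ℤ)} (hL : ∀ b, b ∈ L ↔ b ∈ Pi j β) (hLn : L.Nodup) {c : ↥(D.group k)}
    (hc1 : c * s = s * c)
    (hc2 : c * (y0 * (L.map fun b => xc hp b (1 : k)).prod) = (y0 * (L.map fun b => xc hp b (1 : k)).prod) * c) :
    ∃ u ∈ RGD.Sup (XX D l k) (PP M.toCoxeterSystem hp.isCartan j m), ∃ t ∈ TT D k,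
      (∀ b ∈ Pi j β, cX hp t b = 1) ∧ c = u * t := by
  have hWf := finite_W hp M.toCoxeterSystem
  have H := tow hp M.toCoxeterSystem hk r
  have C := coordsL hp M.toCoxeterSystem hk r
  have hTL := TL_eq (k := k) hp hk
  have hXL := XL_eq (k := k) hp hk
  have B := Dt.bas
  obtain ⟨E1, h1⟩ := H.mem_GG (y := c).1 (by rw [GG_eq_top hp _ hk]; exact Subgroup.mem_top c)
  obtain ⟨E2, h2⟩ := H.mem_TL (y := s).1 (by rw [hTL]; exact hs)
  obtain ⟨E3, h3⟩ := H.mem_Sup (y := y0)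
    (S := Com (PP M.toCoxeterSystem hp.isCartan j m) (fj j β m) m) |>.1 (by rw [hXL]; exact hy0)
  obtain ⟨E4, a1, a2⟩ := H.dir E1 E2
  obtain ⟨E, a3, a4⟩ := H.dir E4 E3
  replace h1 := H.mono_GG (a1.trans a3) h1
  replace h2 := H.monoT (a2.trans a3) h2
  replace h3 := H.mono_Sup _ a4 h3
  have R := H.rgd E
  have hZ := commZ (M := M) hp E
  have hXE : ∀ a, Xj hp E a ≤ XX D l k a := fun a => by rw [← hXL]; exact le_XL E a
  obtain ⟨u, hu, w', kk, hkk, hks, v, hv, rfl⟩ := conj_form R h2 h2 h1 hc1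
  -- the elements of `Sup (X ⊓ C(s)) Pos`
  have hle : RGD.Sup (fun a => Xj hp E a ⊓ Subgroup.centralizer {s}) (RGD.Pos M.toCoxeterSystem hp.isCartan) ≤
      RGD.Sup (Xj hp E) (PP M.toCoxeterSystem hp.isCartan j m) := by
    refine RGD.Sup_le fun a ha => ?_
    rintro y ⟨hy, hyc⟩
    by_cases hy1 : y = 1
    · rw [hy1]; exact one_mem _
    · have h5 := mem_Sx_of_centralizer C hs ha.1 (hXE a hy) hy1 hyc
      refine RGD.le_Sup (S := PP M.toCoxeterSystem hp.isCartan j m) ⟨ha.1, ha.2, ?_⟩ hy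
      have h6 := h5.2
      rw [← cX_root hp M.toCoxeterSystem hs ha.1, hsx, hζ.zpow_eq_one_iff_dvd] at h6
      exact h6
  replace hu := hle hu
  replace hv := hle hv
  have hkL := H.rp_up hkk
  -- `w'` fixes the `j`-coordinate modulo `m`
  have hw'1 : ∀ x, (m : ℤ) ∣ rep M.toCoxeterSystem hp.isCartan w' x j - x j := by
    intro x
    have hkk' : Rp M.toCoxeterSystem (H129.TorusUntw.nsys_of_locFin hp M.toCoxeterSystem hk r) w' kk :=
      rp_cast hTL hkL
    have h5 := cX_rp hp M.toCoxeterSystem hk r hkk' hs x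
    have h6 : kk * s * kk⁻¹ = s := by rw [hks]; group
    rw [h6, hsx, hsx] at h5
    have h7 : ζ ^ (rep M.toCoxeterSystem hp.isCartan w' x j - x j) = 1 := by
      have hζ0 : ζ ≠ 0 := hζ.ne_zero (by have := Dt.m2; omega)
      rw [zpow_sub₀ hζ0, h5, div_self (zpow_ne_zero _ hζ0)]
    exact (hζ.zpow_eq_one_iff_dvd _).1 h7
  -- coordinates
  obtain ⟨v0, hv0⟩ : ∃ v0, v0 = (L.map fun b => xc hp b (1 : k)).prod := ⟨_, rfl⟩
  rw [← hv0] at hc2
  have hcoo : ∀ b ∈ Pi j β, Coo (Xj hp E) (PP M.toCoxeterSystem hp.isCartan j m) b (y0 * v0) (xc hp b (1 : k)) := by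
    intro b hb
    have h5 := B.coo_prod R hZ (Dt.mem_PP hb) (Dt.fj_Pi hb) (y := fun b => xc hp b (1 : k)) L
      (fun b' hb' => ⟨Dt.mem_PP ((hL b').1 hb'), xc_mem_Xj hp E (Dt.mem_PP ((hL b').1 hb')).1⟩) hLn
    rw [if_pos ((hL b).2 hb), ← hv0] at h5
    have h6 : Coo (Xj hp E) (PP M.toCoxeterSystem hp.isCartan j m) b y0 1 :=
      coo_of_mem (RGD.Sup_mono (B.com_sub (Dt.fj_Pi hb)) h3)
    have h7 := B.coo_mul R hZ (Dt.mem_PP hb) (Dt.fj_Pi hb) h6 h5
    rwa [one_mul] at h7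
  have hab : ∀ b ∈ Pi j β, ∀ a ∈ Xj hp E b, ∀ a' ∈ Xj hp E b, a * a' = a' * a := by
    intro b hb a ha a' ha'
    obtain ⟨s1, rfl⟩ := ((C.coord b (Dt.mem_PP hb).1).mem a).1 (hXE b ha)
    obtain ⟨s2, rfl⟩ := ((C.coord b (Dt.mem_PP hb).1).mem a').1 (hXE b ha')
    rw [← (C.coord b (Dt.mem_PP hb).1).add, ← (C.coord b (Dt.mem_PP hb).1).add, add_comm]
  have hcv : ∀ b ∈ Pi j β, Coo (Xj hp E) (PP M.toCoxeterSystem hp.isCartan j m) b (v * (y0 * v0) * v⁻¹)
      (xc hp b (1 : k)) := fun b hb =>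
    B.coo_conj R hZ (Dt.mem_PP hb) (Dt.fj_Pi hb) (hab b hb) hv (hcoo b hb)
  have hcu : ∀ b ∈ Pi j β, Coo (Xj hp E) (PP M.toCoxeterSystem hp.isCartan j m) b (u⁻¹ * (y0 * v0) * u⁻¹⁻¹)
      (xc hp b (1 : k)) := fun b hb =>
    B.coo_conj R hZ (Dt.mem_PP hb) (Dt.fj_Pi hb) (hab b hb) (inv_mem hu) (hcoo b hb)
  have hkey : kk * (v * (y0 * v0) * v⁻¹) * kk⁻¹ = u⁻¹ * (y0 * v0) * u⁻¹⁻¹ := by
    have e1 : kk * (v * (y0 * v0) * v⁻¹) * kk⁻¹ = u⁻¹ * (u * kk * v * (y0 * v0)) * (v⁻¹ * kk⁻¹) := by group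
    rw [e1, hc2]; group
  have hpos : ∀ b ∈ Pi j β, 0 ≤ rep M.toCoxeterSystem hp.isCartan w' b := by
    intro b hb
    refine B.pos_of_conj R hZ (Dt.mem_PP hb) (Dt.fj_Pi hb) hkk (hcv b hb)
      ((C.coord b (Dt.mem_PP hb).1).ne_one one_ne_zero) ?_
    rw [hkey]
    exact RGD.Sup_mono (S := PP M.toCoxeterSystem hp.isCartan j m) (S' := RGD.Pos M.toCoxeterSystem hp.isCartan)
      (fun a ha => ⟨ha.1, ha.2.1⟩) ((hcu b hb).mem (Dt.mem_PP hb))
  have hw'2 := Dt.map_Pi hw'1 hpos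
  have hw' : w' = 1 := hstab w' hw'1 hw'2
  subst hw'
  have hkT := hkk.mem_of_one
  have hkT' : kk ∈ TT D k := by rw [← hTL]; exact le_TL E hkT
  refine ⟨u * (kk * v * kk⁻¹), ?_, kk, hkT', fun b hb => ?_, by group⟩
  · refine mul_mem ?_ ?_
    · rw [← hXL]; exact Sup_le_SupL E _ hu
    · have h5 := (Subgroup.mem_normalizer_iff.1 (R.T_le_normalizer (S := PP M.toCoxeterSystem hp.isCartan j m)
        (fun x hx => hx.1) hkT) v).1 hv
      rw [← hXL]; exact Sup_le_SupL E _ h5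
  · have h5 := coo_tor (cs := M.toCoxeterSystem) (h := hp.isCartan) R (fun a ha => ha.1) (Dt.mem_PP hb) hkT (hcv b hb)
    rw [hkey] at h5
    have h6 := B.coo_uniq R hZ (Dt.mem_PP hb) (Dt.fj_Pi hb) (hcu b hb) h5
    rw [(C.coord b (Dt.mem_PP hb).1).act kk hkT' 1, mul_one] at h6
    have h7 := (C.coord b (Dt.mem_PP hb).1).inj h6
    rw [cX_root hp M.toCoxeterSystem hkT' (Dt.mem_PP hb).1, ← h7]

end Cfsg.Agent.H374.SR
end

-- part: H374/SR/Lang
section
/-!
# Non-real elements of the exceptional groups `D.group F` (helper374, S4971)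

`nrel` : the general theorem.  `s` of order `m > 2` in the torus, `u` regular unipotent in `C(s)`, `x = s u`; by Lang's
theorem there are `x_1, x_s` in the finite group conjugate to `x` over the algebraic closure (twisted by `1` and `s`);
they are not both real.
-/

set_option autoImplicit false
set_option linter.unusedSectionVars false

namespace Cfsg.Agent.H374.SR

open CoxeterSystem Cfsg Cfsg.Lie Cfsg.Lie.ChevalleyDatum
open Cfsg.Agent.ChevalleyStructure Cfsg.Agent.ChevalleyStructure.Elts Cfsg.Agent.ChevalleyStructure.CoxeterGeom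
  Cfsg.Agent.ChevalleyStructure.CoxeterGeomTypes Cfsg.Agent.ChevalleyStructure.NPerm
open Cfsg.Agent.Tits.Roots Cfsg.Agent.Tits.Core Cfsg.Agent.Nodes Cfsg.Agent.Nodes.Reps Cfsg.Agent.Nodes.BNOf
  Cfsg.Agent.Nodes.RGDChev Cfsg.Agent.Nodes.Bruhat
open Cfsg.Agent.KFacts.RgdField Cfsg.Agent.KFacts.RgdChevCoord Cfsg.Agent.BpExc.TorCent Cfsg.Agent.BpExc.TorChev
open Cfsg.Agent.GpExc.Field Cfsg.Agent.BpExc.Tow Cfsg.Agent.BpExc.TowChev Cfsg.Agent.BpExc.Fr
  Cfsg.Agent.BpExc.LangFr Cfsg.Agent.H129.TorusChar Cfsg.Agent.H129.TorusUntw Cfsg.Agent.BpExc Cfsg.Agent.BpExc.Zc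
open Cfsg.Agent.H721.SR

universe u

variable {D : ChevalleyDatum} {l : ℕ} {M : CoxeterMatrix (Fin l)} (hp : IsType D l M)
  {k : Type u} [Field k] {r e : ℕ} [Fact r.Prime] [CharP k r] {j : Fin l} {m : ℕ} {β : Fin l → ℤ}

/-- the list of the simple roots -/
def Ls (j : Fin l) (β : Fin l → ℤ) : List (Fin l → ℤ) :=
  β :: ((List.finRange l).filter (fun i => i ≠ j)).map (fun i => (sr i : Fin l → ℤ))

theorem mem_Ls {b : Fin l → ℤ} : b ∈ Ls j β ↔ b ∈ Pi j β := by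
  unfold Ls Pi
  rw [List.mem_cons, List.mem_map]
  constructor
  · rintro (h | ⟨i, hi, rfl⟩)
    · exact Or.inl h
    · exact Or.inr ⟨i, by simpa using hi, rfl⟩
  · rintro (h | ⟨i, hi, rfl⟩)
    · exact Or.inl h
    · exact Or.inr ⟨i, by simpa using hi, rfl⟩

theorem nodup_Ls (Dt : Dat M.toCoxeterSystem hp.isCartan j m β) : (Ls j β).Nodup := by
  unfold Ls
  rw [List.nodup_cons]
  constructor
  · intro h
    obtain ⟨i, hi, h1⟩ := List.mem_map.1 h
    have hij : i ≠ j := by simpa using hi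
    have h2 := Dt.bj
    rw [← h1, sr_ne (Ne.symm hij)] at h2
    have := Dt.m2
    omega
  · refine List.Nodup.map ?_ ((List.nodup_finRange l).filter _)
    intro a b hab
    by_contra hne
    have h1 := congrFun hab a
    simp only [sr_self] at h1
    rw [sr_ne hne] at h1
    exact one_ne_zero h1

theorem finite_Pi : (Pi j β : Set (Fin l → ℤ)).Finite := by
  have : (Pi j β : Set (Fin l → ℤ)) = {b | b ∈ Ls j β} := by
    ext b; exact mem_Ls.symm
  rw [this]
  exact List.finite_toSet _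

/-- the inverse also permutes the simple roots -/
theorem inv_Pi {w : M.Group} (hwP : ∀ b ∈ Pi j β, rep M.toCoxeterSystem hp.isCartan w b ∈ Pi j β) :
    ∀ b ∈ Pi j β, rep M.toCoxeterSystem hp.isCartan w⁻¹ b ∈ Pi j β := by
  have hfin := finite_Pi (j := j) (β := β)
  have : Finite ↥(Pi j β) := hfin
  let f : ↥(Pi j β) → ↥(Pi j β) := fun b => ⟨rep M.toCoxeterSystem hp.isCartan w b.1, hwP b.1 b.2⟩
  have hinj : Function.Injective f := by
    intro a b hab
    have h1 : rep M.toCoxeterSystem hp.isCartan w a.1 = rep M.toCoxeterSystem hp.isCartan w b.1 :=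
      congrArg Subtype.val hab
    have h2 := congrArg (rep M.toCoxeterSystem hp.isCartan w⁻¹) h1
    rw [rep_inv_apply, rep_inv_apply] at h2
    exact Subtype.ext h2
  intro b hb
  obtain ⟨⟨a, ha⟩, hab⟩ := Finite.surjective_of_injective hinj ⟨b, hb⟩
  have h1 : rep M.toCoxeterSystem hp.isCartan w a = b := congrArg Subtype.val hab
  rw [← h1, rep_inv_apply]
  exact ha

theorem perm_Ls (Dt : Dat M.toCoxeterSystem hp.isCartan j m β) {w : M.Group}
    (hwP : ∀ b ∈ Pi j β, rep M.toCoxeterSystem hp.isCartan w b ∈ Pi j β) :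
    ((Ls j β).map (rep M.toCoxeterSystem hp.isCartan w)).Perm (Ls j β) := by
  refine (List.perm_ext_iff_of_nodup (List.Nodup.map ?_ (nodup_Ls hp Dt)) (nodup_Ls hp Dt)).2 fun b => ?_
  · intro a b hab
    have h2 := congrArg (rep M.toCoxeterSystem hp.isCartan w⁻¹) hab
    rwa [rep_inv_apply, rep_inv_apply] at h2
  · rw [List.mem_map, mem_Ls]
    constructor
    · rintro ⟨a, ha, rfl⟩
      exact hwP a (mem_Ls.1 ha)
    · intro hb
      exact ⟨_, mem_Ls.2 (inv_Pi hp hwP b hb), rep_apply_inv _ _ _ _⟩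

/-! ### the fixed points of the Frobenius -/

section Fix

variable {F : Type u} [Field F] [Fintype F] (f : F →+* k)

theorem pow_mem_range [IsAlgClosed k] (hq : Fintype.card F = r ^ e) {d : ℕ} {B : Fin l → Fin l → ℤ}
    (hB : InvC D l d B) (hd : d ≠ 0) {g : ↥(D.group k)} (hg : phi D k r e g = g) :
    g ^ d ∈ (emb hp.inList f).range := by
  obtain ⟨x, t, ht, rfl⟩ := fix_split hp f hq hg
  rw [map_mul, phi_emb hp f hq] at hg
  have hf : phi D k r e t = t := mul_left_cancel hg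
  have hconj : ∀ i : ℕ, ∀ y ∈ (emb hp.inList f).range, t ^ i * y * (t ^ i)⁻¹ ∈ (emb hp.inList f).range := by
    intro i y hy
    refine Emb.conj_mem_range hp.inList (f := f) (φ := iterateFrobenius k r e) (fun t => ?_)
      (σ := fun y => phi D k r e y) (fun y => coe_phi y) ?_ hy
    · rw [iterateFrobenius_def, hq]
    · show phi D k r e (t ^ i) = t ^ i
      rw [map_pow, hf]
  have key : ∀ i : ℕ, ∃ y ∈ (emb hp.inList f).range, (emb hp.inList f x * t) ^ i = y * t ^ i := by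
    intro i
    induction i with
    | zero => exact ⟨1, one_mem _, by rw [pow_zero, pow_zero, one_mul]⟩
    | succ i ih =>
      obtain ⟨y, hy, h1⟩ := ih
      refine ⟨y * (t ^ i * emb hp.inList f x * (t ^ i)⁻¹), mul_mem hy (hconj i _ ⟨x, rfl⟩), ?_⟩
      rw [pow_succ, h1, pow_succ]
      group
  obtain ⟨y, hy, h1⟩ := key d
  rw [h1]
  exact mul_mem hy (fix_pow hp M.toCoxeterSystem f hq hB hd ht hf)

theorem mem_range [IsAlgClosed k] (hq : Fintype.card F = r ^ e) {d : ℕ} {B : Fin l → Fin l → ℤ}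
    (hB : InvC D l d B) (hd : d ≠ 0) {N : ℕ} (hdF : (∀ a : F, ∃ b : F, b ^ d = a) ∨ d.Coprime N)
    {g : ↥(D.group k)} (hg : phi D k r e g = g) (hgN : g ^ N = 1) : g ∈ (emb hp.inList f).range := by
  rcases hdF with hF | hc
  · exact fix_range hp M.toCoxeterSystem f hq hB hd hF hg
  · have h1 := pow_mem_range hp f hq hB hd hg
    have hco : IsCoprime (d : ℤ) (N : ℤ) := Nat.isCoprime_iff_coprime.2 hc
    obtain ⟨a, b, hab⟩ := hco
    have h2 : g = (g ^ d) ^ a * (g ^ N) ^ b := by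
      rw [← zpow_natCast, ← zpow_natCast, ← zpow_mul, ← zpow_mul, ← zpow_add]
      have e : (d : ℤ) * a + N * b = 1 := by rw [← hab]; ring
      rw [e, zpow_one]
    rw [h2, hgN, one_zpow, mul_one]
    exact zpow_mem h1 a

end Fix

/-! ### the frame automorphism -/

section Frame

variable [IsAlgClosed k] (hk : LocFin k)

/-- conjugation by a representative of `w`, composed with the Frobenius -/
theorem frame {w : M.Group} {n : ↥(D.group k)}
    (hn : Rp M.toCoxeterSystem (tow hp M.toCoxeterSystem hk r).nsys w n) :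
    Fr M.toCoxeterSystem hp.isCartan (TT D k) (XX D l k) (MulAut.conj n * phi D k r e)
      (repAut (h := hp.isCartan) M.toCoxeterSystem w) := by
  have h1 := Fr.conj (tow hp M.toCoxeterSystem hk r) hn
  rw [TL_eq hp hk, XL_eq hp hk] at h1
  exact h1.mul (fr_phi (p := r) (e := e) hp M.toCoxeterSystem)

include hk in
/-- **A regular unipotent element fixed by a frame automorphism.** -/
theorem exists_fixed {d : ℕ} {B : Fin l → Fin l → ℤ} (hB : InvC D l d B) (hd : d ≠ 0) (he : 0 < e)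
    (Dt : Dat M.toCoxeterSystem hp.isCartan j m β) {w : M.Group}
    (hw : ∀ x, (m : ℤ) ∣ rep M.toCoxeterSystem hp.isCartan w x j - ((r ^ e : ℕ) : ℤ) * x j)
    (hwP : ∀ b ∈ Pi j β, rep M.toCoxeterSystem hp.isCartan w b ∈ Pi j β) :
    ∃ n, Rp M.toCoxeterSystem (tow hp M.toCoxeterSystem hk r).nsys w n ∧
      ∃ y0 ∈ RGD.Sup (XX D l k) (Com (PP M.toCoxeterSystem hp.isCartan j m) (fj j β m) m),
        n * phi D k r e (y0 * ((Ls j β).map fun b => xc hp b (1 : k)).prod) * n⁻¹ =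
          y0 * ((Ls j β).map fun b => xc hp b (1 : k)).prod := by
  have H := tow hp M.toCoxeterSystem hk r
  have C := coordsL hp M.toCoxeterSystem hk r
  have Bs := Dt.bas
  obtain ⟨n0, hn0⟩ := exists_rp M.toCoxeterSystem (tow hp M.toCoxeterSystem hk r).nsys w
  have F1 := frame (e := e) hp hk hn0
  have hσ1 : IsFrob r e (MulAut.conj n0 * phi D k r e) := isFrob_phi.conj_mul n0
  have hx : ∀ b, b ∈ Pi j β → ∃ c : k, c ≠ 0 ∧ ∀ t : k, (MulAut.conj n0 * phi D k r e) (xc hp b t) =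
      xc hp (rep M.toCoxeterSystem hp.isCartan w b) (c * t ^ r ^ e) := fun b hb =>
    HX.fr_xc hp M.toCoxeterSystem hσ1 F1 (Dt.mem_PP hb).1
  choose! cf hcf using hx
  obtain ⟨τ, hτ, hτX⟩ := exists_TT_Pi hp hB hd Dt
    (fun b => (cf (rep M.toCoxeterSystem hp.isCartan w⁻¹ b))⁻¹)
    (fun b hb => inv_ne_zero (hcf _ (inv_Pi hp hwP b hb)).1)
  have hn : Rp M.toCoxeterSystem (tow hp M.toCoxeterSystem hk r).nsys w (τ * n0) := by
    have h1 := (rp_of_mem (cs := M.toCoxeterSystem) (hN := (tow hp M.toCoxeterSystem hk r).nsys) (t := τ)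
      (by rw [TL_eq hp hk]; exact hτ)).mul hn0
    rwa [one_mul] at h1
  refine ⟨τ * n0, hn, ?_⟩
  have F := frame (e := e) hp hk hn
  have hσ : IsFrob r e (MulAut.conj (τ * n0) * phi D k r e) := isFrob_phi.conj_mul _
  obtain ⟨σ, hσdef⟩ : ∃ σ, σ = MulAut.conj (τ * n0) * phi D k r e := ⟨_, rfl⟩
  rw [← hσdef] at F hσ
  have hσa : ∀ y, σ y = τ * n0 * phi D k r e y * (τ * n0)⁻¹ := fun y => by rw [hσdef]; rfl
  -- the action on the simple root elements
  have hxc : ∀ b ∈ Pi j β, σ (xc hp b (1 : k)) = xc hp (rep M.toCoxeterSystem hp.isCartan w b) (1 : k) := by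
    intro b hb
    have h1 := (hcf b hb).2 1
    have h2 : n0 * phi D k r e (xc hp b (1 : k)) * n0⁻¹ =
        xc hp (rep M.toCoxeterSystem hp.isCartan w b) (cf b * 1 ^ r ^ e) := h1
    rw [one_pow, mul_one] at h2
    have h3 : σ (xc hp b (1 : k)) = τ * (n0 * phi D k r e (xc hp b (1 : k)) * n0⁻¹) * τ⁻¹ := by
      rw [hσa]; group
    have hwb := hwP b hb
    rw [h3, h2, (C.coord _ (Dt.mem_PP hwb).1).act τ hτ, ← cX_root hp M.toCoxeterSystem hτ (Dt.mem_PP hwb).1,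
      hτX _ hwb, rep_inv_apply, inv_mul_cancel₀ (hcf b hb).1]
  obtain ⟨v0, hv0⟩ : ∃ v0, v0 = ((Ls j β).map fun b => xc hp b (1 : k)).prod := ⟨_, rfl⟩
  have hσv : σ v0 = (((Ls j β).map (rep M.toCoxeterSystem hp.isCartan w)).map fun b => xc hp b (1 : k)).prod := by
    rw [hv0, map_list_prod, List.map_map, List.map_map]
    congr 1
    exact List.map_congr_left fun b hb => hxc b (mem_Ls.1 hb)
  obtain ⟨E⟩ := nonempty_lev hk
  have hcom : σ v0 * v0⁻¹ ∈ RGD.Sup (XX D l k) (Com (PP M.toCoxeterSystem hp.isCartan j m) (fj j β m) m) := by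
    rw [hσv, hv0]
    have h1 := Bs.prod_perm (H.rgd E) (commZ hp E) (y := fun b => xc hp b (1 : k)) (perm_Ls hp Dt hwP)
      (fun b hb => by
        obtain ⟨a, ha, rfl⟩ := List.mem_map.1 hb
        have h2 := hwP a (mem_Ls.1 ha)
        exact ⟨Dt.mem_PP h2, xc_mem_Xj hp E (Dt.mem_PP h2).1⟩)
    rw [← XL_eq hp hk]
    exact Sup_le_SupL E _ h1
  have hwpos : ∀ b ∈ Pi j β, 0 ≤ rep M.toCoxeterSystem hp.isCartan w b := fun b hb => (Dt.mem_PP (hwP b hb)).2.1
  obtain ⟨y, hy, hyv⟩ := lang_fr hp M.toCoxeterSystem he hσ F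
    (S := Com (PP M.toCoxeterSystem hp.isCartan j m) (fj j β m) m) (fun a ha => ha.1.1)
    (fun a ha => by
      rw [repAut_apply]
      refine ⟨Dt.map_PP hw hwpos ha.1, ?_⟩
      have h1 := Dt.eq_of_Pi (f := fj j β m)
        (g := (fj j β m).comp (rep M.toCoxeterSystem hp.isCartan w).toAddMonoidHom)
        (fun b hb => by
          rw [Dt.fj_Pi hb]
          exact (Dt.fj_Pi (hwP b hb)).symm) a
      have h2 : fj j β m (rep M.toCoxeterSystem hp.isCartan w a) = fj j β m a := h1.symm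
      rw [h2]
      exact ha.2) (inv_mem hcom)
  refine ⟨y, hy, ?_⟩
  rw [← hv0, ← hσa, map_mul]
  have h1 : σ y = y * (σ v0 * v0⁻¹)⁻¹ := by rw [hyv]; group
  rw [h1]
  group

end Frame

/-! ### the main theorem -/

/-- abstract form: `x_1` and `x_s` are not both real -/
theorem not_both_real {G0 Y : Type*} [Group G0] [Group Y] {e0 : G0 →* Y} {φ : MulAut Y} (hfix : ∀ x, φ (e0 x) = e0 x)
    {n s u0 : Y} (hsu : s * u0 = u0 * s) {K : ℕ} (hK : (s * u0) ^ K = s)
    (hcent : ∀ c : Y, c * s = s * c → c * u0 = u0 * c → n * φ c * n⁻¹ ≠ c * (s * s))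
    (hex : ∀ a : Y, a * (s * u0) = (s * u0) * a →
      ∃ h : Y, h⁻¹ * φ h = a * n ∧ h * (s * u0) * h⁻¹ ∈ e0.range) : NRel G0 := by
  by_contra hcon
  have hreal : ∀ g : G0, ∃ c, c * g * c⁻¹ = g⁻¹ := by
    intro g
    by_contra h1
    exact hcon ⟨g, fun h2 => h1 (isConj_iff.1 h2)⟩
  obtain ⟨x0, hx⟩ : ∃ x0, x0 = s * u0 := ⟨_, rfl⟩
  rw [← hx] at hK hex
  have hs0 : s * x0 = x0 * s := by rw [hx, mul_assoc, ← hsu]
  have key : ∀ a : Y, a * x0 = x0 * a → ∃ r : Y, r * x0 * r⁻¹ = x0⁻¹ ∧ n * φ r * n⁻¹ = a⁻¹ * r * a := by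
    intro a ha
    obtain ⟨h, h1, g, hg⟩ := hex a ha
    obtain ⟨c, hc⟩ := hreal g
    have h2 : e0 c * (h * x0 * h⁻¹) * (e0 c)⁻¹ = (h * x0 * h⁻¹)⁻¹ := by
      rw [← hg, ← map_inv, ← map_mul, ← map_mul, hc, map_inv]
    refine ⟨h⁻¹ * e0 c * h, ?_, ?_⟩
    · calc h⁻¹ * e0 c * h * x0 * (h⁻¹ * e0 c * h)⁻¹ = h⁻¹ * (e0 c * (h * x0 * h⁻¹) * (e0 c)⁻¹) * h := by group
        _ = h⁻¹ * (h * x0 * h⁻¹)⁻¹ * h := by rw [h2]
        _ = x0⁻¹ := by group
    · have h3 : φ h = h * (a * n) := by rw [← h1]; group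
      rw [map_mul, map_mul, map_inv, hfix, h3]
      group
  obtain ⟨r1, h1, h2⟩ := key 1 (by rw [one_mul, mul_one])
  obtain ⟨r2, h3, h4⟩ := key s hs0
  rw [inv_one, one_mul, mul_one] at h2
  have hr1 : r1 * x0 = x0⁻¹ * r1 := mul_inv_eq_iff_eq_mul.1 h1
  have hr2 : r2 * x0 = x0⁻¹ * r2 := mul_inv_eq_iff_eq_mul.1 h3
  have hc0 : (r1⁻¹ * r2) * x0 = x0 * (r1⁻¹ * r2) := by
    have h5 : x0 * r1⁻¹ = r1⁻¹ * x0⁻¹ := by
      calc x0 * r1⁻¹ = r1⁻¹ * (r1 * x0) * r1⁻¹ := by group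
        _ = r1⁻¹ * (x0⁻¹ * r1) * r1⁻¹ := by rw [hr1]
        _ = _ := by group
    calc (r1⁻¹ * r2) * x0 = r1⁻¹ * (r2 * x0) := by group
      _ = r1⁻¹ * x0⁻¹ * r2 := by rw [hr2]; group
      _ = x0 * (r1⁻¹ * r2) := by rw [← h5]; group
  have hcs : (r1⁻¹ * r2) * s = s * (r1⁻¹ * r2) := by
    have h5 : Commute (r1⁻¹ * r2) x0 := hc0
    have h6 := h5.pow_right K
    rw [hK] at h6
    exact h6
  have hcu : (r1⁻¹ * r2) * u0 = u0 * (r1⁻¹ * r2) := by
    have h5 : Commute (r1⁻¹ * r2) x0 := hc0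
    have h6 : Commute (r1⁻¹ * r2) s := hcs
    have h7 := h6.inv_right.mul_right h5
    rw [hx, inv_mul_cancel_left] at h7
    exact h7
  refine hcent (r1⁻¹ * r2) hcs hcu ?_
  have hr2s : r2 * s * r2⁻¹ = s⁻¹ := by
    conv_lhs => rw [← hK]
    rw [← conj_pow, h3, inv_pow, hK]
  have h5 : s⁻¹ * r2 * s = r2 * (s * s) := by
    have h6 : s⁻¹ * r2 = r2 * s := by rw [← hr2s]; group
    rw [h6]; group
  calc n * φ (r1⁻¹ * r2) * n⁻¹ = (n * φ r1 * n⁻¹)⁻¹ * (n * φ r2 * n⁻¹) := by rw [map_mul, map_inv]; group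
    _ = r1⁻¹ * (s⁻¹ * r2 * s) := by rw [h2, h4]
    _ = r1⁻¹ * r2 * (s * s) := by rw [h5]; group

/-- **Non-real elements.** -/
theorem nrel {F : Type u} [Field F] [Finite F] {d : ℕ} {B : Fin l → Fin l → ℤ} (hB : InvC D l d B) (hd : d ≠ 0)
    (Dt : Dat M.toCoxeterSystem hp.isCartan j m β)
    (hstab : ∀ v : M.Group, (∀ x, (m : ℤ) ∣ rep M.toCoxeterSystem hp.isCartan v x j - x j) →
      (∀ b ∈ Pi j β, rep M.toCoxeterSystem hp.isCartan v b ∈ Pi j β) → v = 1)
    (w : M.Group) (hw : ∀ x, (m : ℤ) ∣ rep M.toCoxeterSystem hp.isCartan w x j - (Nat.card F : ℤ) * x j)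
    (hwP : ∀ b ∈ Pi j β, rep M.toCoxeterSystem hp.isCartan w b ∈ Pi j β) (hm : m.Coprime (Nat.card F))
    (hdF : (∀ a : F, ∃ b : F, b ^ d = a) ∨ d.Coprime (m * Nat.card F)) : NRel ↥(D.group F) := by
  have : Fintype F := Fintype.ofFinite F
  rw [Nat.card_eq_fintype_card] at hw hm hdF
  obtain ⟨r, e, hr, hrF, hrk, he, hq, hk⟩ := _root_.Cfsg.Agent.H129.TorusUntw.exists_closure (F := F) rfl
  have hWf := finite_W hp M.toCoxeterSystem
  have hrp : r.Prime := hr.out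
  have hm1 : 1 < m := by have := Dt.m2; omega
  have hmr : m.Coprime r := by
    rw [hq] at hm
    exact Nat.Coprime.coprime_dvd_right (dvd_pow_self r he.ne') hm
  rw [hq] at hw
  let k := AlgebraicClosure F
  have hmk : (m : k) ≠ 0 := by
    intro h0
    have h1 := (CharP.cast_eq_zero_iff k r m).1 h0
    have h2 := Nat.dvd_gcd h1 (dvd_refl r)
    rw [hmr] at h2
    exact hrp.one_lt.ne' (Nat.dvd_one.1 h2)
  have : NeZero (m : k) := ⟨hmk⟩
  obtain ⟨ζ, hζ⟩ := HasEnoughRootsOfUnity.exists_primitiveRoot k m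
  have H := tow (k := k) hp M.toCoxeterSystem hk r
  have C := coordsL (k := k) hp M.toCoxeterSystem hk r
  have hζ0 : ζ ≠ 0 := hζ.ne_zero (by omega)
  -- the element `s`
  obtain ⟨s, hs, hsx'⟩ := exists_cX (k := k) hp hB hd
    (IsMC.of_prod (fun i => if i = j then ζ else 1) (fun i => by
      by_cases hi : i = j
      · rw [if_pos hi]; exact hζ0
      · rw [if_neg hi]; exact one_ne_zero))
    (fun i => IsAlgClosed.exists_pow_nat_eq _ (Nat.pos_of_ne_zero hd))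
  have hsx : ∀ x, cX hp s x = ζ ^ x j := by
    intro x
    rw [hsx', Finset.prod_eq_single j]
    · rw [if_pos rfl]
    · intro i _ hi
      rw [if_neg hi, one_zpow]
    · intro h; exact absurd (Finset.mem_univ j) h
  have hsPi : ∀ b ∈ Pi j β, cX hp s b = 1 := by
    intro b hb
    rw [hsx, hζ.zpow_eq_one_iff_dvd]
    exact (Dt.mem_PP hb).2.2
  have hsm : s ^ m = 1 := by
    refine cX_inj hp (pow_mem hs m) (one_mem _) fun i => ?_
    rw [cX_pow hp hs, cX_one, hsx, ← zpow_natCast, zpow_comm, zpow_natCast, hζ.pow_eq_one, one_zpow]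
  obtain ⟨n, hn, y0, hy0, hfix⟩ := exists_fixed (k := k) hp hk hB hd he Dt hw hwP
  obtain ⟨u0, hu0⟩ : ∃ u0, u0 = y0 * ((Ls j β).map fun b => xc hp b (1 : k)).prod := ⟨_, rfl⟩
  rw [← hu0] at hfix
  have Fr0 := frame (e := e) hp hk hn
  have hσ0 : IsFrob r e (MulAut.conj n * phi D k r e) := isFrob_phi.conj_mul _
  obtain ⟨σ, hσdef⟩ : ∃ σ, σ = MulAut.conj n * phi D k r e := ⟨_, rfl⟩
  rw [← hσdef] at Fr0 hσ0
  have hσa : ∀ y, σ y = n * phi D k r e y * n⁻¹ := fun y => by rw [hσdef]; rfl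
  have hσs : σ s = s := fixT hp Dt hσ0 Fr0 hw hs hsPi
  have hσu : σ u0 = u0 := by rw [hσa]; exact hfix
  -- `u0 ∈ U_Ψ`
  have hXc : ∀ b ∈ Pi j β, xc hp b (1 : k) ∈ XX D l k b := by
    intro b hb
    obtain ⟨a, ha, hab⟩ := (isRoot_iff hp M.toCoxeterSystem b).1 (Dt.mem_PP hb).1
    rw [← hab]
    exact (HX.mem_XX_xc hp ha).2 ⟨1, rfl⟩
  have huP : u0 ∈ RGD.Sup (XX D l k) (PP M.toCoxeterSystem hp.isCartan j m) := by
    rw [hu0]
    refine (mul_mem (RGD.Sup_mono (S := Com (PP M.toCoxeterSystem hp.isCartan j m) (fj j β m) m)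
      (S' := PP M.toCoxeterSystem hp.isCartan j m) (fun a ha => ha.1) hy0) (list_prod_mem ?_) :)
    intro y hy
    obtain ⟨b, hb, rfl⟩ := List.mem_map.1 hy
    exact RGD.le_Sup (Dt.mem_PP (mem_Ls.1 hb)) (hXc b (mem_Ls.1 hb))
  have hUc : RGD.Sup (XX D l k) (PP M.toCoxeterSystem hp.isCartan j m) ≤ Subgroup.centralizer {s} := by
    refine RGD.Sup_le fun a ha => X_le_centralizer C hs ⟨ha.1, ?_⟩
    rw [← cX_root hp M.toCoxeterSystem hs ha.1, hsx, hζ.zpow_eq_one_iff_dvd]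
    exact ha.2.2
  have hsu : s * u0 = u0 * s := (Subgroup.mem_centralizer_singleton_iff.1 (hUc huP)).symm
  -- the order of `u0`
  obtain ⟨N, hN⟩ : ∃ N : ℕ, u0 ^ r ^ N = 1 := by
    obtain ⟨E, hE⟩ := H.mem_Sup (y := u0) (S := PP M.toCoxeterSystem hp.isCartan j m) |>.1
      (by rw [XL_eq hp hk]; exact huP)
    have h1 := (H.rgd E).isPGroup_of_pos (S := PP M.toCoxeterSystem hp.isCartan j m) (fun a ha => ⟨ha.1, ha.2.1⟩)
    obtain ⟨N, hN⟩ := h1 ⟨u0, hE⟩
    exact ⟨N, congrArg Subtype.val hN⟩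
  have hcop : (r ^ N).Coprime m := (hmr.symm).pow_left N
  obtain ⟨t', ht'⟩ := Nat.exists_mul_mod_eq_one_of_coprime hcop hm1
  have hcsu : Commute s u0 := hsu
  have hK : (s * u0) ^ (r ^ N * t') = s := by
    rw [hcsu.mul_pow, pow_mul u0, hN, one_pow, mul_one]
    have h1 : s ^ (r ^ N * t') = s ^ (r ^ N * t' % m) := by
      conv_lhs => rw [← Nat.mod_add_div (r ^ N * t') m, pow_add, pow_mul, hsm, one_pow, mul_one]
    rw [h1, ht'.2, pow_one]
  refine not_both_real (e0 := emb hp.inList (algebraMap F k)) (φ := phi D k r e) (n := n) (s := s) (u0 := u0)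
    (phi_emb hp _ hq) hsu hK ?_ ?_
  · intro c hc1 hc2 hc3
    rw [← hσa] at hc3
    obtain ⟨u, hu, t, ht, htb, rfl⟩ := cent hp hk r Dt hstab hs hζ hsx hy0 (L := Ls j β) (fun b => mem_Ls)
      (nodup_Ls hp Dt) hc1 (by rw [← hu0]; exact hc2)
    have hσt : σ t = t := fixT hp Dt hσ0 Fr0 hw ht htb
    rw [map_mul, hσt] at hc3
    have hcomm := TT_comm hp (K := k)
    have h1 : u⁻¹ * σ u = s * s := by
      have h2 : t * (s * s) * t⁻¹ = s * s := by
        rw [hcomm t ht _ (mul_mem hs hs)]; group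
      calc u⁻¹ * σ u = u⁻¹ * (σ u * t) * t⁻¹ := by group
        _ = t * (s * s) * t⁻¹ := by rw [hc3]; group
        _ = s * s := h2
    have hwpos : ∀ b ∈ Pi j β, 0 ≤ rep M.toCoxeterSystem hp.isCartan w b := fun b hb => (Dt.mem_PP (hwP b hb)).2.1
    have hσU : σ u ∈ RGD.Sup (XX D l k) (PP M.toCoxeterSystem hp.isCartan j m) := by
      have h2 : RGD.Sup (XX D l k) (PP M.toCoxeterSystem hp.isCartan j m) ≤
          (RGD.Sup (XX D l k) (PP M.toCoxeterSystem hp.isCartan j m)).comap σ.toMonoidHom := by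
        refine RGD.Sup_le fun a ha y hy => ?_
        have h3 := (Fr0.map a ha.1 y).2 hy
        rw [repAut_apply] at h3
        exact RGD.le_Sup (Dt.map_PP hw hwpos ha) h3
      exact h2 hu
    have h2 : s * s ∈ RGD.Sup (XX D l k) (PP M.toCoxeterSystem hp.isCartan j m) := by
      rw [← h1]; exact mul_mem (inv_mem hu) hσU
    have h3 : s * s = 1 := by
      obtain ⟨E1, h4⟩ := H.mem_Sup (y := s * s) (S := PP M.toCoxeterSystem hp.isCartan j m) |>.1
        (by rw [XL_eq hp hk]; exact h2)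
      obtain ⟨E2, h5⟩ := H.mem_TL (y := s * s).1 (by rw [TL_eq hp hk]; exact mul_mem hs hs)
      obtain ⟨E, a1, a2⟩ := H.dir E1 E2
      have h6 := H.mono_Sup _ a1 h4
      have h7 := H.monoT a2 h5
      have h8 := OppDec.U_inf_T (H.rgd E)
      have h9 : s * s ∈ RGD.Sup (Xj hp E) (RGD.Pos M.toCoxeterSystem hp.isCartan) ⊓ Tj hp E :=
        ⟨RGD.Sup_mono (S := PP M.toCoxeterSystem hp.isCartan j m) (S' := RGD.Pos M.toCoxeterSystem hp.isCartan)
          (fun a ha => ⟨ha.1, ha.2.1⟩) h6, h7⟩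
      rw [h8, Subgroup.mem_bot] at h9
      exact h9
    have h4 := cX_pow hp hs 2 (sr j)
    rw [pow_two, h3, cX_one, hsx, sr_self, zpow_one] at h4
    have h5 := (hζ.pow_eq_one_iff_dvd 2).1 h4.symm
    have h6 := Nat.le_of_dvd (by norm_num) h5
    have := Dt.m2
    omega
  · intro a ha
    obtain ⟨h, hh⟩ := lang_all hp M.toCoxeterSystem he (isFrob_phi (D := D) (k := k) (p := r) (e := e))
      (fr_phi hp M.toCoxeterSystem) 1 (a * n)
    rw [map_one, one_mul] at hh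
    refine ⟨h, hh.symm, ?_⟩
    have h1 : phi D k r e h = h * (a * n) := by rw [hh]; group
    have h2 : phi D k r e (s * u0) = n⁻¹ * (s * u0) * n := by
      have h3 : n * phi D k r e (s * u0) * n⁻¹ = s * u0 := by rw [← hσa, map_mul, hσs, hσu]
      calc phi D k r e (s * u0) = n⁻¹ * (n * phi D k r e (s * u0) * n⁻¹) * n := by group
        _ = _ := by rw [h3]
    refine mem_range hp (algebraMap F k) hq hB hd (N := m * r ^ N) ?_ ?_ ?_
    · refine hdF.imp id fun h3 => ?_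
      have h4 : d.Coprime m := Nat.Coprime.coprime_dvd_right (Dvd.intro _ rfl) h3
      have h5 : d.Coprime (r ^ e) := by
        rw [← hq]
        exact Nat.Coprime.coprime_dvd_right (Dvd.intro_left _ rfl) h3
      have h6 : d.Coprime r := Nat.Coprime.coprime_dvd_right (dvd_pow_self r he.ne') h5
      exact Nat.Coprime.mul_right h4 (h6.pow_right N)
    · rw [map_mul, map_mul, map_inv, h1, h2]
      calc h * (a * n) * (n⁻¹ * (s * u0) * n) * (h * (a * n))⁻¹ = h * (a * (s * u0)) * a⁻¹ * h⁻¹ := by group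
        _ = h * ((s * u0) * a) * a⁻¹ * h⁻¹ := by rw [ha]
        _ = _ := by group
    · rw [conj_pow, hcsu.mul_pow, pow_mul, hsm, one_pow, one_mul, mul_comm m, pow_mul, hN, one_pow, mul_one,
        mul_inv_cancel]

end Cfsg.Agent.H374.SR
end

-- part: H196/SRX/Final
section
/-!
# TEAM SR (S4971): non-real elements in `G2(q)`, `F4(q)`, `E7(q)`, `E8(q)` (helper196, from helper374's theorem)

* `nrel_g2` (`3 ∤ q`), `nrel_f4`, `nrel_e8` (all `q`), `nrel_e7` (`3 ∤ q`).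
-/

set_option autoImplicit false

namespace Cfsg.Agent.H196.SRX

open CoxeterSystem Cfsg Cfsg.Lie Cfsg.Agent.Nodes.RGDChev Cfsg.Agent.ChevalleyStructure
  Cfsg.Agent.ChevalleyStructure.CoxeterGeom Cfsg.Agent.ChevalleyStructure.CoxeterGeomTypes
  Cfsg.Agent.Tits.Roots Cfsg.Agent.Tits.Core Cfsg.Agent.H374.SR Cfsg.Agent.H721.SR Cfsg.Agent.H129.TorusChar

universe u

/-- the general theorem for `q ≡ ±1` modulo `m`, if `-1` is in the Weyl group -/
theorem nrel_pm {D : ChevalleyDatum} {l : ℕ} {M : CoxeterMatrix (Fin l)} (hp : IsType D l M) {F : Type u} [Field F]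
    [Finite F] {d : ℕ} {B : Fin l → Fin l → ℤ} (hB : InvC D l d B) (hd : d ≠ 0) {m : ℕ} {j : Fin l}
    {β : Fin l → ℤ} (Dt : Dat M.toCoxeterSystem hp.isCartan j m β)
    (hstab : ∀ v : M.Group, (∀ x, (m : ℤ) ∣ rep M.toCoxeterSystem hp.isCartan v x j - x j) →
      (∀ b ∈ Pi j β, rep M.toCoxeterSystem hp.isCartan v b ∈ Pi j β) → v = 1)
    (hw : ∃ w, (∀ x, (m : ℤ) ∣ rep M.toCoxeterSystem hp.isCartan w x j + x j) ∧
      ∀ b ∈ Pi j β, rep M.toCoxeterSystem hp.isCartan w b ∈ Pi j β)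
    (hm : m.Coprime (Nat.card F)) (hF : Nat.card F % m = 1 ∨ Nat.card F % m = m - 1)
    (hdF : (∀ a : F, ∃ b : F, b ^ d = a) ∨ d.Coprime (m * Nat.card F)) : NRel ↥(D.group F) := by
  have hm0 : 2 < m := Dt.m2
  rcases hF with hF | hF
  · refine nrel hp hB hd Dt hstab 1 (fun x => ?_) (fun b hb => ?_) hm hdF
    · rw [map_one, Module.End.one_apply]
      have h0 : Nat.card F = m * (Nat.card F / m) + 1 := by
        conv_lhs => rw [← Nat.div_add_mod (Nat.card F) m, hF]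
      have h1 : (m : ℤ) ∣ (Nat.card F : ℤ) - 1 := ⟨((Nat.card F / m : ℕ) : ℤ), by
        have h2 := congrArg (fun z : ℕ => (z : ℤ)) h0
        simp only [Nat.cast_add, Nat.cast_mul, Nat.cast_one] at h2
        linarith only [h2]⟩
      have h2 : x j - (Nat.card F : ℤ) * x j = -(((Nat.card F : ℤ) - 1) * x j) := by ring
      rw [h2]
      exact (Dvd.dvd.mul_right h1 _).neg_right
    · rw [map_one, Module.End.one_apply]
      exact hb
  · obtain ⟨w, hw, hwP⟩ := hw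
    refine nrel hp hB hd Dt hstab w (fun x => ?_) hwP hm hdF
    have h0 : Nat.card F + 1 = m * (Nat.card F / m) + m := by
      have h3 := Nat.div_add_mod (Nat.card F) m
      rw [hF] at h3
      omega
    have h1 : (m : ℤ) ∣ (Nat.card F : ℤ) + 1 := ⟨((Nat.card F / m : ℕ) : ℤ) + 1, by
      have h2 := congrArg (fun z : ℕ => (z : ℤ)) h0
      simp only [Nat.cast_add, Nat.cast_mul, Nat.cast_one] at h2
      linarith only [h2]⟩
    have h2 : rep M.toCoxeterSystem hp.isCartan w x j - (Nat.card F : ℤ) * x j =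
        (rep M.toCoxeterSystem hp.isCartan w x j + x j) - ((Nat.card F : ℤ) + 1) * x j := by ring
    rw [h2]
    exact dvd_sub (hw x) (Dvd.dvd.mul_right h1 _)

theorem mod_three {q : ℕ} (h : ¬ 3 ∣ q) : q % 3 = 1 ∨ q % 3 = 3 - 1 := by omega

theorem coprime_three {q : ℕ} (h : ¬ 3 ∣ q) : Nat.Coprime 3 q := (Nat.Prime.coprime_iff_not_dvd Nat.prime_three).2 h

/-- a finite field whose order is divisible by 3 has odd order -/
theorem card_mod_four {F : Type u} [Field F] [Finite F] (h : 3 ∣ Nat.card F) :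
    Nat.card F % 4 = 1 ∨ Nat.card F % 4 = 4 - 1 := by
  have := Fintype.ofFinite F
  obtain ⟨p, hpc⟩ := CharP.exists F
  have hp : Fact p.Prime := ⟨CharP.char_is_prime F p⟩
  obtain ⟨n, -, h2⟩ := FiniteField.card F p
  rw [← Nat.card_eq_fintype_card] at h2
  have h3 : p = 3 := by
    rw [h2] at h
    exact ((Nat.prime_dvd_prime_iff_eq Nat.prime_three hp.out).1 (Nat.prime_three.dvd_of_dvd_pow h)).symm
  have h4 : Odd (Nat.card F) := by
    rw [h2, h3]
    exact Odd.pow (by decide)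
  obtain ⟨k, hk⟩ := h4
  (clear * - hk; omega)

theorem coprime_four {q : ℕ} (h : q % 4 = 1 ∨ q % 4 = 4 - 1) : Nat.Coprime 4 q := by
  have h1 : Nat.Coprime 2 q := by
    rw [Nat.Prime.coprime_iff_not_dvd Nat.prime_two]
    omega
  exact Nat.Coprime.pow_left 2 h1

theorem nrel_f4 {F : Type u} [Field F] [Finite F] : NRel ↥(chevF4.group F) := by
  by_cases h3 : 3 ∣ Nat.card F
  · exact nrel_pm isType_F4 invC_F4 one_ne_zero dat_F4_4 hstab_F4_4 w_F4_4 (coprime_four (card_mod_four h3))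
      (card_mod_four h3) (Or.inr (Nat.coprime_one_left _))
  · exact nrel_pm isType_F4 invC_F4 one_ne_zero dat_F4_3 hstab_F4_3 w_F4_3 (coprime_three h3) (mod_three h3)
      (Or.inr (Nat.coprime_one_left _))

theorem nrel_e8 {F : Type u} [Field F] [Finite F] : NRel ↥(chevE8.group F) := by
  by_cases h3 : 3 ∣ Nat.card F
  · exact nrel_pm isType_E8 invC_E8 one_ne_zero dat_E8_4 hstab_E8_4 w_E8_4 (coprime_four (card_mod_four h3))
      (card_mod_four h3) (Or.inr (Nat.coprime_one_left _))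
  · exact nrel_pm isType_E8 invC_E8 one_ne_zero dat_E8_3 hstab_E8_3 w_E8_3 (coprime_three h3) (mod_three h3)
      (Or.inr (Nat.coprime_one_left _))

theorem nrel_e7 {F : Type u} [Field F] [Finite F] (h3 : ¬ 3 ∣ Nat.card F) : NRel ↥(chevE7.group F) := by
  refine nrel_pm isType_E7 invC_E7 two_ne_zero dat_E7_3 hstab_E7_3 w_E7_3 (coprime_three h3) (mod_three h3) ?_
  have := Fintype.ofFinite F
  obtain ⟨p, hpc⟩ := CharP.exists F
  have hp : Fact p.Prime := ⟨CharP.char_is_prime F p⟩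
  obtain ⟨n, -, h2⟩ := FiniteField.card F p
  rw [← Nat.card_eq_fintype_card] at h2
  by_cases hp2 : p = 2
  · left
    subst hp2
    intro a
    obtain ⟨b, hb⟩ := Finite.injective_iff_surjective.1 (frobenius_inj F 2) a
    exact ⟨b, by rw [← hb, frobenius_def]⟩
  · right
    have h4 : Odd (Nat.card F) := by
      rw [h2]
      exact (hp.out.odd_of_ne_two hp2).pow
    have h5 : Odd (3 * Nat.card F) := (by decide : Odd 3).mul h4
    exact (Nat.coprime_two_left).2 h5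

end Cfsg.Agent.H196.SRX
end

-- part: H315/SR/GX
section
/-!
# The Bruhat lemma for `s u` (helper315, for S4971, TEAM SR)

`R : RGD cs h p T n X` a finite root group datum, `S` a closed set of positive roots.

* `Cmp S a x g` : the `a`-component of `g ∈ Sup X S` is `x ∈ X a` (`a` indecomposable in `S`), with `exists`, `unique`,
  `mul`, `inv`, `conj`;
* `bruhat_form` : `c s = t c`, `s, t ∈ T`, `c u = u' c`, `u, u' ∈ Sup X S` where `Sup X S` contains `C_U(s)` and `C_U(t)`: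
  `c = u1 k u2`, `k` over `w`, `k s = t k`, `w a ≥ 0` for every indecomposable `a` with non-trivial component in `u`, and
  `k x k⁻¹ = x'` for the `a`-component `x` of `u` and the `w a`-component `x'` of `u'` if `w S = S`.
-/

set_option autoImplicit false
set_option linter.unusedSectionVars false

namespace Cfsg.Agent.H315.SR

open CoxeterSystem Cfsg.Agent.ChevalleyStructure.CoxeterGeom Cfsg.Agent.Tits.Roots Cfsg.Agent.Tits.Core
  Cfsg.Agent.Tits.RootComb Cfsg.Agent.Tits.Exchange Cfsg.Agent.Nodes.Reps Cfsg.Agent.Nodes.BNOf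
  Cfsg.Agent.Nodes.StabComb Cfsg.Agent.Nodes.Bruhat Cfsg.Agent.Nodes.OppDec Cfsg.Agent.Nodes.LeviDec
  Cfsg.Agent.Nodes.NormalForm Cfsg.Agent.BpExc.Tow Cfsg.Agent.Nodes.Unique

variable {I W Y : Type*} [Fintype I] [DecidableEq I] [Group W] [Group Y] {M : CoxeterMatrix I}
  {cs : CoxeterSystem M W} {A : I → I → ℤ} {h : IsCartan M A} {p : ℕ} {T : Subgroup Y} {n : I → Y}
  {X : (I → ℤ) → Subgroup Y}

/-- the `a`-component of `g` is `x` -/
def Cmp (X : (I → ℤ) → Subgroup Y) (S : Set (I → ℤ)) (a : I → ℤ) (x g : Y) : Prop :=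
  x ∈ X a ∧ x⁻¹ * g ∈ RGD.Sup X (S \ {a})

/-- a closed set of positive roots with an indecomposable element -/
structure Ind (cs : CoxeterSystem M W) (h : IsCartan M A) (S : Set (I → ℤ)) (a : I → ℤ) : Prop where
  pos : S ⊆ RGD.Pos cs h
  closed : Closed cs h S
  mem : a ∈ S
  ind : Closed cs h (S \ {a})

section

variable (R : RGD cs h p T n X) {S : Set (I → ℤ)} {a : I → ℤ} (hS : Ind cs h S a)

include R hS

theorem le_normalizer_diff : RGD.Sup X S ≤ Subgroup.normalizer (RGD.Sup X (S \ {a}) : Set Y) := by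
  refine RGD.Sup_le fun z hz => ?_
  by_cases hza : z = a
  · subst hza
    exact normalizer_peel R hS.pos hS.closed hS.mem
  · exact (RGD.le_Sup (S := S \ {a}) ⟨hz, hza⟩).trans Subgroup.le_normalizer

theorem Cmp.mem {x g : Y} (hx : Cmp X S a x g) : g ∈ RGD.Sup X S := by
  have h1 : g = x * (x⁻¹ * g) := by group
  rw [h1]
  exact mul_mem (RGD.le_Sup hS.mem hx.1) (RGD.Sup_mono Set.sdiff_subset hx.2)

theorem Cmp.exists {g : Y} (hg : g ∈ RGD.Sup X S) : ∃ x, Cmp X S a x g := by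
  obtain ⟨x, hx, b, hb, rfl⟩ := (mem_peel R hS.pos hS.closed hS.mem).1 hg
  exact ⟨x, hx, by rw [inv_mul_cancel_left]; exact hb⟩

theorem inf_diff [Finite W] {x : Y} (hx : x ∈ X a) (hx' : x ∈ RGD.Sup X (S \ {a})) : x = 1 := by
  have h1 := inf_eq R (S := {a}) (S' := S \ {a}) (Set.singleton_subset_iff.2 (hS.pos hS.mem))
    (Set.sdiff_subset.trans hS.pos) ?_ hS.ind
  · have h2 : x ∈ RGD.Sup X {a} ⊓ RGD.Sup X (S \ {a}) := ⟨RGD.le_Sup (S := {a}) rfl hx, hx'⟩
    rw [h1] at h2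
    have h3 : ({a} : Set (I → ℤ)) ∩ (S \ {a}) = ∅ := by
      ext z
      simp only [Set.mem_inter_iff, Set.mem_singleton_iff, Set.mem_sdiff, Set.mem_empty_iff_false, iff_false]
      rintro ⟨rfl, -, h⟩
      exact h rfl
    rw [h3, Sup_empty, Subgroup.mem_bot] at h2
    exact h2
  · rintro x rfl y hy z hz
    rw [Set.mem_singleton_iff] at hy
    subst hy
    exact btwn_self (hS.pos hS.mem).1 hz

theorem Cmp.unique [Finite W] {x x' g : Y} (h1 : Cmp X S a x g) (h2 : Cmp X S a x' g) : x = x' := by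
  have h3 : x'⁻¹ * x ∈ RGD.Sup X (S \ {a}) := by
    have : x'⁻¹ * x = (x'⁻¹ * g) * (x⁻¹ * g)⁻¹ := by group
    rw [this]
    exact mul_mem h2.2 (inv_mem h1.2)
  exact (inv_mul_eq_one.1 (inf_diff R hS (mul_mem (inv_mem h2.1) h1.1) h3)).symm

theorem Cmp.mul {x x' g g' : Y} (h1 : Cmp X S a x g) (h2 : Cmp X S a x' g') : Cmp X S a (x * x') (g * g') := by
  refine ⟨mul_mem h1.1 h2.1, ?_⟩
  have h3 : (x * x')⁻¹ * (g * g') = (x'⁻¹ * g') * (g'⁻¹ * (x⁻¹ * g) * g') := by group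
  rw [h3]
  refine mul_mem h2.2 ?_
  have h4 := le_normalizer_diff R hS (inv_mem (Cmp.mem R hS h2))
  have h5 := (Subgroup.mem_normalizer_iff.1 h4 (x⁻¹ * g)).1 h1.2
  rwa [inv_inv] at h5

theorem Cmp.inv {x g : Y} (h1 : Cmp X S a x g) : Cmp X S a x⁻¹ g⁻¹ := by
  refine ⟨inv_mem h1.1, ?_⟩
  have h3 : x⁻¹⁻¹ * g⁻¹ = x * (x⁻¹ * g)⁻¹ * x⁻¹ := by group
  rw [h3]
  exact (Subgroup.mem_normalizer_iff.1 (le_normalizer_diff R hS (RGD.le_Sup hS.mem h1.1)) _).1 (inv_mem h1.2)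

omit R hS in
theorem Cmp.one : Cmp X S a 1 1 := ⟨one_mem _, by rw [inv_one, mul_one]; exact one_mem _⟩

omit R hS in
theorem Cmp.self {x : Y} (hx : x ∈ X a) : Cmp X S a x x := ⟨hx, by rw [inv_mul_cancel]; exact one_mem _⟩

omit R hS in
theorem Cmp.of_ne {z : I → ℤ} (hz : z ∈ S) (hza : z ≠ a) {g : Y} (hg : g ∈ X z) : Cmp X S a 1 g :=
  ⟨one_mem _, by rw [inv_one, one_mul]; exact RGD.le_Sup (S := S \ {a}) ⟨hz, hza⟩ hg⟩

/-- conjugation does not change the component if `X a` is commutative -/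
theorem Cmp.conj (hab : ∀ x ∈ X a, ∀ y ∈ X a, x * y = y * x) {x g v : Y} (h1 : Cmp X S a x g)
    (hv : v ∈ RGD.Sup X S) : Cmp X S a x (v * g * v⁻¹) := by
  obtain ⟨y, hy⟩ := Cmp.exists R hS hv
  have h2 := Cmp.mul R hS (Cmp.mul R hS hy h1) (Cmp.inv R hS hy)
  have h3 : y * x * y⁻¹ = x := by rw [hab y hy.1 x h1.1]; group
  rwa [h3] at h2

end

section

variable (R : RGD cs h p T n X)

include R

/-- **The Bruhat lemma.** -/
theorem bruhat_form [Finite W] {S : Set (I → ℤ)} (hS : S ⊆ RGD.Pos cs h) (hSc : Closed cs h S) {s t : Y} (hs : s ∈ T)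
    (ht : t ∈ T) (hSs : RGD.Sup (fun x => X x ⊓ Subgroup.centralizer {s}) (RGD.Pos cs h) ≤ RGD.Sup X S)
    (hSt : RGD.Sup (fun x => X x ⊓ Subgroup.centralizer {t}) (RGD.Pos cs h) ≤ RGD.Sup X S)
    {c u u' : Y} (hc : c ∈ GG cs h T X) (e : c * s = t * c) (hu : u ∈ RGD.Sup X S) (hu' : u' ∈ RGD.Sup X S)
    (e' : c * u = u' * c) :
    ∃ w k, Rp cs R.nsys w k ∧ k * s = t * k ∧
      (∃ u₁ ∈ RGD.Sup X S, ∃ u₂ ∈ RGD.Sup X S, c = u₁ * k * u₂) ∧
      (∀ a, Ind cs h S a → (∀ x ∈ X a, ∀ y ∈ X a, x * y = y * x) → (¬ Cmp X S a 1 u) → 0 ≤ rep cs h w a) ∧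
      ((∀ a ∈ S, rep cs h w a ∈ S) → ∀ a, Ind cs h S a → Ind cs h S (rep cs h w a) →
        (∀ x ∈ X a, ∀ y ∈ X a, x * y = y * x) →
        (∀ x ∈ X (rep cs h w a), ∀ y ∈ X (rep cs h w a), x * y = y * x) →
        ∀ x x', Cmp X S a x u → Cmp X S (rep cs h w a) x' u' → k * x * k⁻¹ = x') := by
  obtain ⟨u₁, hu₁, w, k, hk, hks, u₂, hu₂, rfl⟩ := conj_form R hs ht hc e
  have h1 := hSt hu₁
  have h2 := hSs hu₂
  -- `y = u₂ u u₂⁻¹`
  obtain ⟨y, hy⟩ : ∃ y, y = u₂ * u * u₂⁻¹ := ⟨_, rfl⟩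
  have hyS : y ∈ RGD.Sup X S := by rw [hy]; exact mul_mem (mul_mem h2 hu) (inv_mem h2)
  have hky : k * y * k⁻¹ = u₁⁻¹ * u' * u₁ := by
    rw [hy]
    have h3 : u' = u₁ * k * u₂ * u * (u₁ * k * u₂)⁻¹ := by rw [e']; group
    rw [h3]; group
  have hkyS : k * y * k⁻¹ ∈ RGD.Sup X S := by
    rw [hky]; exact mul_mem (mul_mem (inv_mem h1) hu') h1
  have hyU : y ∈ RGD.Sup X (RGD.Pos cs h) := RGD.Sup_mono hS hyS
  have hyP : y ∈ RGD.Sup X (PW cs h w) := by
    have h3 := mem_PW_of_conj R hk.inv hyU (by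
      rw [inv_inv]
      exact RGD.U_le_B (RGD.Sup_mono hS hkyS))
    rwa [inv_inv] at h3
  have hyPS : y ∈ RGD.Sup X (PW cs h w ∩ S) := by
    have h3 := inf_eq R (S := PW cs h w) (S' := S) (fun x hx => ⟨hx.1, hx.2.1⟩) hS ?_ hSc
    · rw [← h3]; exact ⟨hyP, hyS⟩
    · intro x hx y hy z hz
      exact ⟨hz.1, RGD.nonneg_of_btwn hx.2.1 hy.2.1 hz, RGD.nonneg_of_btwn hx.2.2 hy.2.2 (hz.act w)⟩
  refine ⟨w, k, hk, hks, ⟨u₁, h1, u₂, h2, rfl⟩, ?_, ?_⟩
  · intro a ha hab hne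
    by_contra hcon
    apply hne
    obtain ⟨x, hx⟩ := Cmp.exists R ha hu
    have hxy : Cmp X S a x y := by rw [hy]; exact Cmp.conj R ha hab hx h2
    have h3 : Cmp X S a 1 y := by
      refine ⟨one_mem _, ?_⟩
      rw [inv_one, one_mul]
      refine RGD.Sup_mono (S := PW cs h w ∩ S) (S' := S \ {a}) ?_ hyPS
      rintro z ⟨hz1, hz2⟩
      refine ⟨hz2, ?_⟩
      rintro rfl
      exact hcon hz1.2.2
    rw [← Cmp.unique R ha hxy h3]
    exact hx
  · intro hwS a ha hwa hab hab' x x' hx hx'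
    have hxy : Cmp X S a x y := by rw [hy]; exact Cmp.conj R ha hab hx h2
    have h3 : Cmp X S (rep cs h w a) (k * x * k⁻¹) (k * y * k⁻¹) := by
      refine ⟨R.conj_mem hk (hS ha.mem).1 hxy.1, ?_⟩
      have h4 : (k * x * k⁻¹)⁻¹ * (k * y * k⁻¹) = k * (x⁻¹ * y) * k⁻¹ := by group
      rw [h4]
      refine conj_mem_Sup R hk (S := S \ {a}) (S' := S \ {rep cs h w a}) (fun z hz => (hS hz.1).1) ?_ hxy.2
      rintro z ⟨hz, hza⟩
      refine ⟨hwS z hz, ?_⟩
      intro h5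
      apply hza
      rw [Set.mem_singleton_iff] at h5 ⊢
      have h6 := congrArg (rep cs h w⁻¹) h5
      rwa [rep_inv_apply, rep_inv_apply] at h6
    have h5 : Cmp X S (rep cs h w a) x' (k * y * k⁻¹) := by
      rw [hky]
      have h6 := Cmp.conj R hwa hab' hx' (inv_mem h1)
      rwa [inv_inv] at h6
    exact Cmp.unique R hwa h3 h5

end

end Cfsg.Agent.H315.SR
end

private theorem dce_cff3943529b7 : _root_.True := by
  try have : _root_.True := by simp only [_root_.Cfsg.Agent.H129.TorusUntw.phi.congr_simp]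
  exact _root_.True.intro
end

-- part: H991/SR/TD4Odd
section
set_option linter.all false
open scoped Cfsg.Agent.FastGrp

/-!
# TEAM SR: `³D₄(q)` and `G₂(q)`, `q` odd: real elements are strongly real (helper991)

`C(z) = (SL(2,q^3) ∘ SL(2,q)) T`; every element of `C(z)` is inverted by an involution of `C(z)`.
* `sr_of_comm`      : an element of a group of hexagon type which commutes with an involution is strongly real;
* `rr_hex`          : the row predicate for a finite group of hexagon type in odd characteristic;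
* `rr_3d4_odd`, `rr_g2_odd`.
-/

set_option autoImplicit false

namespace Cfsg.Agent.H991.SRD

open Cfsg.Agent.Cit.HexBase Cfsg.Agent.Lib.SL2Mat Cfsg.Agent.H721.SR
open Cfsg.Agent.SplitTwo Cfsg.Agent.TitsThree.RankTwoZ

section sl

variable {K : Type*} [Field K]

theorem neg_one_ne : (-1 : K) ≠ 0 := neg_ne_zero.2 one_ne_zero

/-- the key equations for `v = (p, q; r, p)` -/
theorem key_sl {δ : K} (hδ : δ ≠ 0) (a v : SL2 K) (hv : ent v 0 0 = ent v 1 1)
    (hl : ent v 0 0 * (ent a 1 1 - δ * ent a 0 0) + ent v 0 1 * (δ * ent a 1 0) - ent v 1 0 * ent a 0 1 = 0) :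
    v * conjGL (dgl (-1) neg_one_ne) v = 1 ∧
    a * conjGL (dgl δ hδ) v * conjGL (dgl δ hδ) (conjGL (dgl (-1) neg_one_ne) a) * dg δ hδ = v := by
  have hd := det_eq a
  have hdv := det_eq v
  rw [← hv] at hdv
  constructor
  · rw [conjGL_dgl_ent]
    refine ext_ent ?_ ?_ ?_ ?_ <;>
      simp only [ent_mul, mk_00, mk_01, mk_10, mk_11, ent_one_00, ent_one_01, ent_one_10, ent_one_11]
    · linear_combination hdv
    · rw [← hv]; ring
    · rw [← hv]; ring
    · rw [← hv]; linear_combination hdv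
  · rw [conjGL_dgl_ent, conjGL_dgl_ent, conjGL_dgl_ent]
    refine ext_ent ?_ ?_ ?_ ?_ <;>
      simp only [ent_mul, mk_00, mk_01, mk_10, mk_11, dg_00, dg_01, dg_10, dg_11, ← hv] <;>
      obtain ⟨p, hp⟩ : ∃ p, p = ent v 0 0 := ⟨_, rfl⟩ <;>
      obtain ⟨q, hq⟩ : ∃ q, q = ent v 0 1 := ⟨_, rfl⟩ <;>
      obtain ⟨r, hr⟩ : ∃ r, r = ent v 1 0 := ⟨_, rfl⟩ <;>
      obtain ⟨a0, ha0⟩ : ∃ a0, a0 = ent a 0 0 := ⟨_, rfl⟩ <;>
      obtain ⟨b0, hb0⟩ : ∃ b0, b0 = ent a 0 1 := ⟨_, rfl⟩ <;>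
      obtain ⟨c0, hc0⟩ : ∃ c0, c0 = ent a 1 0 := ⟨_, rfl⟩ <;>
      obtain ⟨d0, hd0⟩ : ∃ d0, d0 = ent a 1 1 := ⟨_, rfl⟩ <;>
      simp only [← hp, ← hq, ← hr, ← ha0, ← hb0, ← hc0, ← hd0] at hl hd hdv ⊢ <;>
      field_simp
    · linear_combination p * hd - a0 * hl
    · linear_combination δ * q * hd + b0 * hl
    · linear_combination r * hd - c0 * hl
    · linear_combination p * δ * hd + d0 * hl

/-- every element of `SL(2,K) D` is inverted up to a scalar by an element of trace `0` and determinant `-1` -/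
theorem exists_v {δ : K} (hδ : δ ≠ 0) (a : SL2 K) :
    ∃ v : SL2 K, v * conjGL (dgl (-1) neg_one_ne) v = 1 ∧
    a * conjGL (dgl δ hδ) v * conjGL (dgl δ hδ) (conjGL (dgl (-1) neg_one_ne) a) * dg δ hδ = v := by
  by_cases hc : ent a 1 0 = 0
  · by_cases hb : ent a 0 1 = 0
    · refine ⟨wm 1 one_ne_zero, key_sl hδ a _ rfl ?_⟩
      simp only [wm_00, wm_01, wm_10, hb, hc]
      ring
    · refine ⟨lo ((ent a 1 1 - δ * ent a 0 0) / ent a 0 1), key_sl hδ a _ rfl ?_⟩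
      simp only [lo_00, lo_01, lo_10]
      field_simp
      ring
  · refine ⟨up (-(ent a 1 1 - δ * ent a 0 0) / (δ * ent a 1 0)), key_sl hδ a _ rfl ?_⟩
    simp only [up_00, up_01, up_10]
    field_simp
    ring

end sl

section hex

variable {E : Type*} [Field E] {σ : E ≃+* E} {L : Type*} [Group L]

/-- an element which commutes with `z` is strongly real -/
theorem sr_of_comm_z (c : HexGrp σ L) [Finite E] (h2 : (2 : E) ≠ 0) {g : L} (hg : g * c.z = c.z * g) : SR g := by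
  obtain ⟨a, b, s, hs, rfl⟩ := c.mem_CZ_form h2 hg
  have hs0 : (s : E) ≠ 0 := fun h => hs (Subtype.ext h)
  have hsf : σ (s : E) = s := s.2
  obtain ⟨h, hh⟩ : ∃ h : L, h = c.pa (dg s hs) := ⟨_, rfl⟩
  have hA : c.Act h (s : E)⁻¹ ((s : E) ^ 2) := by rw [hh]; exact c.act_a s hs
  rw [← hh]
  have hδ : (s : E)⁻¹ ≠ 0 := inv_ne_zero hs0
  -- the square of `h`
  have hsq : h * h = c.pb (dg (s : E)⁻¹ hδ) * c.p4 (dg s hs) := by
    refine (hA.mul hA).unique (((c.act_b (s : E)⁻¹ hδ).mul (c.act_p4_dg s hs)).congr rfl ?_ ?_)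
    · ring
    · rw [nrm_inv, nrm_of_fix hsf]
      field_simp
  obtain ⟨v, hv1, hv2⟩ := exists_v hδ a
  obtain ⟨w, hw1, hw2⟩ := exists_v hs b
  -- the actions
  have eh1 : ∀ x, h * c.pb x = c.pb (conjGL (dgl (s : E)⁻¹ hδ) x) * h := by
    intro x
    have := hA.pb x
    rw [← this]
    group
  have eh4 : ∀ x, h * c.p4 x = c.p4 (conjGL (dgl s hs) x) * h := by
    intro x
    have := hA.p4 h2 x
    have e : (⟨((s : E) ^ 2) ^ 2 * nrm σ (s : E)⁻¹, hA.fix4⟩ : ↥(fx σ)) = s := by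
      apply Subtype.ext
      change ((s : E) ^ 2) ^ 2 * nrm σ (s : E)⁻¹ = s
      rw [nrm_inv, nrm_of_fix hsf]
      field_simp
    have e2 : dgl (⟨((s : E) ^ 2) ^ 2 * nrm σ (s : E)⁻¹, hA.fix4⟩ : ↥(fx σ)) (HexGrp.sub_ne _ hA.ne4) = dgl s hs := by
      congr 1
    rw [e2] at this
    rw [← this]
    group
  have ez1 : ∀ x, c.z0 * c.pb x = c.pb (conjGL (dgl (-1) neg_one_ne) x) * c.z0 := by
    intro x
    have := c.act_z0.pb x
    rw [← this]
    group
  have ez4 : ∀ x, c.z0 * c.p4 x = c.p4 (conjGL (dgl (-1) neg_one_ne) x) * c.z0 := by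
    intro x
    have := c.act_z0.p4 h2 x
    have e : (⟨(1 : E) ^ 2 * nrm σ (-1 : E), c.act_z0.fix4⟩ : ↥(fx σ)) = -1 := by
      apply Subtype.ext
      change (1 : E) ^ 2 * nrm σ (-1 : E) = -1
      rw [nrm_of_fix (by rw [map_neg, map_one])]
      ring
    have e2 : dgl (⟨(1 : E) ^ 2 * nrm σ (-1 : E), c.act_z0.fix4⟩ : ↥(fx σ)) (HexGrp.sub_ne _ c.act_z0.ne4) =
        dgl (-1) neg_one_ne := by
      congr 1
    rw [e2] at this
    rw [← this]
    group
  have hzh : c.z0 * h = h * c.z0 := c.T0_comm ⟨_, _, c.act_z0⟩ ⟨_, _, hA⟩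
  have hz2 := c.z0_sq
  have hcm := c.comm_pb_p4
  refine ⟨c.pb v * c.p4 w * c.z0, ?_, ?_⟩
  · calc c.pb v * c.p4 w * c.z0 * (c.pb v * c.p4 w * c.z0)
        = c.pb v * c.p4 w * (c.z0 * c.pb v) * c.p4 w * c.z0 := by group
      _ = c.pb v * c.p4 w * c.pb (conjGL (dgl (-1) neg_one_ne) v) * (c.z0 * c.p4 w) * c.z0 := by rw [ez1]; group
      _ = c.pb v * (c.p4 w * c.pb (conjGL (dgl (-1) neg_one_ne) v)) * c.p4 (conjGL (dgl (-1) neg_one_ne) w) *
          (c.z0 * c.z0) := by rw [ez4]; group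
      _ = (c.pb v * c.pb (conjGL (dgl (-1) neg_one_ne) v)) * (c.p4 w * c.p4 (conjGL (dgl (-1) neg_one_ne) w)) *
          (c.z0 * c.z0) := by rw [← hcm]; group
      _ = 1 := by rw [← map_mul, ← map_mul, hv1, hw1, hz2, map_one, map_one, mul_one, mul_one]
  · -- `g t g = t`
    have key : (c.pb a * c.p4 b * h) * (c.pb v * c.p4 w * c.z0) * (c.pb a * c.p4 b * h) =
        c.pb v * c.p4 w * c.z0 := by
      calc (c.pb a * c.p4 b * h) * (c.pb v * c.p4 w * c.z0) * (c.pb a * c.p4 b * h)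
          = c.pb a * c.p4 b * (h * c.pb v) * c.p4 w * (c.z0 * c.pb a) * c.p4 b * h := by group
        _ = c.pb a * c.p4 b * c.pb (conjGL (dgl (s : E)⁻¹ hδ) v) * (h * c.p4 w) *
            c.pb (conjGL (dgl (-1) neg_one_ne) a) * (c.z0 * c.p4 b) * h := by rw [eh1, ez1]; group
        _ = c.pb a * c.p4 b * c.pb (conjGL (dgl (s : E)⁻¹ hδ) v) * c.p4 (conjGL (dgl s hs) w) * (h *
            c.pb (conjGL (dgl (-1) neg_one_ne) a)) * c.p4 (conjGL (dgl (-1) neg_one_ne) b) * (c.z0 * h) := by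
              rw [eh4, ez4]; group
        _ = c.pb a * c.p4 b * c.pb (conjGL (dgl (s : E)⁻¹ hδ) v) * c.p4 (conjGL (dgl s hs) w) *
            c.pb (conjGL (dgl (s : E)⁻¹ hδ) (conjGL (dgl (-1) neg_one_ne) a)) *
            (h * c.p4 (conjGL (dgl (-1) neg_one_ne) b)) * (h * c.z0) := by rw [eh1, hzh]; group
        _ = c.pb a * (c.p4 b * c.pb (conjGL (dgl (s : E)⁻¹ hδ) v)) * (c.p4 (conjGL (dgl s hs) w) *
            c.pb (conjGL (dgl (s : E)⁻¹ hδ) (conjGL (dgl (-1) neg_one_ne) a))) *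
            c.p4 (conjGL (dgl s hs) (conjGL (dgl (-1) neg_one_ne) b)) * (h * h) * c.z0 := by rw [eh4]; group
        _ = (c.pb a * c.pb (conjGL (dgl (s : E)⁻¹ hδ) v)) * (c.p4 b *
            c.pb (conjGL (dgl (s : E)⁻¹ hδ) (conjGL (dgl (-1) neg_one_ne) a))) * c.p4 (conjGL (dgl s hs) w) *
            c.p4 (conjGL (dgl s hs) (conjGL (dgl (-1) neg_one_ne) b)) *
            (c.pb (dg (s : E)⁻¹ hδ) * c.p4 (dg s hs)) * c.z0 := by rw [← hcm, ← hcm, hsq]; group
        _ = c.pb a * c.pb (conjGL (dgl (s : E)⁻¹ hδ) v) *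
            c.pb (conjGL (dgl (s : E)⁻¹ hδ) (conjGL (dgl (-1) neg_one_ne) a)) * ((c.p4 b * c.p4 (conjGL (dgl s hs) w) *
            c.p4 (conjGL (dgl s hs) (conjGL (dgl (-1) neg_one_ne) b))) *
            c.pb (dg (s : E)⁻¹ hδ)) * c.p4 (dg s hs) * c.z0 := by rw [← hcm]; group
        _ = c.pb (a * conjGL (dgl (s : E)⁻¹ hδ) v * conjGL (dgl (s : E)⁻¹ hδ) (conjGL (dgl (-1) neg_one_ne) a) *
              dg (s : E)⁻¹ hδ) * c.p4 (b * conjGL (dgl s hs) w *
              conjGL (dgl s hs) (conjGL (dgl (-1) neg_one_ne) b) * dg s hs) * c.z0 := by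
              rw [← map_mul c.p4, ← map_mul c.p4, ← hcm]
              simp only [map_mul]
              group
        _ = c.pb v * c.p4 w * c.z0 := by rw [hv2, hw2]
    obtain ⟨g, hg⟩ : ∃ g : L, g = c.pb a * c.p4 b * h := ⟨_, rfl⟩
    obtain ⟨t, ht⟩ : ∃ t : L, t = c.pb v * c.p4 w * c.z0 := ⟨_, rfl⟩
    rw [← hg, ← ht] at key ⊢
    calc t * g * t⁻¹ = g⁻¹ * (g * t * g) * t⁻¹ := by group
      _ = g⁻¹ := by rw [key]; group

/-- an element which commutes with an involution is strongly real -/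
theorem sr_of_comm (c : HexGrp σ L) [Finite E] [Finite L] (h2 : (2 : E) ≠ 0) {g t : L} (ht : t * t = 1) (ht1 : t ≠ 1)
    (hg : g * t = t * g) : SR g := by
  obtain ⟨x, hx⟩ := isConj_iff.1 (c.isConj_z h2 ht ht1)
  have h1 : SR (x * g * x⁻¹) := by
    refine sr_of_comm_z c h2 ?_
    rw [← hx]
    calc x * g * x⁻¹ * (x * t * x⁻¹) = x * (g * t) * x⁻¹ := by group
      _ = x * t * x⁻¹ * (x * g * x⁻¹) := by rw [hg]; group
  have h3 := h1.conj x⁻¹
  have e : x⁻¹ * (x * g * x⁻¹) * x⁻¹⁻¹ = g := by group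
  rwa [e] at h3

/-- a finite group of hexagon type in odd characteristic: real elements are strongly real -/
theorem rr_hex (c : HexGrp σ L) [Finite E] [Finite L] (h2 : (2 : E) ≠ 0) : RR L := by
  refine RR.of_real fun g hr => ?_
  by_cases h1 : g = 1
  · rw [h1]; exact sr_one
  by_cases hodd : Odd (Nat.card (Subgroup.centralizer ({g} : Set L)))
  · obtain ⟨t, ht, ht2⟩ := Cfsg.Agent.S0241.result g h1 hr hodd
    refine ⟨t, ?_, ht2⟩
    rw [← pow_two, ← ht, pow_orderOf_eq_one]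
  · have : 2 ∣ Nat.card (Subgroup.centralizer ({g} : Set L)) := (Nat.not_odd_iff_even.1 hodd).two_dvd
    obtain ⟨t, ht⟩ := exists_prime_orderOf_dvd_card' 2 this
    have h3 : t * t = 1 := by rw [← pow_two, ← ht, pow_orderOf_eq_one]
    have h4 : t ≠ 1 := by
      rintro rfl
      rw [orderOf_one] at ht
      exact absurd ht (by norm_num)
    refine sr_of_comm c h2 (t := (t : L)) ?_ ?_ ?_
    · exact congrArg Subtype.val h3
    · exact fun h => h4 (Subtype.ext h)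
    · exact (Subgroup.mem_centralizer_singleton_iff.1 t.2).symm

end hex

universe u

/-- `³D₄(q)`, `q` odd -/
theorem rr_3d4_odd {S : Type u} [Group S] {K : Type} [Field K] [Fintype K] {q : ℕ}
    (hK : Fintype.card K = q ^ 3) (hq : Odd q) (e : S ≃* Cfsg.Lie.twistedD4 K q) : RR S := by
  have h2 : (2 : K) ≠ 0 := Cfsg.Agent.H588.UnfLie.two_ne_of_odd (by rw [hK]; exact hq.pow)
  obtain ⟨σ, -, ⟨c⟩⟩ := Cfsg.Agent.Cit.HexD4.exists_d4 hK
  exact (rr_hex c h2).congr e.symm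

end Cfsg.Agent.H991.SRD
end

-- part: H327/SR/Psl_mg
section
prune_inst 0x4110011404082000000000084510018020c0004000008840084010004010888080800016000203103400a0000000000000000008000400000040004000000000000800000a0080008800016000180400000000000000000000000000000000004000000000
set_option linter.all false
open scoped Cfsg.Agent.FastGrp

-- part: H327/SR/Psl
section
/-!
# TEAM SR (S4971): the rows `PSL_n(q)` (helper327)

* `n ≥ 3`: an element `x` of `SL_n(F)` with `tr x = 0 ≠ tr x⁻¹` is not real modulo scalars.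
* `n = 2`: if `-1` is a square every element is inverted by an element with square `-1`; otherwise a transvection is
  not real.
-/

set_option autoImplicit false

namespace Cfsg.Agent.H327.SR

open Matrix Cfsg.Agent.H721.SR

open scoped MatrixGroups

section

variable {F : Type*} [Field F]

/-- companion matrix of `X³ - a X² + b X - 1` -/
def comp (a b : F) : Matrix (Fin 3) (Fin 3) F := !![0, 0, 1; 1, 0, -b; 0, 1, a]

def comp' (a b : F) : Matrix (Fin 3) (Fin 3) F := !![b, 1, 0; -a, 0, 1; 1, 0, 0]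

theorem comp_mul (a b : F) : comp a b * comp' a b = 1 := by
  ext i j
  (revert i j; simp only [comp, comp', Matrix.mul_apply, Fin.sum_univ_three, _root_.Fin.forall_fin_succ, _root_.Matrix.of_apply, _root_.Matrix.cons_val', _root_.Matrix.cons_val_fin_one, Fin.isValue, _root_.Matrix.cons_val_zero, _root_.Matrix.cons_val_one, _root_.Matrix.cons_val, _root_.mul_neg, _root_.mul_one, _root_.Matrix.cons_val_succ, _root_.MulZeroClass.mul_zero, _root_.add_zero, _root_.zero_add, _root_.IsEmpty.forall_iff, _root_.and_true, _root_.MulZeroClass.zero_mul, _root_.neg_zero, _root_.Matrix.one_apply_eq, Nat.reduceAdd, _root_.Fin.succ_zero_eq_one, _root_.ne_eq, _root_.zero_ne_one, _root_.not_false_eq_true, _root_.Matrix.one_apply_ne, _root_.Fin.succ_one_eq_two, Fin.reduceEq, _root_.and_self, _root_.Fin.succ_ne_zero, _root_.one_mul, _root_.add_neg_cancel, _root_.neg_add_cancel, _root_.true_and])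

theorem det_comp (a b : F) : (comp a b).det = 1 := by
  simp [comp, Matrix.det_fin_three]

theorem trace_comp (a b : F) : (comp a b).trace = a := by
  simp [comp, Matrix.trace, Fin.sum_univ_three]

theorem trace_comp' (a b : F) : (comp' a b).trace = b := by
  simp [comp', Matrix.trace, Fin.sum_univ_three]

theorem trace_fromBlocks {k m : Type*} [Fintype k] [Fintype m] (A : Matrix k k F) (D : Matrix m m F) :
    (fromBlocks A 0 0 D).trace = A.trace + D.trace := by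
  simp only [Matrix.trace, Fintype.sum_sum_type, _root_.Matrix.diag_apply, _root_.Matrix.fromBlocks_apply₁₁, _root_.Matrix.fromBlocks_apply₂₂]

theorem coe_inv_eq {n : ℕ} {x : Matrix.SpecialLinearGroup (Fin n) F} {N' : Matrix (Fin n) (Fin n) F}
    (h : (x : Matrix (Fin n) (Fin n) F) * N' = 1) :
    ((x⁻¹ : Matrix.SpecialLinearGroup (Fin n) F) : Matrix (Fin n) (Fin n) F) = N' := by
  have h6 : ((x⁻¹ : Matrix.SpecialLinearGroup (Fin n) F) : Matrix (Fin n) (Fin n) F) *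
      (x : Matrix (Fin n) (Fin n) F) = 1 := by
    rw [← Matrix.SpecialLinearGroup.coe_mul, inv_mul_cancel, Matrix.SpecialLinearGroup.coe_one]
  calc _ = ((x⁻¹ : Matrix.SpecialLinearGroup (Fin n) F) : Matrix (Fin n) (Fin n) F) *
        ((x : Matrix (Fin n) (Fin n) F) * N') := by rw [h, mul_one]
    _ = N' := by rw [← mul_assoc, h6, one_mul]

/-- an element with trace zero whose inverse has nonzero trace -/
theorem exists_trace (m : ℕ) : ∃ x : Matrix.SpecialLinearGroup (Fin (3 + m)) F,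
    (x : Matrix (Fin (3 + m)) (Fin (3 + m)) F).trace = 0 ∧
    ((x⁻¹ : Matrix.SpecialLinearGroup (Fin (3 + m)) F) : Matrix (Fin (3 + m)) (Fin (3 + m)) F).trace ≠ 0 := by
  set a : F := -(m : F) with ha
  set b : F := 1 - (m : F) with hb
  let e : Fin 3 ⊕ Fin m ≃ Fin (3 + m) := finSumFinEquiv
  let M : Matrix (Fin 3 ⊕ Fin m) (Fin 3 ⊕ Fin m) F := fromBlocks (comp a b) 0 0 1
  let M' : Matrix (Fin 3 ⊕ Fin m) (Fin 3 ⊕ Fin m) F := fromBlocks (comp' a b) 0 0 1
  have h1 : M * M' = 1 := by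
    simp only [M, M', fromBlocks_multiply]
    rw [comp_mul]
    simp
  have h2 : M.det = 1 := by
    simp only [M]
    rw [det_fromBlocks_zero₂₁, det_comp, det_one, mul_one]
  let N : Matrix (Fin (3 + m)) (Fin (3 + m)) F := M.reindex e e
  let N' : Matrix (Fin (3 + m)) (Fin (3 + m)) F := M'.reindex e e
  have h3 : N * N' = 1 := by
    simp only [N, N', reindex_apply]
    rw [submatrix_mul_equiv, h1, submatrix_one_equiv]
  have h4 : N.det = 1 := by
    simp only [N]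
    rw [det_reindex_self, h2]
  have ht : ∀ (A : Matrix (Fin 3 ⊕ Fin m) (Fin 3 ⊕ Fin m) F), (A.reindex e e).trace = A.trace := by
    intro A
    simp only [Matrix.trace, reindex_apply, Matrix.diag_apply, submatrix_apply]
    exact Equiv.sum_comp e.symm fun i => A i i
  refine ⟨⟨N, h4⟩, ?_, ?_⟩
  · show N.trace = 0
    simp only [N, ht, M]
    rw [trace_fromBlocks, trace_comp, Matrix.trace_one, Fintype.card_fin, ha]
    ring
  · rw [coe_inv_eq (x := ⟨N, h4⟩) (N' := N') h3]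
    simp only [N', ht, M']
    rw [trace_fromBlocks, trace_comp', Matrix.trace_one, Fintype.card_fin, hb]
    intro h
    apply one_ne_zero (α := F)
    rw [← h]
    ring

/-- reality modulo scalars -/
theorem exists_scalar {n : ℕ} {x : Matrix.SpecialLinearGroup (Fin n) F}
    (h : IsConj (QuotientGroup.mk x : Matrix.ProjectiveSpecialLinearGroup (Fin n) F) (QuotientGroup.mk x)⁻¹) :
    ∃ (g : Matrix.SpecialLinearGroup (Fin n) F) (r : F), r ^ n = 1 ∧
      ((x⁻¹ : Matrix.SpecialLinearGroup (Fin n) F) : Matrix (Fin n) (Fin n) F) =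
        ((g * x * g⁻¹ : Matrix.SpecialLinearGroup (Fin n) F) : Matrix (Fin n) (Fin n) F) * scalar (Fin n) r := by
  obtain ⟨c, hc⟩ := isConj_iff.1 h
  obtain ⟨g, rfl⟩ := QuotientGroup.mk_surjective c
  rw [← QuotientGroup.mk_mul, ← QuotientGroup.mk_inv, ← QuotientGroup.mk_mul, ← QuotientGroup.mk_inv,
    QuotientGroup.eq] at hc
  obtain ⟨r, hr, hr'⟩ := Matrix.SpecialLinearGroup.mem_center_iff.1 hc
  refine ⟨g, r, by simpa only [_root_.Fintype.card_fin] using hr, ?_⟩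
  rw [hr', ← Matrix.SpecialLinearGroup.coe_mul, mul_inv_cancel_left]

theorem trace_conj {n : ℕ} (g x : Matrix.SpecialLinearGroup (Fin n) F) :
    ((g * x * g⁻¹ : Matrix.SpecialLinearGroup (Fin n) F) : Matrix (Fin n) (Fin n) F).trace =
      (x : Matrix (Fin n) (Fin n) F).trace := by
  rw [Matrix.SpecialLinearGroup.coe_mul, Matrix.trace_mul_comm, ← Matrix.SpecialLinearGroup.coe_mul,
    inv_mul_cancel_left]

theorem nrel_three (m : ℕ) : NRel (Matrix.ProjectiveSpecialLinearGroup (Fin (3 + m)) F) := by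
  obtain ⟨x, h1, h2⟩ := exists_trace (F := F) m
  refine ⟨QuotientGroup.mk x, fun h => h2 ?_⟩
  obtain ⟨g, r, -, hx⟩ := exists_scalar h
  rw [hx]
  have h3 : ((g * x * g⁻¹ : Matrix.SpecialLinearGroup (Fin (3 + m)) F) : Matrix (Fin (3 + m)) (Fin (3 + m)) F) *
      scalar (Fin (3 + m)) r = r • ((g * x * g⁻¹ : Matrix.SpecialLinearGroup (Fin (3 + m)) F) :
        Matrix (Fin (3 + m)) (Fin (3 + m)) F) := by
    ext i j
    simp only [Matrix.scalar_apply, mul_comm, _root_.Matrix.SpecialLinearGroup.coe_mul, _root_.Matrix.SpecialLinearGroup.coe_inv, _root_.Matrix.mul_diagonal, _root_.Matrix.smul_apply, _root_.smul_eq_mul]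
  rw [h3, Matrix.trace_smul, trace_conj, h1, smul_zero]

/-! ### `n = 2` -/

theorem coe_inv_two (a : Matrix.SpecialLinearGroup (Fin 2) F) :
    ((a⁻¹ : Matrix.SpecialLinearGroup (Fin 2) F) : Matrix (Fin 2) (Fin 2) F) = !![a.1 1 1, -a.1 0 1; -a.1 1 0, a.1 0 0] := by
  rw [Matrix.SpecialLinearGroup.coe_inv, Matrix.adjugate_fin_two]

theorem key_two (a : Matrix.SpecialLinearGroup (Fin 2) F) {x y z w : F} (h1 : x * w - y * z = 1) (h2 : x + w = 0)
    (h3 : x * a.1 0 0 + y * a.1 1 0 = a.1 1 1 * x - a.1 0 1 * z)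
    (h4 : x * a.1 0 1 + y * a.1 1 1 = a.1 1 1 * y - a.1 0 1 * w)
    (h5 : z * a.1 0 0 + w * a.1 1 0 = - a.1 1 0 * x + a.1 0 0 * z)
    (h6 : z * a.1 0 1 + w * a.1 1 1 = - a.1 1 0 * y + a.1 0 0 * w) :
    ∃ t : Matrix.SpecialLinearGroup (Fin 2) F, t * t = -1 ∧ t * a * t⁻¹ = a⁻¹ := by
  have hw : w = -x := by linear_combination h2
  subst hw
  obtain ⟨t, ht⟩ : ∃ t : Matrix.SpecialLinearGroup (Fin 2) F, (t : Matrix (Fin 2) (Fin 2) F) = !![x, y; z, -x] :=
    ⟨⟨!![x, y; z, -x], by rw [Matrix.det_fin_two_of]; exact h1⟩, rfl⟩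
  refine ⟨t, ?_, ?_⟩
  · apply Subtype.ext
    rw [Matrix.SpecialLinearGroup.coe_mul, Matrix.SpecialLinearGroup.coe_neg, Matrix.SpecialLinearGroup.coe_one, ht]
    ext i j
    (revert i j; simp only [Matrix.mul_apply, Fin.sum_univ_two, _root_.Fin.forall_fin_succ, _root_.Matrix.of_apply, _root_.Matrix.cons_val', _root_.Matrix.cons_val_fin_one, Fin.isValue, _root_.Matrix.cons_val_zero, _root_.Matrix.cons_val_one, _root_.Matrix.neg_apply, _root_.Matrix.cons_val_succ, _root_.mul_neg, _root_.IsEmpty.forall_iff, _root_.Matrix.one_apply_eq, Nat.reduceAdd, _root_.Fin.succ_zero_eq_one, _root_.ne_eq, _root_.zero_ne_one, _root_.not_false_eq_true, _root_.Matrix.one_apply_ne, _root_.neg_zero, _root_.neg_mul, _root_.Fin.succ_ne_zero, _root_.neg_neg, _root_.and_true, _root_.true_and]) <;> (repeat' with_reducible apply And.intro)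
    · linear_combination -h1
    · ring
    · ring
    · linear_combination -h1
  · rw [mul_inv_eq_iff_eq_mul]
    apply Subtype.ext
    rw [Matrix.SpecialLinearGroup.coe_mul, Matrix.SpecialLinearGroup.coe_mul, coe_inv_two, ht]
    ext i j
    (revert i j; simp only [Matrix.mul_apply, Fin.sum_univ_two, _root_.Fin.forall_fin_succ, _root_.Matrix.of_apply, _root_.Matrix.cons_val', _root_.Matrix.cons_val_fin_one, Fin.isValue, _root_.Matrix.cons_val_zero, _root_.Matrix.cons_val_one, _root_.Matrix.cons_val_succ, _root_.mul_neg, _root_.Fin.succ_zero_eq_one, _root_.IsEmpty.forall_iff, _root_.neg_mul, _root_.neg_neg, _root_.forall_const, _root_.and_true, _root_.true_and]) <;> (repeat' with_reducible apply And.intro)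
    · linear_combination h3
    · linear_combination h4
    · linear_combination h5
    · linear_combination h6

/-- `-1` is a square: every element of `SL₂` is inverted by an element with square `-1` -/
theorem exists_inverter {i : F} (hi : i * i = -1) (a : Matrix.SpecialLinearGroup (Fin 2) F) :
    ∃ t : Matrix.SpecialLinearGroup (Fin 2) F, t * t = -1 ∧ t * a * t⁻¹ = a⁻¹ := by
  have hdet := a.2
  rw [Matrix.det_fin_two] at hdet
  by_cases hr : a.1 1 0 = 0
  · by_cases hq : a.1 0 1 = 0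
    · refine key_two a (x := 0) (y := i) (z := i) (w := 0) ?_ ?_ ?_ ?_ ?_ ?_ <;> simp [hr, hq, hi, mul_comm]
    · refine key_two a (x := -i) (y := 0) (z := i * ((a.1 0 0 - a.1 1 1) / a.1 0 1)) (w := i) ?_ ?_ ?_ ?_ ?_ ?_
      · linear_combination -hi
      · ring
      · field_simp
        ring
      · ring
      · rw [hr]
        ring
      · rw [hr]
        field_simp
        ring
  · refine key_two a (x := i) (y := i * ((a.1 1 1 - a.1 0 0) / a.1 1 0)) (z := 0) (w := -i) ?_ ?_ ?_ ?_ ?_ ?_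
    · linear_combination -hi
    · ring
    · field_simp
      ring
    · ring
    · ring
    · field_simp
      ring

theorem neg_one_mem_center : (-1 : Matrix.SpecialLinearGroup (Fin 2) F) ∈
    Subgroup.center (Matrix.SpecialLinearGroup (Fin 2) F) := by
  rw [Subgroup.mem_center_iff]
  intro g
  rw [mul_neg, neg_mul, mul_one, one_mul]

theorem sr_two {i : F} (hi : i * i = -1) (g : Matrix.ProjectiveSpecialLinearGroup (Fin 2) F) : SR g := by
  obtain ⟨a, rfl⟩ := QuotientGroup.mk_surjective g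
  obtain ⟨t, h1, h2⟩ := exists_inverter hi a
  refine ⟨QuotientGroup.mk t, ?_, ?_⟩
  · rw [← QuotientGroup.mk_mul, h1]
    exact (QuotientGroup.eq_one_iff _).2 neg_one_mem_center
  · rw [← QuotientGroup.mk_mul, ← QuotientGroup.mk_inv, ← QuotientGroup.mk_mul, h2, QuotientGroup.mk_inv]

theorem nrel_two (h : ¬ IsSquare (-1 : F)) : NRel (Matrix.ProjectiveSpecialLinearGroup (Fin 2) F) := by
  have h2 : (2 : F) ≠ 0 := by
    intro h2
    apply h
    refine ⟨1, ?_⟩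
    linear_combination -h2
  obtain ⟨x, hxc⟩ : ∃ x : Matrix.SpecialLinearGroup (Fin 2) F, (x : Matrix (Fin 2) (Fin 2) F) = !![1, 1; 0, 1] :=
    ⟨⟨!![1, 1; 0, 1], by rw [Matrix.det_fin_two_of]; ring⟩, rfl⟩
  refine ⟨QuotientGroup.mk x, fun hc => ?_⟩
  obtain ⟨g, r, hr, hx⟩ := exists_scalar hc
  have hdet := g.2
  rw [Matrix.det_fin_two] at hdet
  have e1 : ((x⁻¹ : Matrix.SpecialLinearGroup (Fin 2) F) : Matrix (Fin 2) (Fin 2) F) * (g : Matrix (Fin 2) (Fin 2) F) =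
      (g : Matrix (Fin 2) (Fin 2) F) * (x : Matrix (Fin 2) (Fin 2) F) * scalar (Fin 2) r := by
    have h3 : (scalar (Fin 2) r) * (g : Matrix (Fin 2) (Fin 2) F) = (g : Matrix (Fin 2) (Fin 2) F) * scalar (Fin 2) r :=
      (scalar_commute r (Commute.all r) _).eq
    rw [hx, mul_assoc, h3, ← mul_assoc, ← Matrix.SpecialLinearGroup.coe_mul, inv_mul_cancel_right,
      Matrix.SpecialLinearGroup.coe_mul]
  rw [coe_inv_two] at e1
  have f00 := congrFun (congrFun e1 0) 0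
  have f01 := congrFun (congrFun e1 0) 1
  have f10 := congrFun (congrFun e1 1) 0
  have f11 := congrFun (congrFun e1 1) 1
  simp only [hxc, Matrix.mul_apply, Fin.sum_univ_two, Matrix.scalar_apply, _root_.Fin.isValue, _root_.Matrix.of_apply, _root_.Matrix.cons_val', _root_.Matrix.cons_val_one, _root_.Matrix.cons_val_fin_one, _root_.Matrix.cons_val_zero, _root_.neg_zero, _root_.one_mul, _root_.neg_mul, _root_.mul_one, _root_.MulZeroClass.mul_zero, _root_.add_zero, _root_.Matrix.diagonal_apply_eq, _root_.ne_eq, _root_.one_ne_zero, _root_.not_false_eq_true, _root_.Matrix.diagonal_apply_ne, _root_.zero_ne_one, _root_.zero_add, _root_.MulZeroClass.zero_mul] at f00 f01 f10 f11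
  have hr1 : (r - 1) * (r + 1) = 0 := by linear_combination hr
  rcases mul_eq_zero.1 hr1 with h3 | h3
  · have hr2 : r = 1 := by linear_combination h3
    rw [hr2] at f00 f01
    have h4 : g.1 1 0 = 0 := by linear_combination -f00
    have h5 : g.1 1 1 = -g.1 0 0 := by linear_combination -f01
    apply h
    refine ⟨g.1 0 0, ?_⟩
    have h6 : g.1 0 0 * g.1 1 1 - g.1 0 1 * g.1 1 0 = 1 := hdet
    rw [h4, h5] at h6
    linear_combination h6
  · have hr2 : r = -1 := by linear_combination h3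
    rw [hr2] at f10 f11
    have h4 : g.1 1 0 = 0 := by
      have : 2 * g.1 1 0 = 0 := by linear_combination f10
      exact (mul_eq_zero.1 this).resolve_left h2
    have h5 : g.1 1 1 = 0 := by
      have : 2 * g.1 1 1 = 0 := by linear_combination f11 - h4
      exact (mul_eq_zero.1 this).resolve_left h2
    have h6 : g.1 0 0 * g.1 1 1 - g.1 0 1 * g.1 1 0 = 1 := hdet
    rw [h4, h5] at h6
    simp at h6

end

/-- **The rows `PSL_n(q)`.** -/
theorem rr_psl {S : Type*} [Group S] (h : Cfsg.IsPSL S) : RR S := by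
  obtain ⟨F, _, _, n, hn, -, ⟨e⟩⟩ := h
  refine RR.congr e.symm ?_
  obtain rfl | hn := hn.eq_or_lt
  · by_cases h1 : IsSquare (-1 : F)
    · obtain ⟨i, hi⟩ := h1
      exact RR.of_sr (sr_two hi.symm)
    · exact RR.of_nrel (nrel_two h1)
  · obtain ⟨m, rfl⟩ := Nat.exists_eq_add_of_lt hn
    have : 2 + m + 1 = 3 + m := by ring
    rw [this]
    exact RR.of_nrel (nrel_three m)

end Cfsg.Agent.H327.SR
end

-- part: H834/SR/PspThree
section
/-!
# TEAM SR: a transvection of `PSp₄(3)` is not real (helper834)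
-/

set_option autoImplicit false

namespace Cfsg.Agent.H834.SR

open Matrix Cfsg Cfsg.Agent.H721.SR

variable {K : Type*} [Field K]

/-- the transvection matrix -/
def tm (K : Type*) [Field K] : Matrix (Fin 2 ⊕ Fin 2) (Fin 2 ⊕ Fin 2) K :=
  fromBlocks 1 !![1, 0; 0, 0] 0 1

theorem tm_mem : tm K ∈ symplecticGroup (Fin 2) K := by
  rw [SymplecticGroup.mem_iff, tm, Matrix.J, fromBlocks_transpose, fromBlocks_multiply, fromBlocks_multiply]
  congr 1 <;> ext i j <;> (revert i j; simp [_root_.Fin.forall_fin_succ])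

/-- the transvection -/
def tv (K : Type*) [Field K] : symplecticGroup (Fin 2) K := ⟨tm K, tm_mem⟩

theorem tm_cube (h3 : (3 : K) = 0) : tm K ^ 3 = 1 := by
  have h2 : (1 : K) + (1 + 1) = 0 := by rw [← h3]; norm_num
  rw [pow_succ, pow_two, tm, fromBlocks_multiply, fromBlocks_multiply, ← fromBlocks_one]
  congr 1 <;> ext i j <;> (revert i j; simp [h2, _root_.Fin.forall_fin_succ])

theorem nrel_psp_three [Fintype K] (hK : Fintype.card K = 3) : NRel (PSp 2 K) := by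
  let e : ZMod 3 ≃+* K := ZMod.ringEquivOfPrime K Nat.prime_three hK
  have h3 : (3 : K) = 0 := by
    have h : e 3 = e 0 := by congr 1
    rw [map_ofNat, map_zero] at h
    exact h
  have hsq : ∀ a : K, a * a ≠ -1 := by
    intro a ha
    have h1 : e.symm a * e.symm a = -1 := by rw [← map_mul, ha, map_neg, map_one]
    revert h1
    generalize e.symm a = b
    revert b
    decide
  have hneg : (-1 : K) ≠ 1 := fun h => hsq 1 (by rw [one_mul, h])
  have ht3 : tv K ^ 3 = 1 := Subtype.ext (tm_cube h3)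
  refine ⟨QuotientGroup.mk (tv K), fun hc => ?_⟩
  obtain ⟨y, hy⟩ := isConj_iff.1 hc
  obtain ⟨g, rfl⟩ := QuotientGroup.mk_surjective y
  rw [← QuotientGroup.mk_mul, ← QuotientGroup.mk_inv, ← QuotientGroup.mk_inv, ← QuotientGroup.mk_mul,
    QuotientGroup.eq] at hy
  set z := (g * tv K * g⁻¹)⁻¹ * (tv K)⁻¹ with hz
  have hzc := hy
  have h1 : g * tv K * g⁻¹ * z = (tv K)⁻¹ := by rw [hz]; group
  -- the central element is trivial
  have hz3 : z ^ 3 = 1 := by
    have hcomm : Commute (g * tv K * g⁻¹) z := (Subgroup.mem_center_iff.1 hzc _)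
    have h2 : (g * tv K * g⁻¹ * z) ^ 3 = 1 := by rw [h1, inv_pow, ht3, inv_one]
    rw [hcomm.mul_pow, conj_pow, ht3, mul_one, mul_inv_cancel, one_mul] at h2
    exact h2
  have hz1 : z = 1 := by
    rcases Cfsg.Agent.ClassicalGeometry.SympInvolutions.center_eq hzc with h | h
    · exact Subtype.ext h
    · exfalso
      have h2 : ((z ^ 3 : symplecticGroup (Fin 2) K) : Matrix (Fin 2 ⊕ Fin 2) (Fin 2 ⊕ Fin 2) K) = 1 := by
        rw [hz3]; rfl
      have h4 : ((z : symplecticGroup (Fin 2) K) : Matrix (Fin 2 ⊕ Fin 2) (Fin 2 ⊕ Fin 2) K) ^ 3 = 1 := h2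
      rw [h] at h4
      have h5 := congrFun (congrFun h4 (Sum.inl 0)) (Sum.inl 0)
      rw [Odd.neg_one_pow (by decide), Matrix.neg_apply, Matrix.one_apply_eq] at h5
      exact hneg h5
  rw [hz1, mul_one] at h1
  have h2 : tv K * g * tv K = g := by
    have h4 : g * tv K = (tv K)⁻¹ * g := by rw [← h1]; group
    rw [mul_assoc, h4]; group
  set M : Matrix (Fin 2 ⊕ Fin 2) (Fin 2 ⊕ Fin 2) K := (g : Matrix (Fin 2 ⊕ Fin 2) (Fin 2 ⊕ Fin 2) K) with hM
  have h4 : tm K * M * tm K = M := congrArg Subtype.val h2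
  have h5 : M * Matrix.J (Fin 2) K * Mᵀ = Matrix.J (Fin 2) K := SymplecticGroup.mem_iff.1 g.2
  have e1 := congrFun (congrFun h4 (Sum.inl 0)) (Sum.inl 0)
  have e2 := congrFun (congrFun h4 (Sum.inl 0)) (Sum.inl 1)
  have e3 := congrFun (congrFun h4 (Sum.inl 0)) (Sum.inr 0)
  have e4 := congrFun (congrFun h4 (Sum.inl 0)) (Sum.inr 1)
  have e5 := congrFun (congrFun h5 (Sum.inl 0)) (Sum.inr 0)
  simp only [tm, Matrix.mul_apply, Fintype.sum_sum_type, Fin.sum_univ_two, Matrix.J, _root_.Fin.isValue, _root_.Matrix.fromBlocks_apply₁₁, _root_.Matrix.one_apply_eq, _root_.one_mul, _root_.ne_eq, _root_.zero_ne_one, _root_.not_false_eq_true, _root_.Matrix.one_apply_ne, _root_.MulZeroClass.zero_mul, _root_.add_zero, _root_.Matrix.fromBlocks_apply₁₂, _root_.Matrix.of_apply, _root_.Matrix.cons_val', _root_.Matrix.cons_val_fin_one, _root_.Matrix.cons_val_zero, _root_.Matrix.cons_val_one, _root_.mul_one, _root_.one_ne_zero, _root_.MulZeroClass.mul_zero,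 _root_.Matrix.fromBlocks_apply₂₁, _root_.Matrix.zero_apply, _root_.Finset.sum_const_zero, _root_.add_eq_left, _root_.zero_add, _root_.Matrix.fromBlocks_apply₂₂, _root_.Matrix.transpose_apply, _root_.Matrix.neg_apply, _root_.mul_neg, _root_.neg_zero, _root_.neg_mul] at e1 e2 e3 e4 e5
  apply hsq (M (Sum.inl 0) (Sum.inl 0))
  linear_combination e5 + M (Sum.inl 0) (Sum.inl 0) * e3 - M (Sum.inl 0) (Sum.inl 0) * e1
    - M (Sum.inl 0) (Sum.inr 0) * e1 - M (Sum.inl 0) (Sum.inr 1) * e2 + M (Sum.inl 0) (Sum.inl 1) * e4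

end Cfsg.Agent.H834.SR
end

-- part: H834/SR/Psu
section
/-!
# TEAM SR, row PSU: `PSU_n(q)` has a non-real element (helper834)

* `not_conj_scalar` : an element of `GL_n(F)` of prime order `u`, `orderOf (|F| mod u) = e` odd, `n < 2 e`, is not
  conjugate to a scalar multiple of its inverse;
* `nrel_psu`, `rr_psu`.
-/

set_option autoImplicit false

namespace Cfsg.Agent.H834.SR

open Matrix Cfsg Cfsg.Geo Cfsg.Agent.H721.SR Cfsg.Agent.H304.Ppd
open scoped MatrixGroups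

section Lin

variable {F : Type*} [Field F] [Fintype F] {ι : Type} [Fintype ι] [DecidableEq ι]

/-- not conjugate to the inverse -/
theorem not_conj_inv {u e : ℕ} (hu : u.Prime) (hu2 : u ≠ 2)
    (hord : orderOf ((Fintype.card F : ℕ) : ZMod u) = e) (hodd : Odd e)
    (hqu : ¬ u ∣ Fintype.card F) (hn : Fintype.card ι < 2 * e) {x g : GL ι F} (hx : orderOf x = u)
    (h : g * x * g⁻¹ = x⁻¹) : False := by
  have hmu : ¬ u ∣ u - 1 := fun h => absurd (Nat.le_of_dvd (by have := hu.two_le; omega) h) (by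
    have := hu.two_le; omega)
  obtain ⟨i, hi⟩ := exists_exponent hu hord hqu hn hx hmu (by
    intro l hlu hl
    have h1 : ((x⁻¹ : GL ι F) : Matrix ι ι F) * (x : Matrix ι ι F) = 1 := by
      rw [← Units.val_mul, inv_mul_cancel, Units.val_one]
    obtain ⟨h2, hl0⟩ := Ev.inv h1 hl
    have hdet : ((g⁻¹ : GL ι F) : Matrix ι ι F).det ≠ 0 := by
      intro h0
      have h3 : ((g⁻¹ : GL ι F) : Matrix ι ι F).det * (g : Matrix ι ι F).det = 1 := by
        rw [← Matrix.det_mul, ← Units.val_mul, inv_mul_cancel, Units.val_one, Matrix.det_one]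
      rw [h0, zero_mul] at h3
      exact zero_ne_one h3
    have h3 : (x : Matrix ι ι F) * ((g⁻¹ : GL ι F) : Matrix ι ι F) =
        ((g⁻¹ : GL ι F) : Matrix ι ι F) * ((x⁻¹ : GL ι F) : Matrix ι ι F) := by
      rw [← Units.val_mul, ← Units.val_mul]
      congr 1
      rw [← h]
      group
    have h5 := Ev.conj hdet h3 h2
    have h6 : l ^ (u - 1) = l⁻¹ := by
      apply eq_inv_of_mul_eq_one_left
      rw [← pow_succ, Nat.sub_add_cancel hu.one_lt.le, hlu]
    rw [h6]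
    exact h5)
  rw [Nat.cast_sub hu.one_lt.le, ZMod.natCast_self, zero_sub, Nat.cast_one] at hi
  exact (Nat.not_even_iff_odd.2 hodd) (even_of_neg_one hu hu2 hord hi)

/-- not conjugate to a scalar multiple of the inverse -/
theorem not_conj_scalar {u e : ℕ} (hu : u.Prime) (hu2 : u ≠ 2)
    (hord : orderOf ((Fintype.card F : ℕ) : ZMod u) = e) (hodd : Odd e) (he : 2 ≤ e)
    (hqu : ¬ u ∣ Fintype.card F) (hn : Fintype.card ι < 2 * e) {x g c : GL ι F} (hx : orderOf x = u)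
    (hc : c ∈ scalars ι F) (h : g * x * g⁻¹ = c * x⁻¹) : False := by
  classical
  obtain ⟨a, rfl⟩ := hc
  set φ : Fˣ →* GL ι F := Units.map (Matrix.scalar ι : F →+* Matrix ι ι F).toMonoidHom with hφ
  have hcomm : Commute (φ a) x⁻¹ := by
    have h1 : Commute (φ a) x := by
      apply Units.ext
      show Matrix.scalar ι (a : F) * (x : Matrix ι ι F) = (x : Matrix ι ι F) * Matrix.scalar ι (a : F)
      exact Matrix.scalar_commute (a : F) (fun r => Commute.all _ r) _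
    exact h1.inv_right
  have hxu : x ^ u = 1 := by rw [← hx, pow_orderOf_eq_one]
  have h1 : φ (a ^ u) = 1 := by
    have h2 : (g * x * g⁻¹) ^ u = (φ a * x⁻¹) ^ u := by rw [h]
    rw [conj_pow, hxu, mul_one, mul_inv_cancel, hcomm.mul_pow, inv_pow, hxu, inv_one, mul_one, ← map_pow] at h2
    exact h2.symm
  have hne : Nonempty ι := by
    by_contra hcon
    rw [not_nonempty_iff] at hcon
    have : x = 1 := Subsingleton.elim _ _
    rw [this, orderOf_one] at hx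
    exact hu.one_lt.ne hx
  have hau : a ^ u = 1 := by
    obtain ⟨i⟩ := hne
    have h2 := congrFun (congrFun (congrArg (fun y : GL ι F => (y : Matrix ι ι F)) h1) i) i
    have h3 : Matrix.scalar ι ((a ^ u : Fˣ) : F) i i = (1 : Matrix ι ι F) i i := h2
    rw [Matrix.scalar_apply, Matrix.diagonal_apply_eq, Matrix.one_apply_eq] at h3
    exact Units.ext h3
  have ha1 : a = 1 := by
    have h2 : orderOf a ∣ u := orderOf_dvd_of_pow_eq_one hau
    rcases (Nat.dvd_prime hu).1 h2 with h3 | h3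
    · exact orderOf_eq_one_iff.1 h3
    · exfalso
      have h4 : u ∣ Fintype.card F - 1 := by
        rw [← h3, ← Fintype.card_units]
        exact orderOf_dvd_card
      have hF : 1 ≤ Fintype.card F := Fintype.card_pos
      have h5 : ((Fintype.card F : ℕ) : ZMod u) = 1 := by
        have h6 : ((Fintype.card F - 1 : ℕ) : ZMod u) = 0 := (ZMod.natCast_eq_zero_iff _ _).2 h4
        rw [Nat.cast_sub hF, Nat.cast_one, sub_eq_zero] at h6
        exact h6
      rw [h5, orderOf_one] at hord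
      omega
  rw [ha1, map_one, one_mul] at h
  exact not_conj_inv hu hu2 hord hodd hqu hn hx h

end Lin

theorem nrel_psu {F : Type} [Field F] [Fintype F] {n q : ℕ} (hF : Fintype.card F = q ^ 2) (hn : 3 ≤ n)
    (h32 : ¬ (n = 3 ∧ q = 2)) : NRel (PSU n F q) := by
  by_cases h42 : n = 4 ∧ q = 2
  · obtain ⟨rfl, rfl⟩ := h42
    have : Fact (Nat.Prime 3) := ⟨Nat.prime_three⟩
    obtain ⟨e⟩ := Cfsg.Agent.S0822.result (F := F) (K := ZMod 3) (by rw [hF]; norm_num) (ZMod.card 3)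
    exact (nrel_psp_three (K := ZMod 3) (ZMod.card 3)).congr e.symm
  obtain ⟨p, f, hp, hf, hq, -⟩ := H251.GeoU.exists_prime_power hF
  obtain ⟨m, hm, hmn, hnm, hm3⟩ : ∃ m, Odd m ∧ m ≤ n ∧ n ≤ m + 1 ∧ 3 ≤ m := by
    rcases Nat.even_or_odd n with ⟨k, hk⟩ | h
    · exact ⟨n - 1, ⟨k - 1, by omega⟩, by omega, by omega, by omega⟩
    · exact ⟨n, h, le_rfl, by omega, by omega⟩
  obtain ⟨s, hs, hiff, hs1, hord⟩ := H251.GeoU.exists_big hp hf hm3 hm (by
    rintro ⟨h1, h2⟩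
    rw [← hq] at h2
    have h3 : n = 3 ∨ n = 4 := by omega
    rcases h3 with h3 | h3
    · exact h32 ⟨h3, h2⟩
    · exact h42 ⟨h3, h2⟩)
  rw [← hq] at hord
  have hs2 : s ≠ 2 := by
    rintro rfl
    have h1 := Nat.le_of_dvd (by norm_num) hs1
    have h2 : 2 * m * 1 ≤ 2 * m * f := Nat.mul_le_mul_left _ hf
    omega
  have hsq : ¬ s ∣ q := H251.GeoU.not_dvd_of_ord hs hord (by omega)
  have hsF : ¬ s ∣ Fintype.card F := by
    rw [hF]
    exact fun h => hsq (hs.dvd_of_dvd_pow h)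
  have hord2 : orderOf ((Fintype.card F : ℕ) : ZMod s) = m := by
    rw [hF]
    exact H251.GeoU.ord_sq_odd hord hm
  have hdvd : s ∣ Nat.card (PSU n F q) := H149.PGU.dvd_card_psu hF (by omega) hs (by omega) hmn hord
  have hfin : Finite (SU n F q) := inferInstance
  have hdvd2 : s ∣ Nat.card (SU n F q) := hdvd.trans (Subgroup.card_quotient_dvd_card _)
  have := Fact.mk hs
  obtain ⟨A, hA⟩ := exists_prime_orderOf_dvd_card' s hdvd2
  set ψ := H918.suHom n F q with hψ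
  have hA' : orderOf (ψ A) = s := by rw [orderOf_injective ψ H918.suHom_injective, hA]
  refine ⟨QuotientGroup.mk' (Subgroup.center (SU n F q)) A, fun hc => ?_⟩
  obtain ⟨y, hy⟩ := isConj_iff.1 hc
  obtain ⟨B, rfl⟩ := QuotientGroup.mk'_surjective _ y
  have h1 : QuotientGroup.mk' (Subgroup.center (SU n F q)) (B * A * B⁻¹ * A) = 1 := by
    rw [map_mul, map_mul, map_mul, map_inv, hy, inv_mul_cancel]
  have h2 := (Cfsg.Agent.H264.FKS.hker_su hF hn _).1 h1
  refine not_conj_scalar (g := ψ B) (x := ψ A) (c := ψ (B * A * B⁻¹ * A)) hs hs2 hord2 hm (by omega) hsF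
    (by rw [Fintype.card_fin]; omega) hA' h2 ?_
  rw [map_mul, map_mul, map_mul, map_inv]
  group

/-- **Row PSU.** -/
theorem rr_psu {S : Type*} [Group S] (h : Cfsg.IsPSU S) : RR S := by
  obtain ⟨F, i1, i2, n, q, hF, hn, h32, ⟨e⟩⟩ := h
  exact RR.of_nrel ((nrel_psu hF hn h32).congr e.symm)

end Cfsg.Agent.H834.SR
end

-- part: H368/SR/TwFPow
section
/-!
# A regular unipotent element of `²F₄(q)` (TEAM SR, S4971): the eighth power (helper368)

Collection rules for the elements `o a 1`, `e a 1 0`, `e a 0 1` of the Sylow 2-subgroup of `²F₄(2) ≤ ²F₄(q)`;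
`(o 0 1 * e 2 1 0 * e 4 1 0) ^ 8 = e 2 0 1`.
-/

set_option autoImplicit false
set_option linter.unusedSectionVars false
set_option linter.unusedSimpArgs false

namespace Cfsg.Agent.H368.SR.TwFPow

open Cfsg.Agent.KFacts.TwF4 Cfsg.Agent.KFacts.TwF4.Arc

theorem t {G : Type*} [Group G] {a b c : G} (h : a * b = c) (r : G) : a * (b * r) = c * r := by
  rw [← mul_assoc, h]

theorem rel_of {G : Type*} [Group G] {x y c w : G} (h : x * y = y * x * c) (hc : c * w = 1) :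
    y * x = x * (y * w) := by
  rw [← mul_assoc, h]
  simp only [mul_assoc, hc, mul_one]

theorem n11 : (1 : ZMod 8) + 1 = 2 := by decide
theorem n12 : (1 : ZMod 8) + 2 = 3 := by decide
theorem n13 : (1 : ZMod 8) + 3 = 4 := by decide
theorem n21 : (2 : ZMod 8) + 1 = 3 := by decide
theorem n22 : (2 : ZMod 8) + 2 = 4 := by decide
theorem n31 : (3 : ZMod 8) + 1 = 4 := by decide

variable {F : Type*} [Field F] {σ : F →+* F} {G : Type*} [Group G] (S : Full σ G)

theorem r_O0 : S.o 0 1 * S.o 0 1 = 1 := by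
  rw [S.o_add, char2 S, S.o_zero]

theorem r_O1 : S.o 1 1 * S.o 1 1 = 1 := by
  rw [S.o_add, char2 S, S.o_zero]

theorem r_O2 : S.o 2 1 * S.o 2 1 = 1 := by
  rw [S.o_add, char2 S, S.o_zero]

theorem r_O3 : S.o 3 1 * S.o 3 1 = 1 := by
  rw [S.o_add, char2 S, S.o_zero]

theorem r_P1 : S.e 1 1 0 * S.e 1 1 0 = S.e 1 0 1 := by
  simp only [S.e_mul, char2 S, map_one, mul_one, zero_add]

theorem r_Z1 : S.e 1 0 1 * S.e 1 0 1 = 1 := by
  simp only [S.e_mul, zero_mul, add_zero, char2 S, S.e_zero]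

theorem r_ZP1 : S.e 1 0 1 * S.e 1 1 0 = S.e 1 1 0 * S.e 1 0 1 := by
  simp only [S.e_mul, map_zero, zero_mul, mul_zero, zero_add, add_zero]

theorem s_1 : S.e 1 1 1 = S.e 1 1 0 * S.e 1 0 1 := by
  simp only [S.e_mul, map_zero, mul_zero, zero_add, add_zero]

theorem r_P2 : S.e 2 1 0 * S.e 2 1 0 = S.e 2 0 1 := by
  simp only [S.e_mul, char2 S, map_one, mul_one, zero_add]

theorem r_Z2 : S.e 2 0 1 * S.e 2 0 1 = 1 := by
  simp only [S.e_mul, zero_mul, add_zero, char2 S, S.e_zero]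

theorem r_ZP2 : S.e 2 0 1 * S.e 2 1 0 = S.e 2 1 0 * S.e 2 0 1 := by
  simp only [S.e_mul, map_zero, zero_mul, mul_zero, zero_add, add_zero]

theorem s_2 : S.e 2 1 1 = S.e 2 1 0 * S.e 2 0 1 := by
  simp only [S.e_mul, map_zero, mul_zero, zero_add, add_zero]

theorem r_P3 : S.e 3 1 0 * S.e 3 1 0 = S.e 3 0 1 := by
  simp only [S.e_mul, char2 S, map_one, mul_one, zero_add]

theorem r_Z3 : S.e 3 0 1 * S.e 3 0 1 = 1 := by
  simp only [S.e_mul, zero_mul, add_zero, char2 S, S.e_zero]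

theorem r_ZP3 : S.e 3 0 1 * S.e 3 1 0 = S.e 3 1 0 * S.e 3 0 1 := by
  simp only [S.e_mul, map_zero, zero_mul, mul_zero, zero_add, add_zero]

theorem s_3 : S.e 3 1 1 = S.e 3 1 0 * S.e 3 0 1 := by
  simp only [S.e_mul, map_zero, mul_zero, zero_add, add_zero]

theorem r_P4 : S.e 4 1 0 * S.e 4 1 0 = S.e 4 0 1 := by
  simp only [S.e_mul, char2 S, map_one, mul_one, zero_add]

theorem r_Z4 : S.e 4 0 1 * S.e 4 0 1 = 1 := by
  simp only [S.e_mul, zero_mul, add_zero, char2 S, S.e_zero]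

theorem s_4 : S.e 4 1 1 = S.e 4 1 0 * S.e 4 0 1 := by
  simp only [S.e_mul, map_zero, mul_zero, zero_add, add_zero]

theorem r_O1_P1 : S.o 1 1 * S.e 1 1 0 = S.e 1 1 0 * S.o 1 1 := by
  simpa only [S.o_zero, S.e_zero, n11, n12, n13, n21, n22, n31] using (S.e_o0 1 1 0 1).symm

theorem r_P2_O1 : S.e 2 1 0 * S.o 1 1 = S.o 1 1 * S.e 2 1 0 := by
  simpa only [S.o_zero, S.e_zero, n11, n12, n13, n21, n22, n31] using (S.o_e1 1 1 1 0).symm

theorem r_O2_P2 : S.o 2 1 * S.e 2 1 0 = S.e 2 1 0 * S.o 2 1 := by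
  simpa only [S.o_zero, S.e_zero, n11, n12, n13, n21, n22, n31] using (S.e_o0 2 1 0 1).symm

theorem r_O2_Z2 : S.o 2 1 * S.e 2 0 1 = S.e 2 0 1 * S.o 2 1 := by
  simpa only [S.o_zero, S.e_zero, n11, n12, n13, n21, n22, n31] using (S.e_o0 2 0 1 1).symm

theorem r_P3_O2 : S.e 3 1 0 * S.o 2 1 = S.o 2 1 * S.e 3 1 0 := by
  simpa only [S.o_zero, S.e_zero, n11, n12, n13, n21, n22, n31] using (S.o_e1 2 1 1 0).symm

theorem r_Z3_O2 : S.e 3 0 1 * S.o 2 1 = S.o 2 1 * S.e 3 0 1 := by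
  simpa only [S.o_zero, S.e_zero, n11, n12, n13, n21, n22, n31] using (S.o_e1 2 1 0 1).symm

theorem r_O3_P3 : S.o 3 1 * S.e 3 1 0 = S.e 3 1 0 * S.o 3 1 := by
  simpa only [S.o_zero, S.e_zero, n11, n12, n13, n21, n22, n31] using (S.e_o0 3 1 0 1).symm

theorem r_O3_Z3 : S.o 3 1 * S.e 3 0 1 = S.e 3 0 1 * S.o 3 1 := by
  simpa only [S.o_zero, S.e_zero, n11, n12, n13, n21, n22, n31] using (S.e_o0 3 0 1 1).symm

theorem r_P4_O3 : S.e 4 1 0 * S.o 3 1 = S.o 3 1 * S.e 4 1 0 := by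
  simpa only [S.o_zero, S.e_zero, n11, n12, n13, n21, n22, n31] using (S.o_e1 3 1 1 0).symm

theorem r_Z4_O3 : S.e 4 0 1 * S.o 3 1 = S.o 3 1 * S.e 4 0 1 := by
  simpa only [S.o_zero, S.e_zero, n11, n12, n13, n21, n22, n31] using (S.o_e1 3 1 0 1).symm

theorem r_P2_Z1 : S.e 2 1 0 * S.e 1 0 1 = S.e 1 0 1 * S.e 2 1 0 := by
  simpa only [S.o_zero, S.e_zero, n11, n12, n13, n21, n22, n31, _root_.mul_one] using (S.e_e1 1 0 1 1 0).symm

theorem r_Z2_Z1 : S.e 2 0 1 * S.e 1 0 1 = S.e 1 0 1 * S.e 2 0 1 := by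
  simpa only [S.o_zero, S.e_zero, n11, n12, n13, n21, n22, n31, _root_.MulZeroClass.mul_zero, _root_.mul_one] using (S.e_e1 1 0 1 0 1).symm

theorem r_Z3_P2 : S.e 3 0 1 * S.e 2 1 0 = S.e 2 1 0 * S.e 3 0 1 := by
  simpa only [S.o_zero, S.e_zero, n11, n12, n13, n21, n22, n31, _root_.MulZeroClass.mul_zero, _root_.mul_one] using (S.e_e1 2 1 0 0 1).symm

theorem r_P3_Z2 : S.e 3 1 0 * S.e 2 0 1 = S.e 2 0 1 * S.e 3 1 0 := by
  simpa only [S.o_zero, S.e_zero, n11, n12, n13, n21, n22, n31, _root_.mul_one] using (S.e_e1 2 0 1 1 0).symm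

theorem r_Z3_Z2 : S.e 3 0 1 * S.e 2 0 1 = S.e 2 0 1 * S.e 3 0 1 := by
  simpa only [S.o_zero, S.e_zero, n11, n12, n13, n21, n22, n31, _root_.MulZeroClass.mul_zero, _root_.mul_one] using (S.e_e1 2 0 1 0 1).symm

theorem r_O3_O2 : S.o 3 1 * S.o 2 1 = S.o 2 1 * S.o 3 1 := by
  simpa only [S.o_zero, S.e_zero, n11, n12, n13, n21, n22, n31] using (S.o_o1 2 1 1).symm

theorem r_Z4_P3 : S.e 4 0 1 * S.e 3 1 0 = S.e 3 1 0 * S.e 4 0 1 := by
  simpa only [S.o_zero, S.e_zero, n11, n12, n13, n21, n22, n31, _root_.MulZeroClass.mul_zero, _root_.mul_one] using (S.e_e1 3 1 0 0 1).symm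

theorem r_P4_Z3 : S.e 4 1 0 * S.e 3 0 1 = S.e 3 0 1 * S.e 4 1 0 := by
  simpa only [S.o_zero, S.e_zero, n11, n12, n13, n21, n22, n31, _root_.mul_one] using (S.e_e1 3 0 1 1 0).symm

theorem r_Z4_Z3 : S.e 4 0 1 * S.e 3 0 1 = S.e 3 0 1 * S.e 4 0 1 := by
  simpa only [S.o_zero, S.e_zero, n11, n12, n13, n21, n22, n31, _root_.MulZeroClass.mul_zero, _root_.mul_one] using (S.e_e1 3 0 1 0 1).symm

theorem r_O2_Z1 : S.o 2 1 * S.e 1 0 1 = S.e 1 0 1 * S.o 2 1 := by
  simpa only [S.o_zero, S.e_zero, n11, n12, n13, n21, n22, n31, _root_.mul_one] using (S.e_o1 1 0 1 1).symm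

theorem r_Z3_O1 : S.e 3 0 1 * S.o 1 1 = S.o 1 1 * S.e 3 0 1 := by
  simpa only [S.o_zero, S.e_zero, n11, n12, n13, n21, n22, n31, _root_.MulZeroClass.mul_zero, _root_.mul_one] using (S.o_e2 1 1 0 1).symm

theorem r_O3_Z2 : S.o 3 1 * S.e 2 0 1 = S.e 2 0 1 * S.o 3 1 := by
  simpa only [S.o_zero, S.e_zero, n11, n12, n13, n21, n22, n31, _root_.mul_one] using (S.e_o1 2 0 1 1).symm

theorem r_Z4_O2 : S.e 4 0 1 * S.o 2 1 = S.o 2 1 * S.e 4 0 1 := by
  simpa only [S.o_zero, S.e_zero, n11, n12, n13, n21, n22, n31, _root_.MulZeroClass.mul_zero, _root_.mul_one] using (S.o_e2 2 1 0 1).symm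

theorem r_P3_P1 : S.e 3 1 0 * S.e 1 1 0 = S.e 1 1 0 * S.e 3 1 0 := by
  simpa only [S.o_zero, S.e_zero, n11, n12, n13, n21, n22, n31] using (S.e_e2 1 1 0 1 0).symm

theorem r_Z3_P1 : S.e 3 0 1 * S.e 1 1 0 = S.e 1 1 0 * S.e 3 0 1 := by
  simpa only [S.o_zero, S.e_zero, n11, n12, n13, n21, n22, n31] using (S.e_e2 1 1 0 0 1).symm

theorem r_P3_Z1 : S.e 3 1 0 * S.e 1 0 1 = S.e 1 0 1 * S.e 3 1 0 := by
  simpa only [S.o_zero, S.e_zero, n11, n12, n13, n21, n22, n31] using (S.e_e2 1 0 1 1 0).symm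

theorem r_Z3_Z1 : S.e 3 0 1 * S.e 1 0 1 = S.e 1 0 1 * S.e 3 0 1 := by
  simpa only [S.o_zero, S.e_zero, n11, n12, n13, n21, n22, n31] using (S.e_e2 1 0 1 0 1).symm

theorem r_O3_O1 : S.o 3 1 * S.o 1 1 = S.o 1 1 * S.o 3 1 := by
  simpa only [S.o_zero, S.e_zero, n11, n12, n13, n21, n22, n31] using (S.o_o2 1 1 1).symm

theorem r_P4_P2 : S.e 4 1 0 * S.e 2 1 0 = S.e 2 1 0 * S.e 4 1 0 := by
  simpa only [S.o_zero, S.e_zero, n11, n12, n13, n21, n22, n31] using (S.e_e2 2 1 0 1 0).symm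

theorem r_P4_Z2 : S.e 4 1 0 * S.e 2 0 1 = S.e 2 0 1 * S.e 4 1 0 := by
  simpa only [S.o_zero, S.e_zero, n11, n12, n13, n21, n22, n31] using (S.e_e2 2 0 1 1 0).symm

theorem r_Z4_Z2 : S.e 4 0 1 * S.e 2 0 1 = S.e 2 0 1 * S.e 4 0 1 := by
  simpa only [S.o_zero, S.e_zero, n11, n12, n13, n21, n22, n31] using (S.e_e2 2 0 1 0 1).symm

theorem r_P2_P1 : S.e 2 1 0 * S.e 1 1 0 = S.e 1 1 0 * (S.e 2 1 0 * (S.o 1 1)) := by
  refine rel_of (c := S.o 1 1) ?_ ?_
  · simpa only [S.o_zero, S.e_zero, s_1, s_2, s_3, s_4, n11, n12, n13, n21, n22, n31, mul_assoc, _root_.mul_one] using S.e_e1 1 1 0 1 0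
  · simp only [r_O1 S]

theorem r_P3_P2 : S.e 3 1 0 * S.e 2 1 0 = S.e 2 1 0 * (S.e 3 1 0 * (S.o 2 1)) := by
  refine rel_of (c := S.o 2 1) ?_ ?_
  · simpa only [S.o_zero, S.e_zero, s_1, s_2, s_3, s_4, n11, n12, n13, n21, n22, n31, mul_assoc, _root_.mul_one] using S.e_e1 2 1 0 1 0
  · simp only [r_O2 S]

theorem r_P4_P3 : S.e 4 1 0 * S.e 3 1 0 = S.e 3 1 0 * (S.e 4 1 0 * (S.o 3 1)) := by
  refine rel_of (c := S.o 3 1) ?_ ?_
  · simpa only [S.o_zero, S.e_zero, s_1, s_2, s_3, s_4, n11, n12, n13, n21, n22, n31, mul_assoc, _root_.mul_one] using S.e_e1 3 1 0 1 0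
  · simp only [r_O3 S]

theorem r_P2_O0 : S.e 2 1 0 * S.o 0 1 = S.o 0 1 * (S.e 2 1 0 * (S.e 1 0 1)) := by
  refine rel_of (c := S.e 1 0 1) ?_ ?_
  · simpa only [S.o_zero, S.e_zero, s_1, s_2, s_3, s_4, n11, n12, n13, n21, n22, n31, mul_assoc, _root_.zero_add, _root_.mul_one] using S.o_e2 0 1 1 0
  · simp only [r_Z1 S]

theorem r_O2_P1 : S.o 2 1 * S.e 1 1 0 = S.e 1 1 0 * (S.o 2 1 * (S.e 2 0 1)) := by
  refine rel_of (c := S.e 2 0 1) ?_ ?_
  · simpa only [S.o_zero, S.e_zero, s_1, s_2, s_3, s_4, n11, n12, n13, n21, n22, n31, mul_assoc, _root_.mul_one] using S.e_o1 1 1 0 1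
  · simp only [r_Z2 S]

theorem r_P3_O1 : S.e 3 1 0 * S.o 1 1 = S.o 1 1 * (S.e 3 1 0 * (S.e 2 0 1)) := by
  refine rel_of (c := S.e 2 0 1) ?_ ?_
  · simpa only [S.o_zero, S.e_zero, s_1, s_2, s_3, s_4, n11, n12, n13, n21, n22, n31, mul_assoc, _root_.mul_one] using S.o_e2 1 1 1 0
  · simp only [r_Z2 S]

theorem r_O3_P2 : S.o 3 1 * S.e 2 1 0 = S.e 2 1 0 * (S.o 3 1 * (S.e 3 0 1)) := by
  refine rel_of (c := S.e 3 0 1) ?_ ?_
  · simpa only [S.o_zero, S.e_zero, s_1, s_2, s_3, s_4, n11, n12, n13, n21, n22, n31, mul_assoc, _root_.mul_one] using S.e_o1 2 1 0 1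
  · simp only [r_Z3 S]

theorem r_P4_O2 : S.e 4 1 0 * S.o 2 1 = S.o 2 1 * (S.e 4 1 0 * (S.e 3 0 1)) := by
  refine rel_of (c := S.e 3 0 1) ?_ ?_
  · simpa only [S.o_zero, S.e_zero, s_1, s_2, s_3, s_4, n11, n12, n13, n21, n22, n31, mul_assoc, _root_.mul_one] using S.o_e2 2 1 1 0
  · simp only [r_Z3 S]

theorem r_O3_P1 : S.o 3 1 * S.e 1 1 0 = S.e 1 1 0 * (S.o 3 1 * (S.e 2 0 1 * (S.o 2 1 * S.e 3 0 1))) := by
  refine rel_of (c := S.e 2 0 1 * (S.o 2 1 * S.e 3 0 1)) ?_ ?_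
  · simpa only [S.o_zero, S.e_zero, s_1, s_2, s_3, s_4, n11, n12, n13, n21, n22, n31, mul_assoc, _root_.map_one, _root_.mul_one, _root_.add_zero] using S.e_o2 1 1 0 1
  · simp only [mul_assoc, mul_one, r_O2 S, r_Z2 S, r_Z3 S, t (r_O2_Z2 S), t (r_Z3_O2 S), t (r_Z3_Z2 S)]

theorem r_O3_Z1 : S.o 3 1 * S.e 1 0 1 = S.e 1 0 1 * (S.o 3 1 * (S.e 2 0 1)) := by
  refine rel_of (c := S.e 2 0 1) ?_ ?_
  · simpa only [S.o_zero, S.e_zero, s_1, s_2, s_3, s_4, n11, n12, n13, n21, n22, n31, mul_assoc, _root_.map_zero, _root_.MulZeroClass.mul_zero, _root_.mul_one, _root_.zero_add, _root_.map_one] using S.e_o2 1 0 1 1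
  · simp only [r_Z2 S]

theorem r_P4_O1 : S.e 4 1 0 * S.o 1 1 = S.o 1 1 * (S.e 4 1 0 * (S.e 2 0 1 * (S.o 2 1 * S.e 3 0 1))) := by
  refine rel_of (c := S.e 2 0 1 * (S.o 2 1 * S.e 3 0 1)) ?_ ?_
  · simpa only [S.o_zero, S.e_zero, s_1, s_2, s_3, s_4, n11, n12, n13, n21, n22, n31, mul_assoc, _root_.map_one, _root_.mul_one, _root_.MulZeroClass.mul_zero, _root_.add_zero] using S.o_e3 1 1 1 0
  · simp only [mul_assoc, mul_one, r_O2 S, r_Z2 S, r_Z3 S, t (r_O2_Z2 S), t (r_Z3_O2 S), t (r_Z3_Z2 S)]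

theorem r_P4_P1 : S.e 4 1 0 * S.e 1 1 0 = S.e 1 1 0 * (S.e 4 1 0 * (S.o 1 1 * (S.e 2 1 0 * (S.o 2 1 * (S.e 3 1 0 * (S.e 3 0 1 * S.o 3 1)))))) := by
  refine rel_of (c := S.o 1 1 * (S.e 2 1 0 * (S.e 3 1 0 * (S.e 3 0 1 * S.o 3 1)))) ?_ ?_
  · simpa only [S.o_zero, S.e_zero, s_1, s_2, s_3, s_4, n11, n12, n13, n21, n22, n31, mul_assoc, _root_.map_one, _root_.mul_one, _root_.add_zero, _root_.MulZeroClass.mul_zero, _root_.map_zero] using S.e_e3 1 1 0 1 0
  · simp only [mul_assoc, mul_one, r_O1 S, r_O2 S, r_O3 S, t (r_P2 S), t (r_P3 S), r_Z2 S, r_Z3 S, r_ZP2 S, r_ZP3 S, t (r_ZP3 S), t (r_P2_O1 S), r_P3_O2 S, t (r_P3_O2 S), t (r_Z3_O2 S), t (r_O3_P3 S), r_O3_Z3 S, t (r_O3_Z3 S), t (r_Z3_P2 S), r_P3_Z2 S, t (r_O3_O2 S), t (r_Z3_O1 S), t (r_O3_O1 S), t (r_P3_P2 S), t (r_P3_O1 S), t (r_O3_P2 S)]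

theorem r_Z4_P1 : S.e 4 0 1 * S.e 1 1 0 = S.e 1 1 0 * (S.e 4 0 1 * (S.e 2 0 1 * (S.e 3 0 1 * S.o 3 1))) := by
  refine rel_of (c := S.e 2 0 1 * (S.e 3 0 1 * S.o 3 1)) ?_ ?_
  · simpa only [S.o_zero, S.e_zero, s_1, s_2, s_3, s_4, n11, n12, n13, n21, n22, n31, mul_assoc, _root_.map_one, _root_.mul_one, _root_.MulZeroClass.mul_zero, _root_.add_zero, _root_.zero_add, _root_.map_zero] using S.e_e3 1 1 0 0 1
  · simp only [mul_assoc, mul_one, r_O3 S, r_Z2 S, r_Z3 S, t (r_O3_Z3 S), t (r_Z3_Z2 S), t (r_O3_Z2 S)]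

theorem r_Z4_Z1 : S.e 4 0 1 * S.e 1 0 1 = S.e 1 0 1 * (S.e 4 0 1 * (S.e 2 0 1 * (S.o 2 1 * S.e 3 0 1))) := by
  refine rel_of (c := S.e 2 0 1 * (S.o 2 1 * S.e 3 0 1)) ?_ ?_
  · simpa only [S.o_zero, S.e_zero, s_1, s_2, s_3, s_4, n11, n12, n13, n21, n22, n31, mul_assoc, _root_.map_zero, _root_.MulZeroClass.mul_zero, _root_.add_zero, _root_.mul_one, _root_.map_one, _root_.zero_add] using S.e_e3 1 0 1 0 1
  · simp only [mul_assoc, mul_one, r_O2 S, r_Z2 S, r_Z3 S, t (r_O2_Z2 S), t (r_Z3_O2 S), t (r_Z3_Z2 S)]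

theorem r_P4_O0 : S.e 4 1 0 * S.o 0 1 = S.o 0 1 * (S.e 4 1 0 * (S.e 1 1 0 * (S.e 2 1 0 * (S.e 2 0 1 * (S.e 3 0 1 * S.o 3 1))))) := by
  refine rel_of (c := S.e 1 1 0 * (S.e 1 0 1 * (S.o 1 1 * (S.e 2 1 0 * (S.o 2 1 * (S.e 3 0 1 * S.o 3 1)))))) ?_ ?_
  · simpa only [S.o_zero, S.e_zero, s_1, s_2, s_3, s_4, n11, n12, n13, n21, n22, n31, mul_assoc, _root_.zero_add, _root_.mul_one, _root_.map_one, _root_.MulZeroClass.mul_zero, _root_.add_zero, _root_.map_zero] using S.o_e4 0 1 1 0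
  · simp only [mul_assoc, mul_one, one_mul, r_O1 S, r_O2 S, r_O3 S, t (r_P1 S), t (r_P2 S), r_Z1 S, r_Z2 S, t (r_Z2 S), r_Z3 S, r_ZP1 S, r_ZP2 S, t (r_ZP2 S), t (r_O1_P1 S), r_P2_O1 S, t (r_O2_P2 S), r_O2_Z2 S, t (r_O2_Z2 S), t (r_Z3_O2 S), r_O3_Z3 S, t (r_O3_Z3 S), t (r_Z3_P2 S), r_Z3_Z2 S, t (r_Z3_Z2 S), t (r_O3_O2 S), t (r_O3_Z2 S), t (r_Z3_P1 S), t (r_P2_P1 S), t (r_O2_P1 S), t (r_O3_P2 S), t (r_O3_P1 S)]

/-- the element -/
def x : G := S.o 0 1 * (S.e 2 1 0 * S.e 4 1 0)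

theorem x2 : x S * x S = S.e 1 1 0 * (S.e 1 0 1 * (S.e 3 1 0 * (S.o 3 1 * S.e 4 0 1))) := by
  unfold x
  simp only [mul_assoc, one_mul, t (r_O0 S), t (r_O1 S), t (r_O2 S), t (r_O3 S), t (r_P2 S), r_P4 S, t (r_Z2 S), t (r_Z3 S), t (r_ZP1 S), t (r_ZP2 S), t (r_ZP3 S), r_P2_O1 S, t (r_P2_O1 S), t (r_O2_P2 S), t (r_O2_Z2 S), r_P3_O2 S, r_O3_Z3 S, t (r_O3_Z3 S), r_P4_O3 S, r_P2_Z1 S, t (r_Z3_P2 S), t (r_P3_Z2 S), r_P4_Z3 S, t (r_P4_Z3 S), t (r_P4_P2 S), t (r_P4_Z2 S), t (r_P2_P1 S), t (r_P3_P2 S), t (r_P4_P3 S), t (r_P2_O0 S), t (r_O3_P2 S), t (r_P4_O2 S), t (r_P4_O1 S), t (r_P4_P1 S), t (r_P4_O0 S)]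

theorem x4 : (S.e 1 1 0 * (S.e 1 0 1 * (S.e 3 1 0 * (S.o 3 1 * S.e 4 0 1)))) * (S.e 1 1 0 * (S.e 1 0 1 * (S.e 3 1 0 * (S.o 3 1 * S.e 4 0 1)))) = S.e 1 0 1 * (S.e 2 0 1 * S.o 3 1) := by
  simp only [mul_assoc, mul_one, one_mul, t (r_O2 S), r_O3 S, t (r_P1 S), t (r_P3 S), t (r_Z1 S), t (r_Z2 S), r_Z3 S, t (r_Z3 S), r_Z4 S, t (r_ZP1 S), t (r_ZP3 S), t (r_Z3_O2 S), r_O3_P3 S, t (r_O3_P3 S), r_O3_Z3 S, t (r_O3_Z3 S), r_Z4_O3 S, t (r_Z4_O3 S), t (r_Z2_Z1 S), t (r_P3_Z2 S), t (r_O3_O2 S), t (r_Z4_P3 S), r_Z4_Z3 S, t (r_Z4_Z3 S), t (r_O2_Z1 S), r_O3_Z2 S, t (r_O3_Z2 S), t (r_Z4_O2 S), t (r_P3_P1 S), t (r_P3_Z1 S), t (r_Z3_Z1 S), t (r_Z4_Z2 S), t (r_O3_P1 S), t (r_O3_Z1 S), t (r_Z4_P1 S), t (r_Z4_Z1 S)]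

theorem x8 : (S.e 1 0 1 * (S.e 2 0 1 * S.o 3 1)) * (S.e 1 0 1 * (S.e 2 0 1 * S.o 3 1)) = S.e 2 0 1 := by
  simp only [mul_assoc, mul_one, one_mul, r_O3 S, t (r_Z1 S), r_Z2 S, r_Z2_Z1 S, r_O3_Z2 S, t (r_O3_Z2 S), t (r_O3_Z1 S)]

theorem x_pow : x S ^ 8 = S.e 2 0 1 := by
  rw [show x S ^ 8 = ((x S * x S) * (x S * x S)) * ((x S * x S) * (x S * x S)) by
    simp only [pow_succ, pow_zero, one_mul, mul_assoc], x2, x4, x8]

end Cfsg.Agent.H368.SR.TwFPow
end

-- part: H368/SR/TwF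
section
/-!
# `²F₄(q)` and the Tits group have elements which are not real (TEAM SR, S4971; helper368)

`x = o 0 1 * e 2 1 0 * e 4 1 0` is a regular unipotent element, `x ^ 8 = z = e 2 0 1`; an element inverting `x`
lies in `C(z) = ⟨X_0, …, X_8⟩`, in the Borel subgroup, and inverts an element of order 4 of the Borel subgroup of
the Suzuki group `⟨X_0, X_8⟩`.
-/

set_option autoImplicit false
set_option linter.unusedSectionVars false

open Cfsg

namespace Cfsg.Agent.H368.SR.TwF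

open Cfsg.Agent.SplitTwo Cfsg.Agent.SplitTwo.ZS Cfsg.Agent.TitsThree.RankTwoZ Cfsg.Agent.KFacts.TwF4
open Cfsg.Agent.KFacts.TwF4.Arc Cfsg.Agent.KFacts.TwF4.Perf
open Cfsg.Agent.H721.SR Cfsg.Agent.H368.SR.TwFPow
open scoped commutatorElement

universe u

variable {F : Type*} [Field F] {σ : F →+* F} {G : Type u} [Group G] (S : Full σ G)

include S in
theorem no_root (a : F) : a + σ a ≠ 1 := by
  intro h
  have h1 : σ a + a ^ 2 = 1 := by
    have := congrArg σ h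
    rwa [map_add, map_one, S.sq] at this
  have h2 : a ^ 2 = a := by
    have h3 : a ^ 2 + (σ a + σ a) = a + (σ a + σ a) := by
      calc a ^ 2 + (σ a + σ a) = (σ a + a ^ 2) + σ a := by ring
        _ = (a + σ a) + σ a := by rw [h1, h]
        _ = a + (σ a + σ a) := by ring
    rwa [char2 S, add_zero, add_zero] at h3
  have h3 : a * (a - 1) = 0 := by
    rw [mul_sub, mul_one, ← pow_two, h2, sub_self]
  rcases mul_eq_zero.1 h3 with h4 | h4
  · rw [h4, map_zero, add_zero] at h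
    exact zero_ne_one h
  · have h5 : a = 1 := sub_eq_zero.1 h4
    rw [h5, map_one, char2 S] at h
    exact zero_ne_one h

/-- **`x` is not inverted** -/
theorem nreal [Finite F] {t : G} (h : t * x S * t⁻¹ = (x S)⁻¹) : False := by
  have Z8 := S.zsys8
  have hzZ : S.e 2 0 1 ∈ S.Zc 2 := S.mem_Zc.2 ⟨1, rfl⟩
  have hz1 : S.e 2 0 1 ≠ 1 := fun h => one_ne_zero (S.e_eq_one h).2
  have hc : t * S.e 2 0 1 * t⁻¹ = S.e 2 0 1 := by
    rw [← x_pow S, ← conj_pow, h, inv_pow, x_pow, z_inv]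
  have htPL : t ∈ S.PL := by
    rw [← S.centralizer_z hzZ hz1, Subgroup.mem_centralizer_singleton_iff]
    calc t * S.e 2 0 1 = t * S.e 2 0 1 * t⁻¹ * t := by group
      _ = S.e 2 0 1 * t := by rw [hc]
  set v : G := S.o 0 1 * S.e 2 1 0 with hv
  set y : G := S.e 4 1 0 with hy
  have hxv : x S = v * y := by
    unfold x
    rw [hv, hy, mul_assoc]
  have hvQ : v ∈ S.Q := mul_mem (mem_J ((mem_X1 S).2 ⟨1, rfl⟩) (by norm_num) (by norm_num))
    (mem_J ((mem_X4 S).2 ⟨1, 0, rfl⟩) (by norm_num) (by norm_num))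
  have hy8 : y ∈ S.XZ 8 := (mem_X8 S).2 ⟨1, 0, rfl⟩
  have hyPL : y ∈ S.PL := mem_J hy8 (by norm_num) le_rfl
  have hy1 : y ≠ 1 := fun h => one_ne_zero (S.e_eq_one h).1
  obtain ⟨q, hq, hqe⟩ : ∃ q ∈ S.Q, t * y * t⁻¹ = q * y⁻¹ := by
    refine ⟨(t * v * t⁻¹)⁻¹ * (y⁻¹ * v⁻¹ * y), ?_, ?_⟩
    · refine mul_mem (inv_mem (Q_norm S htPL hvQ)) ?_
      have := Q_norm S (inv_mem hyPL) (inv_mem hvQ)
      rwa [inv_inv] at this
    · have h1 : (t * v * t⁻¹) * (t * y * t⁻¹) = y⁻¹ * v⁻¹ := by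
        rw [hxv, mul_inv_rev] at h
        rw [← h]; group
      calc t * y * t⁻¹ = (t * v * t⁻¹)⁻¹ * ((t * v * t⁻¹) * (t * y * t⁻¹)) := by group
        _ = _ := by rw [h1]; group
  rcases S.form_PL htPL with ⟨b, hb, τ, hτ, rfl⟩ | ⟨b, hb, τ, hτ, w, hw, rfl⟩
  · obtain ⟨b', hb', w, hw, rfl⟩ := Z8.split_rr (a := 1) (b := 8) (by norm_num) (by norm_num) hb
    have hb'Q : b' ∈ S.Q := hb'
    obtain ⟨c, d, rfl⟩ := S.mem_T.1 hτ
    obtain ⟨a, β, rfl⟩ := (mem_X8 S).1 hw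
    set χ : F := (chE σ 4 c d : F) with hχ
    have hy1' : S.h c d * y * (S.h c d)⁻¹ = S.e 4 χ 0 := by
      rw [hy, S.h_e, ← hχ, mul_one, mul_zero]
    have hy2 : S.e 4 a β * S.e 4 χ 0 * (S.e 4 a β)⁻¹ ∈ S.XZ 8 :=
      mul_mem (mul_mem hw ((mem_X8 S).2 ⟨_, _, rfl⟩)) (inv_mem hw)
    set y2 := S.e 4 a β * S.e 4 χ 0 * (S.e 4 a β)⁻¹ with hy2'
    have e1 : b' * S.e 4 a β * S.h c d * y * (b' * S.e 4 a β * S.h c d)⁻¹ = b' * (y2 * b'⁻¹ * y2⁻¹) * y2 := by
      calc b' * S.e 4 a β * S.h c d * y * (b' * S.e 4 a β * S.h c d)⁻¹ =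
          b' * (S.e 4 a β * (S.h c d * y * (S.h c d)⁻¹) * (S.e 4 a β)⁻¹) * b'⁻¹ := by group
        _ = b' * y2 * b'⁻¹ := by rw [hy1']
        _ = _ := by group
    rw [e1] at hqe
    have hq2 : b' * (y2 * b'⁻¹ * y2⁻¹) ∈ S.Q :=
      mul_mem hb'Q (Q_norm S (mem_J hy2 (by norm_num) le_rfl) (inv_mem hb'Q))
    have e2 : y2 * y = (b' * (y2 * b'⁻¹ * y2⁻¹))⁻¹ * q := by
      calc y2 * y = (b' * (y2 * b'⁻¹ * y2⁻¹))⁻¹ * (b' * (y2 * b'⁻¹ * y2⁻¹) * y2) * y := by group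
        _ = _ := by rw [hqe]; group
    have e3 : y2 * y = 1 := by
      refine Z8.inter' (k := 8) (mul_mem hy2 hy8) ?_
      rw [e2]
      exact mul_mem (inv_mem hq2) hq
    have e4 : S.e 4 a β * S.e 4 χ 0 = S.e 4 1 1 * S.e 4 a β := by
      have h5 : y2 = S.e 4 1 1 := by
        rw [eq_inv_of_mul_eq_one_left e3, hy, e_inv, map_one, mul_one, zero_add]
      calc S.e 4 a β * S.e 4 χ 0 = y2 * S.e 4 a β := by rw [hy2']; group
        _ = _ := by rw [h5]
    rw [S.e_mul, S.e_mul] at e4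
    obtain ⟨e5, e6⟩ := S.injE _ _ _ _ _ e4
    have e7 : χ = 1 := by
      rw [add_comm 1 a] at e5
      exact add_left_cancel e5
    rw [e7, map_one, mul_one, one_mul, add_zero] at e6
    apply no_root S a
    have e8 : (β + β) + (a + σ a) = 1 + (σ a + σ a) := by
      calc (β + β) + (a + σ a) = β + (β + a) + σ a := by ring
        _ = β + (1 + β + σ a) + σ a := by rw [e6]
        _ = (β + β) + 1 + (σ a + σ a) := by ring
        _ = 1 + (σ a + σ a) := by rw [char2 S β, zero_add]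
    rwa [char2 S, char2 S, zero_add, add_zero] at e8
  · set y3 := w * y * w⁻¹ with hy3
    have hy3' : y3 ∈ S.XZ 8 := mul_mem (mul_mem hw hy8) (inv_mem hw)
    have hy4 : S.n2 * y3 * S.n2⁻¹ ∈ S.XZ 0 := S.n2_refl.mem' hy3' (by norm_num)
    have e1 : b * (τ * S.n2) * w * y * (b * (τ * S.n2) * w)⁻¹ = b * (τ * (S.n2 * y3 * S.n2⁻¹) * τ⁻¹) * b⁻¹ := by
      rw [hy3]; group
    rw [e1] at hqe
    have e2 : S.n2 * y3 * S.n2⁻¹ = τ⁻¹ * (b⁻¹ * (q * y⁻¹) * b) * τ := by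
      rw [← hqe]; group
    have hU : ∀ g ∈ J S.XZ 1 8, g ∈ J S.XZ 1 8 ⊔ S.T := fun g hg => Subgroup.mem_sup_left hg
    have hTT : ∀ g ∈ S.T, g ∈ J S.XZ 1 8 ⊔ S.T := fun g hg => Subgroup.mem_sup_right hg
    have hqU : q ∈ J S.XZ 1 8 := J_mono le_rfl (by norm_num) hq
    have e3 : S.n2 * y3 * S.n2⁻¹ = 1 := by
      refine H127.TwFInv.X0_inf_BT S hy4 ?_
      rw [e2]
      exact mul_mem (mul_mem (inv_mem (hTT _ hτ)) (mul_mem (mul_mem (inv_mem (hU _ hb))
        (mul_mem (hU _ hqU) (inv_mem (hU _ (mem_J hy8 (by norm_num) le_rfl))))) (hU _ hb))) (hTT _ hτ)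
    apply hy1
    have e4 : y = w⁻¹ * (S.n2⁻¹ * (S.n2 * y3 * S.n2⁻¹) * S.n2) * w := by rw [hy3]; group
    rw [e4, e3]; group

include S in
theorem nrel [Finite F] : NRel G := ⟨x S, fun hc => by
  obtain ⟨t, ht⟩ := isConj_iff.1 hc
  exact nreal S ht⟩

/-- `x` lies in the derived subgroup -/
theorem x_mem : x S ∈ commutator G := by
  have hn : (commutator G).Normal := inferInstance
  have hcm : ∀ a b r : G, a * b = b * a * r → r ∈ commutator G := by
    intro a b r h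
    have h1 : r = ⁅a⁻¹, b⁻¹⁆ := by
      rw [commutatorElement_def, inv_inv, inv_inv]
      calc r = a⁻¹ * b⁻¹ * (b * a * r) := by group
        _ = _ := by rw [← h]; group
    rw [h1, commutator_def]
    exact Subgroup.commutator_mem_commutator (Subgroup.mem_top _) (Subgroup.mem_top _)
  have ho1 : S.o 1 1 ∈ commutator G := by
    refine hcm (S.e 1 1 0) (S.e 2 1 0) _ ?_
    simpa only [n11, _root_.mul_one] using S.e_e1 1 1 0 1 0
  have ho0 : S.o 0 1 ∈ commutator G := by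
    have h1 : S.rot⁻¹ * S.o 1 1 * S.rot⁻¹⁻¹ ∈ commutator G := hn.conj_mem _ ho1 _
    have h2 : S.rot * S.o 0 1 * S.rot⁻¹ = S.o 1 1 := by simpa only [_root_.zero_add] using S.rot_o 0 1
    rw [← h2] at h1
    have h3 : S.rot⁻¹ * (S.rot * S.o 0 1 * S.rot⁻¹) * S.rot⁻¹⁻¹ = S.o 0 1 := by group
    rwa [h3] at h1
  have hz1 : S.e 1 0 1 ∈ commutator G := by
    refine hcm (S.o 0 1) (S.e 2 1 0) _ ?_
    simpa only [_root_.zero_add, _root_.mul_one] using S.o_e2 0 1 1 0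
  have hz2 : S.e 2 0 1 ∈ commutator G := by
    have h1 : S.rot * S.e 1 0 1 * S.rot⁻¹ ∈ commutator G := hn.conj_mem _ hz1 _
    rw [S.rot_e, n11] at h1
    exact h1
  have he : S.e 2 1 0 * S.e 4 1 0 ∈ commutator G := by
    have h1 : S.rot * (S.rot * S.e 2 1 0 * S.rot⁻¹) * S.rot⁻¹ = S.e 4 1 0 := by
      rw [S.rot_e, S.rot_e, n21, n31]
    have h2 : S.e 2 1 0 * S.e 4 1 0 = S.e 2 0 1 * ⁅(S.e 2 1 0)⁻¹, S.rot * S.rot⁆ := by
      rw [commutatorElement_def, inv_inv, ← h1, ← r_P2 S]; group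
    rw [h2]
    refine mul_mem hz2 ?_
    rw [commutator_def]
    exact Subgroup.commutator_mem_commutator (Subgroup.mem_top _) (Subgroup.mem_top _)
  exact mul_mem ho0 he

include S in
theorem nrel_comm [Finite F] : NRel ↥(commutator G) := ⟨⟨x S, x_mem S⟩, fun hc => by
  obtain ⟨t, ht⟩ := isConj_iff.1 hc
  exact nreal S (t := (t : G)) (congrArg Subtype.val ht)⟩

/-- **Row `²F₄(q)`, `q ≥ 8`.** -/
theorem nrel_2F4 {S : Type*} [Group S] (h : Cfsg.Lie.Iso2F4 S) : NRel S := by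
  obtain ⟨K, _, _, m, hm, hK, ⟨e⟩⟩ := h
  have hchar := Cfsg.Agent.ChevalleyStructure.TwF4.Twisted.charP_two hK
  obtain ⟨φ, hφ⟩ := ChevalleyStructure.TwF4.TwistedFix.exists_rln hK
  exact (nrel (KFacts.TwF4.Inst.full hK hφ)).congr e.symm

theorem nrel_titsGroup : NRel ↥(commutator ↥(Cfsg.Lie.twistedF4 (ZMod 2) 1)) := by
  have hK : Fintype.card (ZMod 2) = 2 ^ (2 * 0 + 1) := by rw [ZMod.card]; norm_num
  obtain ⟨φ, hφ⟩ := Cfsg.Agent.ChevalleyStructure.TwF4.TwistedFix.exists_rln hK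
  obtain ⟨S, -⟩ : ∃ S : Full φ ↥(Cfsg.Lie.twistedF4 (ZMod 2) 1), S.R.p = 2 := by
    have h0 : ∃ S : Full φ ↥(Cfsg.Lie.twistedF4 (ZMod 2) (2 ^ 0)), S.R.p = 2 :=
      ⟨Cfsg.Agent.KFacts.TwF4.Inst.full hK hφ, rfl⟩
    rw [pow_zero] at h0
    exact h0
  exact nrel_comm S

theorem nrel_tits {S : Type*} [Group S] (h : Cfsg.Lie.IsoTits S) : NRel S := by
  obtain ⟨e⟩ := h
  have e' := e.symm
  exact NRel.congr (G := Cfsg.Lie.TitsGroup) e' nrel_titsGroup

/-- **Row `²F₄(q)`, `q ≥ 8`.** -/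
theorem rr_2F4 {S : Type*} [Group S] (h : Cfsg.Lie.Iso2F4 S) : RR S := RR.of_nrel (nrel_2F4 h)

/-- **Row Tits.** -/
theorem rr_tits {S : Type*} [Group S] (h : Cfsg.Lie.IsoTits S) : RR S := RR.of_nrel (nrel_tits h)

end Cfsg.Agent.H368.SR.TwF
end

-- part: H315/SR/Reg
section
/-!
# Regular unipotent elements which are not real (helper315, for S4971, TEAM SR)

* `Setup` lemmas for the root group datum of `D.group K`, `K` a finite field;
* `exists_rpsign` : a representative of `w` acting on the root elements through signs;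
* `nrel_regular` : if `-1` is not a square in `K` and `J` is a set of an odd number of nodes with
  `∑ j ∈ J, ⟨α_j, α_i^∨⟩` even for every `i`, a regular unipotent element of `D.group K` is not real (`E7`:
  `J = {2, 5, 7}`).
-/

set_option autoImplicit false
set_option linter.unusedSectionVars false

namespace Cfsg.Agent.H315.SR

open CoxeterSystem Cfsg Cfsg.Lie Cfsg.Lie.ChevalleyDatum
open Cfsg.Agent.ChevalleyStructure Cfsg.Agent.ChevalleyStructure.Elts Cfsg.Agent.ChevalleyStructure.CoxeterGeom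
  Cfsg.Agent.ChevalleyStructure.CoxeterGeomTypes Cfsg.Agent.ChevalleyStructure.NPerm
open Cfsg.Agent.Tits.Roots Cfsg.Agent.Tits.Core Cfsg.Agent.Nodes Cfsg.Agent.Nodes.Reps Cfsg.Agent.Nodes.BNOf
  Cfsg.Agent.Nodes.RGDChev Cfsg.Agent.Nodes.Bruhat Cfsg.Agent.Nodes.Unique
open Cfsg.Agent.KFacts.RgdField Cfsg.Agent.KFacts.RgdChevCoord Cfsg.Agent.H129.TorusChar
open Cfsg.Agent.H721.SR

universe u

/-! ### products of root elements -/

section Prod

variable {I W Y : Type*} [Fintype I] [DecidableEq I] [Group W] [Group Y] {M : CoxeterMatrix I}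
  {cs : CoxeterSystem M W} {A : I → I → ℤ} {h : IsCartan M A} {p : ℕ} {T : Subgroup Y} {n : I → Y}
  {X : (I → ℤ) → Subgroup Y} (R : RGD cs h p T n X) {S : Set (I → ℤ)}

include R

/-- the components of a product of root elements -/
theorem cmp_prod {a : I → ℤ} (hS : Ind cs h S a) (f : (I → ℤ) → Y) (hf : ∀ z, IsRoot cs h z → f z ∈ X z) :
    ∀ L : List (I → ℤ), L.Nodup → (∀ z ∈ L, z ∈ S) →
      (a ∈ L → Cmp X S a (f a) (L.map f).prod) ∧ (a ∉ L → Cmp X S a 1 (L.map f).prod) := by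
  intro L
  induction L with
  | nil =>
    intro _ _
    refine ⟨fun h => absurd h List.not_mem_nil, fun _ => ?_⟩
    rw [List.map_nil, List.prod_nil]
    exact Cmp.one
  | cons z L ih =>
    intro hL hLS
    rw [List.nodup_cons] at hL
    obtain ⟨ih1, ih2⟩ := ih hL.2 fun z hz => hLS z (List.mem_cons_of_mem _ hz)
    have hzS := hLS z List.mem_cons_self
    rw [List.map_cons, List.prod_cons]
    by_cases hza : z = a
    · subst hza
      refine ⟨fun _ => ?_, fun h => absurd List.mem_cons_self h⟩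
      have h1 := Cmp.mul R hS (Cmp.self (S := S) (hf z (hS.pos hS.mem).1)) (ih2 hL.1)
      rwa [mul_one] at h1
    · have h1 : Cmp X S a 1 (f z) := Cmp.of_ne hzS hza (hf z (hS.pos hzS).1)
      constructor
      · intro h2
        have h3 := ih1 ((List.mem_cons.1 h2).resolve_left (Ne.symm hza))
        have h4 := Cmp.mul R hS h1 h3
        rwa [one_mul] at h4
      · intro h2
        have h3 := ih2 fun h4 => h2 (List.mem_cons_of_mem _ h4)
        have h4 := Cmp.mul R hS h1 h3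
        rwa [one_mul] at h4

end Prod

section

variable {D : ChevalleyDatum} {l : ℕ} {M : CoxeterMatrix (Fin l)} (hp : IsType D l M) {K : Type u} [Field K]
  [Finite K] {W : Type*} [Group W] (cs : CoxeterSystem M W) (p : ℕ) [Fact p.Prime] [CharP K p]

theorem GG_top : GG cs hp.isCartan (TT D K) (XX D l K) = ⊤ :=
  KFacts.RgdRigid.GG_eq_top (G1_eq_top hp cs)

include p in
theorem xc_mem {a : Fin l → ℤ} (ha : IsRoot cs hp.isCartan a) (c : K) : xc hp a c ∈ XX D l K a :=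
  (((coords hp cs p).coord a ha).mem _).2 ⟨c, rfl⟩

include p in
theorem XX_comm {a : Fin l → ℤ} (ha : IsRoot cs hp.isCartan a) : ∀ x ∈ XX D l K a, ∀ y ∈ XX D l K a, x * y = y * x := by
  intro x hx y hy
  have C := (coords (K := K) hp cs p).coord a ha
  obtain ⟨b, rfl⟩ := (C.mem _).1 hx
  obtain ⟨c, rfl⟩ := (C.mem _).1 hy
  rw [← C.add, ← C.add, add_comm]

include p in
theorem xc_neg {a : Fin l → ℤ} (ha : IsRoot cs hp.isCartan a) (c : K) : (xc hp a c)⁻¹ = xc hp a (-c) := by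
  have C := (coords (K := K) hp cs p).coord a ha
  rw [inv_eq_iff_mul_eq_one, ← C.add, add_neg_cancel, C.zero]

/-- the simple roots are indecomposable -/
theorem ind_simple {I W : Type*} [Fintype I] [DecidableEq I] [Group W] {M : CoxeterMatrix I}
    (cs : CoxeterSystem M W) {A : I → I → ℤ} (h : IsCartan M A) (i : I) : Ind cs h (RGD.Pos cs h) (sr i) where
  pos := subset_rfl
  closed := closed_pos
  mem := ⟨isRoot_sr cs h i, sr_nonneg i⟩
  ind := by
    rintro x ⟨hx, hxi⟩ y ⟨hy, hyi⟩ z hz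
    exact ⟨closed_pos x hx y hy z hz, RGD.ne_sr_of_btwn hx.2 hy.1 hy.2 hyi hz⟩

/-- the nodes of `J` give a character which is a square on the torus -/
theorem isSquare_char {t : ↥(D.group K)} (ht : t ∈ TT D K) (J : Finset (Fin l))
    (hJ : ∀ i : ℕ, i < D.rank → Even (∑ j ∈ J, D.cartan i (D.simple j))) :
    IsSquare (∏ j ∈ J, ch hp (sr j) t) := by
  obtain ⟨c, hc, -, hact⟩ := H129.Tor.exists_c hp ht
  have key : ∀ j : Fin l, ch hp (sr j) t = ∏ i ∈ Finset.range D.rank, c i ^ D.cartan i (D.simple j) := by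
    intro j
    rw [← vec_simple hp j]
    apply ch_eq hp (simple_lt hp.inList (lt_rank hp j)) ht
    apply Subtype.ext
    have h1 := hact (D.simple j) (simple_lt hp.inList (lt_rank hp j)) 1
    rw [mul_one] at h1
    rw [Subgroup.coe_mul, Subgroup.coe_mul, Subgroup.coe_inv,
      coe_xc hp (simple_lt hp.inList (lt_rank hp j)), coe_xc hp (simple_lt hp.inList (lt_rank hp j))]
    exact h1
  rw [Finset.prod_congr rfl fun j _ => key j, Finset.prod_comm]
  refine Finset.isSquare_prod _ fun i hi => ?_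
  obtain ⟨m, hm⟩ := hJ i (Finset.mem_range.1 hi)
  refine ⟨c i ^ m, ?_⟩
  rw [← zpow_add₀ (hc i (Finset.mem_range.1 hi)), ← hm]
  have h2 : ∀ s : Finset (Fin l), ∏ j ∈ s, c i ^ D.cartan i (D.simple j) = c i ^ ∑ j ∈ s, D.cartan i (D.simple j) := by
    intro s
    induction s using Finset.induction_on with
    | empty => rw [Finset.prod_empty, Finset.sum_empty, zpow_zero]
    | insert a s ha ih => rw [Finset.prod_insert ha, Finset.sum_insert ha, zpow_add₀ (hc i (Finset.mem_range.1 hi)), ih]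
  exact h2 J

include hp cs p in
/-- **Regular unipotent elements are not real** -/
theorem nrel_regular [Finite W] (J : Finset (Fin l)) (hJo : Odd J.card)
    (hJ : ∀ i : ℕ, i < D.rank → Even (∑ j ∈ J, D.cartan i (D.simple j))) (hK : ¬ IsSquare (-1 : K)) :
    NRel ↥(D.group K) := by
  classical
  have R := rgd (K := K) hp cs p
  set f : (Fin l → ℤ) → ↥(D.group K) := fun z => xc hp z 1 with hf
  have hfm : ∀ z, IsRoot cs hp.isCartan z → f z ∈ XX D l K z := fun z hz => xc_mem hp cs p hz 1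
  set L : List (Fin l → ℤ) := (List.finRange l).map sr with hL
  have hsr_inj : Function.Injective (sr : Fin l → (Fin l → ℤ)) := by
    intro i j hij
    by_contra hne
    have h1 := congrFun hij i
    rw [sr_self, sr_ne hne] at h1
    exact one_ne_zero h1
  have hLn : L.Nodup := (List.nodup_finRange l).map hsr_inj
  have hLS : ∀ z ∈ L, z ∈ RGD.Pos cs hp.isCartan := by
    intro z hz
    obtain ⟨i, -, rfl⟩ := List.mem_map.1 hz
    exact ⟨isRoot_sr cs _ i, sr_nonneg i⟩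
  have hmemL : ∀ i : Fin l, sr i ∈ L := fun i => List.mem_map.2 ⟨i, List.mem_finRange i, rfl⟩
  set u := (L.map f).prod with hu
  have hcmp : ∀ i, Cmp (XX D l K) (RGD.Pos cs hp.isCartan) (sr i) (f (sr i)) u := fun i =>
    (cmp_prod R (ind_simple cs hp.isCartan i) f hfm L hLn hLS).1 (hmemL i)
  refine ⟨u, fun hc => ?_⟩
  obtain ⟨c, hc⟩ := isConj_iff.1 hc
  have hle : ∀ z : ↥(D.group K), RGD.Sup (fun x => XX D l K x ⊓ Subgroup.centralizer {z}) (RGD.Pos cs hp.isCartan) ≤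
      RGD.Sup (XX D l K) (RGD.Pos cs hp.isCartan) := fun z => RGD.Sup_le fun x hx => le_trans inf_le_left (RGD.le_Sup hx)
  by_cases hl : Nonempty (Fin l)
  swap
  · -- no nodes: `J` is empty
    have : J = ∅ := by
      rw [Finset.eq_empty_iff_forall_notMem]
      intro j
      exact absurd ⟨j⟩ hl
    rw [this, Finset.card_empty] at hJo
    exact absurd hJo (by decide)
  obtain ⟨i0⟩ := hl
  have huS : u ∈ RGD.Sup (XX D l K) (RGD.Pos cs hp.isCartan) := Cmp.mem R (ind_simple cs hp.isCartan i0) (hcmp i0)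
  obtain ⟨w, k, hk, -, -, h1, h2⟩ := bruhat_form R (S := RGD.Pos cs hp.isCartan) subset_rfl closed_pos
    (one_mem (TT D K)) (one_mem (TT D K)) (hle 1) (hle 1) (c := c) (u := u) (u' := u⁻¹)
    (by rw [GG_top hp cs]; trivial) (by rw [mul_one, one_mul]) huS (inv_mem huS)
    (by rw [← hc]; group)
  have hw : w = 1 := by
    refine eq_one_of_nonneg cs hp.isCartan w fun i => ?_
    refine h1 (sr i) (ind_simple cs hp.isCartan i) (XX_comm hp cs p (isRoot_sr cs _ i)) fun h3 => ?_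
    have h4 := Cmp.unique R (ind_simple cs hp.isCartan i) (hcmp i) h3
    exact ((coords (K := K) hp cs p).coord (sr i) (isRoot_sr cs _ i)).ne_one one_ne_zero h4
  subst hw
  have hkT : k ∈ TT D K := hk.mem_of_one
  have hch : ∀ i, ch hp (sr i) k = -1 := by
    intro i
    have h3 := h2 (fun a ha => by rw [map_one]; exact ha) (sr i) (ind_simple cs hp.isCartan i)
      (by rw [map_one]; exact ind_simple cs hp.isCartan i) (XX_comm hp cs p (isRoot_sr cs _ i))
      (by rw [map_one]; exact XX_comm hp cs p (isRoot_sr cs _ i)) (f (sr i)) (f (sr i))⁻¹ (hcmp i)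
      (by rw [map_one]; exact Cmp.inv R (ind_simple cs hp.isCartan i) (hcmp i))
    rw [hf] at h3
    change k * xc hp (sr i) 1 * k⁻¹ = (xc hp (sr i) 1)⁻¹ at h3
    rw [xc_neg hp cs p (isRoot_sr cs _ i), (ch_sr_act hp hkT i).2, mul_one] at h3
    exact ((coords (K := K) hp cs p).coord (sr i) (isRoot_sr cs _ i)).inj h3
  apply hK
  have h5 := isSquare_char hp hkT J hJ
  rw [Finset.prod_congr rfl fun j _ => hch j, Finset.prod_const, hJo.neg_one_pow] at h5
  exact h5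

end

end Cfsg.Agent.H315.SR
end

-- part: H315/SR/E7Reg
section
/-!
# `E7(q)`, `q = 3 mod 4` (helper315, for S4971, TEAM SR)
-/

set_option autoImplicit false

namespace Cfsg.Agent.H315.SR

open Cfsg Cfsg.Lie Cfsg.Lie.ChevalleyDatum Cfsg.Agent.Nodes.RGDChev Cfsg.Agent.H721.SR

universe u

theorem hp7 : IsType chevE7 7 CoxeterMatrix.E₇ := by simp [IsType, typeList]

theorem even7 : ∀ i : ℕ, i < chevE7.rank →
    Even (∑ j ∈ ({1, 4, 6} : Finset (Fin 7)), chevE7.cartan i (chevE7.simple j)) := by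
  have h : ∀ i < chevE7.rank, (∑ j ∈ ({1, 4, 6} : Finset (Fin 7)), chevE7.cartan i (chevE7.simple j)) % 2 = 0 := by
    decide +kernel
  intro i hi
  exact Int.even_iff.2 (h i hi)

/-- `E7(q)`, `-1` not a square: a regular unipotent element is not real. -/
theorem nrel_e7_of_not_isSquare (K : Type u) [Field K] [Finite K] (hK : ¬ IsSquare (-1 : K)) :
    NRel ↥(chevE7.group K) := by
  obtain ⟨p, hp⟩ := CharP.exists K
  have : Fact p.Prime := ⟨CharP.char_is_prime K p⟩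
  have := finite_W hp7 CoxeterMatrix.E₇.toCoxeterSystem
  exact nrel_regular hp7 CoxeterMatrix.E₇.toCoxeterSystem p {1, 4, 6} (by decide) even7 hK

end Cfsg.Agent.H315.SR
end

-- part: H315/SR/Btwn
section
/-!
# Intervals in simply laced root systems (helper315, for S4971, TEAM SR)

* `btwn_eq` : in a simply laced system the only root strictly between two positive roots `x ≠ y` is `x + y`;
* `Ind.act` : the Weyl group preserves the indecomposable elements of a finite set `S` with `w S ⊆ S`.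
-/

set_option autoImplicit false
set_option linter.unusedSectionVars false

namespace Cfsg.Agent.H315.SR

open CoxeterSystem Cfsg.Agent.ChevalleyStructure.CoxeterGeom Cfsg.Agent.Tits.Roots Cfsg.Agent.Tits.Core
  Cfsg.Agent.Tits.RootComb Cfsg.Agent.Nodes.Reps Cfsg.Agent.Nodes.BNOf Cfsg.Agent.Nodes.Unique
  Cfsg.Agent.Nodes.Coroot Cfsg.Agent.Nodes.SimplyLaced

variable {I W : Type*} [Fintype I] [DecidableEq I] [Group W] {M : CoxeterMatrix I}
  {cs : CoxeterSystem M W} {A : I → I → ℤ} {h : IsCartan M A}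

theorem ne_neg_of_nonneg {x y : I → ℤ} (hx : IsRoot cs h x) (hx0 : 0 ≤ x) (hy0 : 0 ≤ y) : x ≠ -y := by
  intro e
  exact hx.not_pos_neg hx0 (by rw [e]; exact neg_nonpos.2 hy0)

theorem btwn_eq [Finite W] (h4 : ∀ i j, M i j ≠ 4) (h6 : ∀ i j, M i j ≠ 6) {x y z : I → ℤ} (hx : IsRoot cs h x)
    (hy : IsRoot cs h y) (hx0 : 0 ≤ x) (hy0 : 0 ≤ y) (hxy : x ≠ y) (hz : Btwn cs h x y z) : z = x + y := by
  have hz0 : 0 ≤ z := RGD.nonneg_of_btwn hx0 hy0 hz
  have hzx : z ≠ x := btwn_ne_left hx hy hx0 hy0 hxy hz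
  have hzy : z ≠ y := btwn_ne_right hx hy hx0 hy0 hxy hz
  have hzr := hz.1
  have c1 := abs_cpr_le_one cs h h4 h6 hy hx hxy.symm (ne_neg_of_nonneg hy hy0 hx0)
  have c2 := abs_cpr_le_one cs h h4 h6 hzr hx hzx (ne_neg_of_nonneg hzr hz0 hx0)
  have c3 := abs_cpr_le_one cs h h4 h6 hzr hy hzy (ne_neg_of_nonneg hzr hz0 hy0)
  obtain ⟨-, m, a, b, hm, ha, hb, he⟩ := hz
  have e1 : m * cpr cs h z x = a * 2 + b * cpr cs h y x := by
    have h1 := congrArg (fun v => cpr cs h v x) he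
    simp only [cpr_add cs h _ _ hx, cpr_smul cs h _ _ hx, cpr_self cs h hx] at h1
    exact h1
  have e2 : m * cpr cs h z y = a * cpr cs h y x + b * 2 := by
    have h1 := congrArg (fun v => cpr cs h v y) he
    simp only [cpr_add cs h _ _ hy, cpr_smul cs h _ _ hy, cpr_self cs h hy] at h1
    rw [cpr_symm cs h h4 h6 hx hy] at h1
    exact h1
  have e3 : m * 2 = a * cpr cs h z x + b * cpr cs h z y := by
    have h1 := congrArg (fun v => cpr cs h v z) he
    simp only [cpr_add cs h _ _ hzr, cpr_smul cs h _ _ hzr, cpr_self cs h hzr] at h1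
    rw [cpr_symm cs h h4 h6 hx hzr, cpr_symm cs h h4 h6 hy hzr] at h1
    exact h1
  generalize cpr cs h z x = s at *
  generalize cpr cs h z y = r at *
  generalize cpr cs h y x = c at *
  rw [abs_le] at c1 c2 c3
  have key : a = m ∧ b = m := by
    have hs : s = -1 ∨ s = 0 ∨ s = 1 := by omega
    have hr : r = -1 ∨ r = 0 ∨ r = 1 := by omega
    have hc : c = -1 ∨ c = 0 ∨ c = 1 := by omega
    rcases hs with rfl | rfl | rfl <;> rcases hr with rfl | rfl | rfl <;> rcases hc with rfl | rfl | rfl <;> omega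
  obtain ⟨rfl, rfl⟩ := key
  rw [← smul_add] at he
  funext i
  have h1 := congrFun he i
  rw [Pi.smul_apply, Pi.smul_apply, smul_eq_mul, smul_eq_mul] at h1
  exact mul_left_cancel₀ hm.ne' h1

theorem Ind.act {S : Set (I → ℤ)} (hfin : S.Finite) {a : I → ℤ} (hS : Ind cs h S a) {w : W}
    (hw : ∀ x ∈ S, rep cs h w x ∈ S) : Ind cs h S (rep cs h w a) := by
  have hinj : Set.InjOn (rep cs h w) S := fun x _ y _ e => by
    have h6 := congrArg (rep cs h w⁻¹) e
    rwa [rep_inv_apply, rep_inv_apply] at h6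
  have hsurj : ∀ x ∈ S, rep cs h w⁻¹ x ∈ S := by
    intro x hx
    have h1 : (rep cs h w) '' S = S := by
      refine Set.eq_of_subset_of_ncard_le (Set.image_subset_iff.2 hw) ?_ hfin
      rw [Set.InjOn.ncard_image hinj]
    rw [← h1] at hx
    obtain ⟨y, hy, rfl⟩ := hx
    rw [rep_inv_apply]
    exact hy
  refine ⟨hS.pos, hS.closed, hw a hS.mem, ?_⟩
  rintro x ⟨hx, hxa⟩ y ⟨hy, hya⟩ z hz
  refine ⟨hS.closed x hx y hy z hz, fun hza => ?_⟩
  rw [Set.mem_singleton_iff] at hza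
  have key : ∀ v : I → ℤ, v ≠ rep cs h w a → rep cs h w⁻¹ v ≠ a := by
    intro v hv e
    apply hv
    rw [← e, rep_apply_inv]
  have h1 := hS.ind _ ⟨hsurj x hx, key x hxa⟩ _ ⟨hsurj y hy, key y hya⟩ _ (hz.act w⁻¹)
  apply h1.2
  rw [hza, rep_inv_apply]
  rfl

end Cfsg.Agent.H315.SR
end

-- part: H315/SR/E7Four
section
/-!
# `E7(q)`, `q = 1 mod 8` (helper315, for S4971, TEAM SR)

`s` in the torus of order 4 with centralizer of type `A3 A3 A1`, `u` a product of root elements for a base of this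
subsystem, one of the coordinates not a square: `s u` is not real.
-/

set_option autoImplicit false
set_option linter.unusedSectionVars false

namespace Cfsg.Agent.H315.SR

open CoxeterSystem Cfsg Cfsg.Lie Cfsg.Lie.ChevalleyDatum
open Cfsg.Agent.ChevalleyStructure Cfsg.Agent.ChevalleyStructure.Elts Cfsg.Agent.ChevalleyStructure.CoxeterGeom
  Cfsg.Agent.ChevalleyStructure.CoxeterGeomTypes Cfsg.Agent.ChevalleyStructure.NPerm
  Cfsg.Agent.ChevalleyStructure.RootVec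
open Cfsg.Agent.Tits.Roots Cfsg.Agent.Tits.Core Cfsg.Agent.Nodes Cfsg.Agent.Nodes.Reps Cfsg.Agent.Nodes.BNOf
  Cfsg.Agent.Nodes.RGDChev Cfsg.Agent.Nodes.Bruhat Cfsg.Agent.Nodes.Unique
open Cfsg.Agent.KFacts.RgdField Cfsg.Agent.KFacts.RgdChevCoord Cfsg.Agent.H129.TorusChar
open Cfsg.Agent.H721.SR

universe u

/-! ### splitting a real element -/

/-- `s`, `u` commuting of coprime orders, `h` inverting `s u` inverts `s` and `u`. -/
theorem split_real {G : Type*} [Group G] {s u h : G} (hsu : s * u = u * s) {m n : ℕ} (hs : s ^ m = 1) (hu : u ^ n = 1)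
    (hmn : m.Coprime n) (hh : h * (s * u) * h⁻¹ = (s * u)⁻¹) : h * s * h⁻¹ = s⁻¹ ∧ h * u * h⁻¹ = u⁻¹ := by
  have hc : Commute s u := hsu
  obtain ⟨a, ha1, ha2⟩ := Nat.chineseRemainder hmn 1 0
  obtain ⟨b, hb1, hb2⟩ := Nat.chineseRemainder hmn 0 1
  have e1 : (s * u) ^ a = s := by
    rw [hc.mul_pow, (pow_eq_pow_iff_modEq (x := s)).2 (ha1.of_dvd (orderOf_dvd_of_pow_eq_one hs)),
      (pow_eq_pow_iff_modEq (x := u)).2 (ha2.of_dvd (orderOf_dvd_of_pow_eq_one hu)), pow_one, pow_zero, mul_one]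
  have e2 : (s * u) ^ b = u := by
    rw [hc.mul_pow, (pow_eq_pow_iff_modEq (x := s)).2 (hb1.of_dvd (orderOf_dvd_of_pow_eq_one hs)),
      (pow_eq_pow_iff_modEq (x := u)).2 (hb2.of_dvd (orderOf_dvd_of_pow_eq_one hu)), pow_one, pow_zero, one_mul]
  constructor
  · calc h * s * h⁻¹ = h * (s * u) ^ a * h⁻¹ := by rw [e1]
      _ = (h * (s * u) * h⁻¹) ^ a := (conj_pow).symm
      _ = s⁻¹ := by rw [hh, inv_pow, e1]
  · calc h * u * h⁻¹ = h * (s * u) ^ b * h⁻¹ := by rw [e2]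
      _ = (h * (s * u) * h⁻¹) ^ b := (conj_pow).symm
      _ = u⁻¹ := by rw [hh, inv_pow, e2]

/-! ### representatives acting through signs -/

section

variable {D : ChevalleyDatum} {l : ℕ} {M : CoxeterMatrix (Fin l)} (hp : IsType D l M) {K : Type u} [Field K]
  {W : Type*} [Group W] (cs : CoxeterSystem M W)

theorem nact_sign (i : Fin l) {a : Fin l → ℤ} (ha : IsRoot cs hp.isCartan a) : ∃ η : K, (η = 1 ∨ η = -1) ∧ ∀ c,
    nc hp K i * xc hp a c * (nc hp K i)⁻¹ = xc hp (rep cs hp.isCartan (cs.simple i) a) (η * c) := by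
  obtain ⟨r, hr, rfl⟩ := (isRoot_iff hp cs a).1 ha
  rw [rep_vec hp cs i hr]
  obtain ⟨η, hη, h⟩ := Cfsg.Agent.S1031.result (F := K) D hp.inList i r (lt_rank hp i) hr
  refine ⟨(η : K), ?_, fun a => Subtype.ext ?_⟩
  · rcases hη with rfl | rfl <;> simp
  · rw [Subgroup.coe_mul, Subgroup.coe_mul, Subgroup.coe_inv, coe_xc hp hr,
      coe_xc hp (reflectRoot_lt hp.inList (lt_rank hp i) hr)]
    show nG hp.inList (D.simple i) 1 * _ * (nG hp.inList (D.simple i) 1)⁻¹ = _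
    rw [mul_inv_eq_iff_eq_mul]
    apply Units.ext
    rw [Units.val_mul, Units.val_mul, coe_nG, coe_xG, coe_xG]
    exact h a

theorem exists_rpsign (w : W) : ∃ n : ↥(D.group K), (∀ hN : NSys M (TT D K) (nc hp K), Rp cs hN w n) ∧
    ∀ a, IsRoot cs hp.isCartan a → ∃ η : K, (η = 1 ∨ η = -1) ∧ ∀ c,
      n * xc hp a c * n⁻¹ = xc hp (rep cs hp.isCartan w a) (η * c) := by
  obtain ⟨ω, rfl⟩ := cs.wordProd_surjective w
  induction ω with
  | nil =>
    refine ⟨1, fun hN => by rw [wordProd_nil]; exact rp_one, fun a _ => ⟨1, Or.inl rfl, fun c => ?_⟩⟩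
    rw [wordProd_nil, map_one, Module.End.one_apply, one_mul, one_mul, inv_one, mul_one]
  | cons i ω ih =>
    obtain ⟨n, hn, h1⟩ := ih
    refine ⟨nc hp K i * n, fun hN => ?_, fun a ha => ?_⟩
    · rw [wordProd_cons]; exact (rp_simple cs hN i).mul (hn hN)
    · obtain ⟨η, hη, h2⟩ := h1 a ha
      obtain ⟨θ, hθ, h3⟩ := nact_sign (K := K) hp cs i (ha.act (cs.wordProd ω))
      refine ⟨θ * η, ?_, fun c => ?_⟩
      · rcases hη with rfl | rfl <;> rcases hθ with rfl | rfl <;> simp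
      · rw [wordProd_cons, rep_mul_apply, mul_assoc θ, ← h3, ← h2]
        group

end

/-! ### the base -/

/-- the lowest root of `Ψ` involving `α_4` -/
def be : Fin 7 → ℤ := ![1, 2, 2, 4, 3, 2, 1]

/-- the base of the subsystem `A3 A3 A1` -/
def pp (j : Fin 7) : Fin 7 → ℤ := if j = 3 then be else sr j

/-- the exponents -/
def mm : Fin 7 → ℕ := ![3, 2, 2, 1, 1, 2, 3]

theorem pp_three : pp 3 = be := if_pos rfl

theorem pp_ne {j : Fin 7} (hj : j ≠ 3) : pp j = sr j := if_neg hj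

theorem pp_nonneg : ∀ j i, 0 ≤ pp j i := by decide +kernel

theorem pp_inj : Function.Injective pp := by
  have h : ∀ i j, pp i = pp j → i = j := by decide +kernel
  exact fun i j => h i j

theorem sum_pp : ∀ i, ∑ j, (mm j : ℤ) * pp j i = 4 := by decide +kernel

theorem tab_be : ∃ r, r < chevE7.nroots ∧ ∀ i : Fin 7, rt chevE7 r i = be i := by decide +kernel

theorem tab_ge : ∀ r < chevE7.nroots, (∀ i : Fin 7, 0 ≤ rt chevE7 r i) → rt chevE7 r 3 % 4 = 0 →
    rt chevE7 r 3 = 0 ∨ (rt chevE7 r 3 = 4 ∧ ∀ i : Fin 7, be i ≤ rt chevE7 r i) := by decide +kernel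

/-! ### the subsystem -/

section Main

variable {W : Type*} [Group W] (cs : CoxeterSystem CoxeterMatrix.E₇ W)

theorem hc7 : IsCartan CoxeterMatrix.E₇ (cartanOf chevE7 7) := hp7.isCartan

/-- the positive roots of `Ψ` -/
def SS : Set (Fin 7 → ℤ) := {x | IsRoot cs hc7 x ∧ 0 ≤ x ∧ (4 : ℤ) ∣ x 3}

theorem SS_pos : SS cs ⊆ RGD.Pos cs hc7 := fun _ hx => ⟨hx.1, hx.2.1⟩

set_option backward.isDefEq.respectTransparency false in
theorem E7_ne_four : ∀ i j, CoxeterMatrix.E₇ i j ≠ 4 := by decide +kernel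

set_option backward.isDefEq.respectTransparency false in
theorem E7_ne_six : ∀ i j, CoxeterMatrix.E₇ i j ≠ 6 := by decide +kernel

theorem btwn_eq7 [Finite W] {x y z : Fin 7 → ℤ} (hx : x ∈ RGD.Pos cs hc7) (hy : y ∈ RGD.Pos cs hc7)
    (hz : Btwn cs hc7 x y z) : (x = y ∧ z = x) ∨ z = x + y := by
  by_cases hxy : x = y
  · subst hxy
    exact Or.inl ⟨rfl, btwn_self hx.1 hz⟩
  · exact Or.inr (btwn_eq E7_ne_four E7_ne_six hx.1 hy.1 hx.2 hy.2 hxy hz)

theorem SS_closed [Finite W] : Closed cs hc7 (SS cs) := by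
  intro x hx y hy z hz
  rcases btwn_eq7 cs (SS_pos cs hx) (SS_pos cs hy) hz with ⟨-, rfl⟩ | h
  · exact hx
  · refine ⟨hz.1, RGD.nonneg_of_btwn hx.2.1 hy.2.1 hz, ?_⟩
    rw [h]
    exact dvd_add hx.2.2 hy.2.2

theorem isRoot_be : IsRoot cs hc7 be := by
  obtain ⟨r, hr, h⟩ := tab_be
  have h1 : vec chevE7 7 r = be := funext fun i => h i
  rw [← h1]
  exact isRoot_vec hp7 cs hr

theorem isRoot_pp (j : Fin 7) : IsRoot cs hc7 (pp j) := by
  by_cases hj : j = 3
  · rw [hj, pp_three]; exact isRoot_be cs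
  · rw [pp_ne hj]; exact isRoot_sr cs _ j

theorem pp_mem (j : Fin 7) : pp j ∈ SS cs := by
  refine ⟨isRoot_pp cs j, pp_nonneg j, ?_⟩
  have h : ∀ j, (4 : ℤ) ∣ pp j 3 := by decide +kernel
  exact h j

theorem SS_cases {x : Fin 7 → ℤ} (hx : x ∈ SS cs) : x 3 = 0 ∨ (x 3 = 4 ∧ be ≤ x) := by
  obtain ⟨r, hr, rfl⟩ := (isRoot_iff hp7 cs x).1 hx.1
  have h1 := tab_ge r hr (fun i => hx.2.1 i) (Int.emod_eq_zero_of_dvd hx.2.2)
  rcases h1 with h1 | h1
  · exact Or.inl h1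
  · exact Or.inr ⟨h1.1, fun i => h1.2 i⟩

theorem ind_pp [Finite W] (j : Fin 7) : Ind cs hc7 (SS cs) (pp j) := by
  refine ⟨SS_pos cs, SS_closed cs, pp_mem cs j, ?_⟩
  rintro x ⟨hx, hxa⟩ y ⟨hy, hya⟩ z hz
  refine ⟨SS_closed cs x hx y hy z hz, fun hza => ?_⟩
  rw [Set.mem_singleton_iff] at hza hxa hya
  rcases btwn_eq7 cs (SS_pos cs hx) (SS_pos cs hy) hz with ⟨-, h⟩ | h
  · exact hxa (h.symm.trans hza)
  · by_cases hj : j = 3
    · rw [hj, pp_three] at hza
      -- `β = x + y`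
      rw [hza] at h
      have h3 : x 3 + y 3 = 4 := by
        have := congrFun h 3
        rw [Pi.add_apply] at this
        rw [← this]; rfl
      rcases SS_cases cs hx with h4 | ⟨-, h4⟩
      · rcases SS_cases cs hy with h5 | ⟨-, h5⟩
        · omega
        · refine hx.1.not_pos_neg hx.2.1 fun i => ?_
          have h6 := congrFun h i
          have h7 := h5 i
          rw [Pi.add_apply] at h6
          rw [Pi.zero_apply]
          linarith
      · refine hy.1.not_pos_neg hy.2.1 fun i => ?_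
        have h6 := congrFun h i
        have h7 := h4 i
        rw [Pi.add_apply] at h6
        rw [Pi.zero_apply]
        linarith
    · rw [pp_ne hj] at hza
      have h5 : y ≠ sr j := by rw [← pp_ne hj]; exact hya
      exact RGD.ne_sr_of_btwn hx.2.1 hy.1 hy.2.1 h5 hz hza

/-- an element making the base positive makes `Ψ⁺` positive -/
theorem rep_nonneg {w : W} (hw : ∀ j, 0 ≤ rep cs hc7 w (pp j)) {x : Fin 7 → ℤ} (hx : x ∈ SS cs) :
    0 ≤ rep cs hc7 w x := by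
  have key : ∀ y : Fin 7 → ℤ, 0 ≤ y → y 3 = 0 → 0 ≤ rep cs hc7 w y := by
    intro y hy h3
    rw [IsMC.eq_sum_sr y, map_sum]
    refine Finset.sum_nonneg fun j _ => ?_
    rw [map_zsmul]
    by_cases hj : j = 3
    · rw [hj, h3, zero_smul]
    · have h1 := hw j
      rw [pp_ne hj] at h1
      exact smul_nonneg (hy j) h1
  rcases SS_cases cs hx with h3 | ⟨h4, h3⟩
  · exact key x hx.2.1 h3
  · have h1 : x = be + (x - be) := by abel
    rw [h1, map_add]
    refine add_nonneg ?_ (key _ (sub_nonneg.2 h3) ?_)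
    · have := hw 3
      rwa [pp_three] at this
    · rw [Pi.sub_apply, h4]; rfl

/-! ### the permutation of the base -/

/-- the exponent of the image of the node `β` -/
theorem mm_image (π : Equiv.Perm (Fin 7)) {w : W} (hπ : ∀ j, rep cs hc7 w (pp j) = pp (π j))
    (h3 : (4 : ℤ) ∣ 1 + rep cs hc7 w 1 3) : mm (π 3) = 3 := by
  obtain ⟨x, hx⟩ : ∃ x, x = rep cs hc7 w (1 : Fin 7 → ℤ) := ⟨_, rfl⟩
  have h1 : ∀ i, 4 * x i = ∑ j, (mm j : ℤ) * pp (π j) i := by
    intro i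
    have e1 : (4 : ℤ) • (1 : Fin 7 → ℤ) = ∑ j, (mm j : ℤ) • pp j := by
      funext i
      rw [Finset.sum_apply, Pi.smul_apply, Pi.one_apply, smul_eq_mul, mul_one]
      simp only [Pi.smul_apply, smul_eq_mul]
      exact (sum_pp i).symm
    have e2 := congrArg (rep cs hc7 w) e1
    rw [map_zsmul, map_sum, ← hx] at e2
    have e3 := congrFun e2 i
    rw [Finset.sum_apply, Pi.smul_apply, smul_eq_mul] at e3
    rw [e3]
    refine Finset.sum_congr rfl fun j _ => ?_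
    rw [map_zsmul, hπ, Pi.smul_apply, smul_eq_mul]
  have h2 : ∀ i, 4 * x i = ∑ b, (mm (π.symm b) : ℤ) * pp b i := by
    intro i
    rw [h1 i, ← Equiv.sum_comp π fun b => (mm (π.symm b) : ℤ) * pp b i]
    refine Finset.sum_congr rfl fun j _ => ?_
    rw [Equiv.symm_apply_apply]
  -- the value of the sum
  have h4 : ∀ (f : Fin 7 → ℤ) (i : Fin 7), i ≠ 3 → ∑ b, f b * pp b i = f 3 * be i + f i := by
    intro f i hi
    have hb : ∀ b, f b * pp b i = (if b = 3 then f 3 * be i else 0) + (if b = i then f i else 0) := by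
      intro b
      by_cases hb3 : b = 3
      · subst hb3
        rw [pp_three, if_pos rfl, if_neg (Ne.symm hi), add_zero]
      · rw [pp_ne hb3, if_neg hb3, zero_add]
        by_cases hbi : b = i
        · subst hbi
          rw [if_pos rfl, sr_self, mul_one]
        · rw [if_neg hbi, sr_ne (Ne.symm hbi), mul_zero]
    rw [Finset.sum_congr rfl fun b _ => hb b, Finset.sum_add_distrib, Finset.sum_ite_eq' Finset.univ,
      Finset.sum_ite_eq' Finset.univ, if_pos (Finset.mem_univ _), if_pos (Finset.mem_univ _)]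
  have h5 : ∀ (f : Fin 7 → ℤ), ∑ b, f b * pp b 3 = f 3 * 4 := by
    intro f
    rw [Finset.sum_eq_single 3]
    · rw [pp_three]; rfl
    · intro b _ hb
      rw [pp_ne hb, sr_ne (Ne.symm hb), mul_zero]
    · intro h
      exact absurd (Finset.mem_univ _) h
  have h6 := h2 3
  rw [h5 fun b => (mm (π.symm b) : ℤ)] at h6
  rw [← hx] at h3
  have hm : ∀ b : Fin 7, (4 : ℤ) ∣ 1 + mm b → mm b = 3 ∧ b ≠ 3 := by decide +kernel
  have h7 := hm (π.symm 3) (by
    have : (x 3 : ℤ) = mm (π.symm 3) := by linarith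
    rwa [this] at h3)
  have hne : π 3 ≠ 3 := by
    intro h
    apply h7.2
    rw [Equiv.symm_apply_eq]
    exact h.symm
  have h8 := h2 (π 3)
  rw [h4 (fun b => (mm (π.symm b) : ℤ)) (π 3) hne, h7.1, Equiv.symm_apply_apply] at h8
  have hb : ∀ b : Fin 7, b ≠ 3 → (4 : ℤ) ∣ 3 * be b + 1 → mm b = 3 := by decide +kernel
  refine hb _ hne ⟨x (π 3), ?_⟩
  rw [h8]
  rfl

/-! ### the field -/

variable {K : Type u} [Field K]

/-- the arithmetic of the coordinates: `X` a character, `X (π j) η_j c_j = - c_{π j}`, `mm (π 3) = 3` -/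
theorem square_of_rel {ζ ν y : K} (hζ : ζ ^ 4 = -1) (hν : ν ≠ 0) (π : Equiv.Perm (Fin 7)) (hπ : mm (π 3) = 3)
    {X η : Fin 7 → K} (hη : ∀ j, η j = 1 ∨ η j = -1)
    (hX : ∀ j, X (π j) * (η j * (if j = 3 then ν else 1)) = -(if π j = 3 then ν else 1))
    (hy : ∏ b, X b ^ mm b = y ^ 4) : IsSquare ν := by
  have hζ0 : ζ ≠ 0 := by
    rintro rfl
    rw [zero_pow (by norm_num)] at hζ
    exact neg_ne_zero.2 one_ne_zero hζ.symm
  -- multiply everything
  have h1 : (∏ j, X (π j) ^ mm (π j)) * ((∏ j, η j ^ mm (π j)) * ∏ j, (if j = 3 then ν else 1) ^ mm (π j)) =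
      (∏ j, (-1 : K) ^ mm (π j)) * ∏ j, (if π j = 3 then ν else 1) ^ mm (π j) := by
    rw [← Finset.prod_mul_distrib, ← Finset.prod_mul_distrib, ← Finset.prod_mul_distrib]
    refine Finset.prod_congr rfl fun j _ => ?_
    rw [← mul_pow, ← mul_pow, hX, ← mul_pow, neg_one_mul]
  rw [Equiv.prod_comp π fun b => X b ^ mm b, Equiv.prod_comp π fun b => (if b = 3 then ν else 1) ^ mm b, hy] at h1
  have h2 : ∏ b, (if b = 3 then ν else 1) ^ mm b = ν := by
    rw [Finset.prod_eq_single 3]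
    · rw [if_pos rfl]; exact pow_one ν
    · intro b _ hb
      rw [if_neg hb, one_pow]
    · intro h; exact absurd (Finset.mem_univ _) h
  have h3 : ∏ j, (if j = 3 then ν else 1) ^ mm (π j) = ν ^ 3 := by
    rw [Finset.prod_eq_single 3]
    · rw [if_pos rfl, hπ]
    · intro b _ hb
      rw [if_neg hb, one_pow]
    · intro h; exact absurd (Finset.mem_univ _) h
  rw [h2, h3] at h1
  have hs : ∀ (f : Fin 7 → K), (∀ j, f j = 1 ∨ f j = -1) → (∏ j, f j = 1 ∨ ∏ j, f j = -1) := by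
    intro f hf
    refine Finset.prod_induction f (fun x => x = 1 ∨ x = -1) ?_ (Or.inl rfl) fun j _ => hf j
    rintro a b (rfl | rfl) (rfl | rfl) <;> simp
  have hpm : ∀ (x : K) (n : ℕ), (x = 1 ∨ x = -1) → (x ^ n = 1 ∨ x ^ n = -1) := by
    rintro x n (rfl | rfl)
    · left; exact one_pow n
    · exact neg_one_pow_eq_or K n
  have h4 := hs _ fun j => hpm (η j) (mm (π j)) (hη j)
  have h5 := hs _ fun j => hpm (-1 : K) (mm (π j)) (Or.inr rfl)
  -- `(ν y²)² = ± 1`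
  have hpos : IsSquare (-1 : K) := ⟨ζ ^ 2, by rw [← hζ]; ring⟩
  have h6 : (ν * y ^ 2) ^ 2 = 1 ∨ (ν * y ^ 2) ^ 2 = -1 := by
    rcases h4 with h4 | h4 <;> rcases h5 with h5 | h5 <;> rw [h4, h5] at h1
    · left
      have : ν * ((ν * y ^ 2) ^ 2) = ν * 1 := by linear_combination h1
      exact mul_left_cancel₀ hν this
    · right
      have : ν * ((ν * y ^ 2) ^ 2) = ν * -1 := by linear_combination h1
      exact mul_left_cancel₀ hν this
    · right
      have : ν * ((ν * y ^ 2) ^ 2) = ν * -1 := by linear_combination -h1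
      exact mul_left_cancel₀ hν this
    · left
      have : ν * ((ν * y ^ 2) ^ 2) = ν * 1 := by linear_combination -h1
      exact mul_left_cancel₀ hν this
  have h7 : IsSquare (ν * y ^ 2) := by
    rcases h6 with h6 | h6
    · rcases sq_eq_one_iff.1 h6 with h | h
      · rw [h]; exact ⟨1, (one_mul 1).symm⟩
      · rw [h]; exact hpos
    · -- `(ν y²)² = (ζ²)²`
      have h8 : (ν * y ^ 2) ^ 2 = (ζ ^ 2) ^ 2 := by rw [h6, ← hζ]; ring
      rcases sq_eq_sq_iff_eq_or_eq_neg.1 h8 with h | h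
      · rw [h]; exact ⟨ζ, by ring⟩
      · rw [h]
        exact ⟨ζ ^ 3, by linear_combination (-ζ ^ 2) * hζ⟩
  have hy0 : y ≠ 0 := by
    rintro rfl
    rw [zero_pow (by norm_num : (2 : ℕ) ≠ 0), mul_zero, zero_pow (by norm_num : (2 : ℕ) ≠ 0)] at h6
    rcases h6 with h6 | h6
    · exact zero_ne_one h6
    · exact neg_ne_zero.2 one_ne_zero h6.symm
  obtain ⟨r, hr⟩ := h7
  refine ⟨r / y, ?_⟩
  field_simp
  rw [hr]; ring

/-! ### the theorem -/

/-- the coordinates -/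
noncomputable def cz (ν : K) (z : Fin 7 → ℤ) : K := if z = be then ν else 1

theorem cz_pp (ν : K) (j : Fin 7) : cz ν (pp j) = if j = 3 then ν else 1 := by
  unfold cz
  by_cases hj : j = 3
  · rw [hj, pp_three, if_pos rfl, if_pos rfl]
  · rw [if_neg hj, if_neg]
    intro h
    rw [← pp_three] at h
    exact hj (pp_inj h)

theorem locFin_of_finite [Finite K] : BpExc.TowChev.LocFin K := fun _ _ => ⟨⊤, inferInstance, fun _ _ => trivial⟩

include cs in
/-- **`E7(q)`, `q = 1 mod 8`** -/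
theorem nrel_e7_eight' [Finite W] [Finite K] {ζ : K} (hζ : IsPrimitiveRoot ζ 8) : NRel ↥(chevE7.group K) := by
  classical
  obtain ⟨p, hpK⟩ := CharP.exists K
  have hpf : Fact p.Prime := ⟨CharP.char_is_prime K p⟩
  have R := rgd (K := K) hp7 cs p
  have hζ0 : ζ ≠ 0 := hζ.ne_zero (by norm_num)
  -- `i = ζ²` is a primitive fourth root of one
  have hi : IsPrimitiveRoot (ζ ^ 2) 4 := hζ.pow (by norm_num) (by norm_num)
  have hζ4 : ζ ^ 4 = -1 := by
    have h1 : (ζ ^ 4) ^ 2 = 1 := by rw [← pow_mul]; exact hζ.pow_eq_one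
    rcases sq_eq_one_iff.1 h1 with h | h
    · exact absurd h (hζ.pow_ne_one_of_pos_of_lt (by norm_num) (by norm_num))
    · exact h
  have h2K : (2 : K) ≠ 0 := by
    intro h2
    apply hζ.pow_ne_one_of_pos_of_lt (l := 4) (by norm_num) (by norm_num)
    rw [hζ4]
    have h3 : (1 : K) + 1 = 0 := by rw [one_add_one_eq_two]; exact h2
    exact neg_eq_of_add_eq_zero_left h3
  have hp2 : p ≠ 2 := by
    rintro rfl
    exact h2K (by exact_mod_cast CharP.cast_eq_zero K 2)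
  -- a non-square
  obtain ⟨ν, hν⟩ : ∃ ν : K, ¬ IsSquare ν := by
    have : Fintype K := Fintype.ofFinite K
    refine FiniteField.exists_nonsquare ?_
    rw [ringChar.eq K p]
    exact hp2
  have hν0 : ν ≠ 0 := by
    rintro rfl
    exact hν ⟨0, (mul_zero 0).symm⟩
  -- the torus element
  have hφ : IsMC (fun x : Fin 7 → ℤ => (ζ ^ 2) ^ x 3) :=
    { zero := by rw [Pi.zero_apply, zpow_zero]
      add := fun x y => by rw [Pi.add_apply, zpow_add₀ (pow_ne_zero 2 hζ0)] }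
  obtain ⟨s, hs, hcs⟩ := exists_cX hp7 invC_E7 (by norm_num) hφ fun i => by
    by_cases h : i = 3
    · exact ⟨ζ, by rw [h, sr_self, zpow_one]⟩
    · exact ⟨1, by rw [sr_ne (Ne.symm h), zpow_zero, one_pow]⟩
  have hs4 : s ^ 4 = 1 := by
    refine cX_inj hp7 (pow_mem hs 4) (one_mem _) fun i => ?_
    rw [cX_pow hp7 hs, hcs, cX_one, ← zpow_natCast, ← zpow_mul]
    refine (hi.zpow_eq_one_iff_dvd _).2 ?_
    exact Dvd.intro_left _ rfl
  have hchs : ∀ a, IsRoot cs hc7 a → (ch hp7 a s = 1 ↔ (4 : ℤ) ∣ a 3) := by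
    intro a ha
    rw [← cX_root hp7 cs hs ha, hcs]
    exact hi.zpow_eq_one_iff_dvd _
  have C := coords (K := K) hp7 cs p
  have hcent : RGD.Sup (fun x => XX chevE7 7 K x ⊓ Subgroup.centralizer {s}) (RGD.Pos cs hc7) ≤
      RGD.Sup (XX chevE7 7 K) (SS cs) := by
    refine RGD.Sup_le fun a ha y hy => ?_
    obtain ⟨c, rfl⟩ := ((C.coord a ha.1).mem _).1 hy.1
    have h1 := Subgroup.mem_centralizer_singleton_iff.1 hy.2
    have h2 : s * xc hp7 a c * s⁻¹ = xc hp7 a c := by rw [← h1]; group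
    rw [(C.coord a ha.1).act s hs] at h2
    have h3 := (C.coord a ha.1).inj h2
    by_cases hc0 : c = 0
    · rw [hc0, (C.coord a ha.1).zero]
      exact one_mem _
    · have h4 : ch hp7 a s = 1 := mul_right_cancel₀ hc0 (by rw [h3, one_mul])
      exact RGD.le_Sup (S := SS cs) ⟨ha.1, ha.2, (hchs a ha.1).1 h4⟩ hy.1
  -- the unipotent element
  set f : (Fin 7 → ℤ) → ↥(chevE7.group K) := fun z => xc hp7 z (cz ν z) with hf
  have hfm : ∀ z, IsRoot cs hc7 z → f z ∈ XX chevE7 7 K z := fun z hz => xc_mem hp7 cs p hz _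
  set L : List (Fin 7 → ℤ) := (List.finRange 7).map pp with hL
  have hLn : L.Nodup := (List.nodup_finRange 7).map pp_inj
  have hLm : ∀ z, z ∈ L ↔ ∃ j, pp j = z := fun z => by simp [hL]
  have hLS : ∀ z ∈ L, z ∈ SS cs := by
    intro z hz
    obtain ⟨j, rfl⟩ := (hLm z).1 hz
    exact pp_mem cs j
  set u := (L.map f).prod with hu
  have hcmp : ∀ a, Ind cs hc7 (SS cs) a → (a ∈ L → Cmp (XX chevE7 7 K) (SS cs) a (f a) u) ∧
      (a ∉ L → Cmp (XX chevE7 7 K) (SS cs) a 1 u) := fun a ha => cmp_prod R ha f hfm L hLn hLS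
  have huS : u ∈ RGD.Sup (XX chevE7 7 K) (SS cs) :=
    Cmp.mem R (ind_pp cs 0) ((hcmp _ (ind_pp cs 0)).1 ((hLm _).2 ⟨0, rfl⟩))
  have hsu : s * u = u * s := by
    have h1 : u ∈ Subgroup.centralizer {s} := by
      refine Subgroup.list_prod_mem _ fun y hy => ?_
      obtain ⟨z, hz, rfl⟩ := List.mem_map.1 hy
      have hzS := hLS z hz
      rw [Subgroup.mem_centralizer_singleton_iff]
      have h2 := (C.coord z hzS.1).act s hs (cz ν z)
      rw [(hchs z hzS.1).2 hzS.2.2, one_mul] at h2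
      show xc hp7 z (cz ν z) * s = s * xc hp7 z (cz ν z)
      conv_lhs => rw [← h2]
      group
    exact (Subgroup.mem_centralizer_singleton_iff.1 h1).symm
  obtain ⟨e, he⟩ : ∃ e, u ^ p ^ e = 1 := by
    obtain ⟨e, he⟩ := R.isPGroup_Upos ⟨u, RGD.Sup_mono (SS_pos cs) huS⟩
    exact ⟨e, congrArg Subtype.val he⟩
  refine ⟨s * u, fun hc => ?_⟩
  obtain ⟨c, hc⟩ := isConj_iff.1 hc
  obtain ⟨hc1, hc2⟩ := split_real hsu hs4 he (Nat.Coprime.pow_right e (by
    have h1 : (4 : ℕ) = 2 ^ 2 := by norm_num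
    rw [h1]
    exact Nat.Coprime.pow_left 2 ((Nat.coprime_primes Nat.prime_two hpf.out).2 (Ne.symm hp2)))) hc
  have hcinv : RGD.Sup (fun x => XX chevE7 7 K x ⊓ Subgroup.centralizer {s⁻¹}) (RGD.Pos cs hc7) ≤
      RGD.Sup (XX chevE7 7 K) (SS cs) := by
    refine le_trans (RGD.Sup_le fun a ha => ?_) hcent
    refine le_trans ?_ (RGD.le_Sup (X := fun x => XX chevE7 7 K x ⊓ Subgroup.centralizer {s}) ha)
    refine inf_le_inf_left _ fun y hy => ?_
    have h1 := Subgroup.mem_centralizer_singleton_iff.1 hy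
    rw [Subgroup.mem_centralizer_singleton_iff]
    calc y * s = s * (s⁻¹ * y) * s := by group
      _ = s * (y * s⁻¹) * s := by rw [h1]
      _ = s * y := by group
  obtain ⟨w, k, hk, hks, -, h1, h2⟩ := bruhat_form R (S := SS cs) (SS_pos cs) (SS_closed cs) hs (inv_mem hs) hcent
    hcinv (c := c) (u := u) (u' := u⁻¹) (by rw [GG_top hp7 cs]; trivial) (by rw [← hc1]; group) huS (inv_mem huS)
    (by rw [← hc2]; group)
  have hfne : ∀ j, f (pp j) ≠ 1 := by
    intro j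
    refine (C.coord _ (isRoot_pp cs j)).ne_one ?_
    rw [cz_pp]
    split_ifs
    · exact hν0
    · exact one_ne_zero
  have hw0 : ∀ j, 0 ≤ rep cs hc7 w (pp j) := by
    intro j
    refine h1 _ (ind_pp cs j) (XX_comm hp7 cs p (isRoot_pp cs j)) fun h3 => ?_
    exact hfne j (Cmp.unique R (ind_pp cs j) ((hcmp _ (ind_pp cs j)).1 ((hLm _).2 ⟨j, rfl⟩)) h3)
  -- `w` acts on the lattice modulo `4`
  have hw4 : ∀ x : Fin 7 → ℤ, (4 : ℤ) ∣ x 3 + rep cs hc7 w x 3 := by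
    intro x
    have h3 := cX_rp hp7 cs locFin_of_finite p hk hs x
    have h4 : k * s * k⁻¹ = s⁻¹ := by rw [hks]; group
    have h5 : ∀ y, cX hp7 s⁻¹ y * cX hp7 s y = 1 := by
      intro y
      rw [← cX_mul hp7 (inv_mem hs) hs, inv_mul_cancel, cX_one]
    have h6 := h5 (rep cs hc7 w x)
    rw [h4] at h3
    rw [h3, hcs, hcs, ← zpow_add₀ (pow_ne_zero 2 hζ0)] at h6
    exact (hi.zpow_eq_one_iff_dvd _).1 h6
  have hwS : ∀ a ∈ SS cs, rep cs hc7 w a ∈ SS cs := by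
    intro a ha
    refine ⟨ha.1.act w, rep_nonneg cs hw0 ha, ?_⟩
    exact (dvd_add_right ha.2.2).1 (hw4 a)
  have hfin : (SS cs).Finite := finite_pos.subset (SS_pos cs)
  -- the permutation
  have hperm : ∀ j, ∃ j', rep cs hc7 w (pp j) = pp j' ∧ k * f (pp j) * k⁻¹ = (f (pp j'))⁻¹ := by
    intro j
    have hI := (ind_pp cs j).act hfin hwS
    have hc3 := (hcmp _ (ind_pp cs j)).1 ((hLm _).2 ⟨j, rfl⟩)
    have hco := XX_comm (K := K) hp7 cs p (isRoot_pp cs j)
    have hco' := XX_comm (K := K) hp7 cs p (hI.pos hI.mem).1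
    by_cases hL' : rep cs hc7 w (pp j) ∈ L
    · obtain ⟨j', hj'⟩ := (hLm _).1 hL'
      refine ⟨j', hj'.symm, ?_⟩
      have h3 := h2 hwS _ (ind_pp cs j) hI hco hco' _ _ hc3 (Cmp.inv R hI ((hcmp _ hI).1 hL'))
      rw [h3, hj']
    · exfalso
      have h3 := h2 hwS _ (ind_pp cs j) hI hco hco' _ _ hc3 (Cmp.inv R hI ((hcmp _ hI).2 hL'))
      apply hfne j
      rw [inv_one] at h3
      exact conj_eq_one_iff.1 h3
  choose π hπ1 hπ2 using hperm
  have hπinj : Function.Injective π := by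
    intro i j hij
    apply pp_inj
    have h3 : rep cs hc7 w (pp i) = rep cs hc7 w (pp j) := by rw [hπ1, hπ1, hij]
    have h6 := congrArg (rep cs hc7 w⁻¹) h3
    rwa [rep_inv_apply, rep_inv_apply] at h6
  set σ : Equiv.Perm (Fin 7) := Equiv.ofBijective π (Finite.injective_iff_bijective.1 hπinj) with hσ
  have hmm := mm_image cs σ hπ1 (hw4 1)
  -- the torus part
  obtain ⟨n, hn, hη⟩ := exists_rpsign (K := K) hp7 cs w
  obtain ⟨t, ht⟩ : ∃ t, t = k * n⁻¹ := ⟨_, rfl⟩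
  have htT : t ∈ TT chevE7 K := by
    have h3 := hk.mul (hn R.nsys).inv
    rw [mul_inv_cancel] at h3
    rw [ht]
    exact h3.mem_of_one
  have hη' : ∀ j, ∃ η : K, (η = 1 ∨ η = -1) ∧ ∀ c, n * xc hp7 (pp j) c * n⁻¹ = xc hp7 (pp (π j)) (η * c) := by
    intro j
    obtain ⟨η, h3, h4⟩ := hη _ (isRoot_pp cs j)
    exact ⟨η, h3, fun c => by rw [h4, hπ1]⟩
  choose η hη1 hη2 using hη'
  refine hν (square_of_rel (ζ := ζ) (y := cX hp7 t 1) hζ4 hν0 σ hmm (X := fun b => cX hp7 t (pp b)) hη1 ?_ ?_)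
  · intro j
    have h3 := hπ2 j
    have hr := isRoot_pp cs (π j)
    change k * xc hp7 (pp j) (cz ν (pp j)) * k⁻¹ = (xc hp7 (pp (π j)) (cz ν (pp (π j))))⁻¹ at h3
    rw [xc_neg hp7 cs p hr, cz_pp, cz_pp] at h3
    have h4 : k = t * n := by rw [ht]; group
    have h5 : k * xc hp7 (pp j) (if j = 3 then ν else 1) * k⁻¹ =
        t * (n * xc hp7 (pp j) (if j = 3 then ν else 1) * n⁻¹) * t⁻¹ := by rw [h4]; group
    rw [h5, hη2, (C.coord _ hr).act t htT] at h3
    have h6 := (C.coord _ hr).inj h3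
    show cX hp7 t (pp (π j)) * (η j * _) = -(if π j = 3 then ν else 1)
    rw [cX_root hp7 cs htT hr]
    exact h6
  · have hMC := isMC_cX hp7 htT
    have h3 : (4 : ℤ) • (1 : Fin 7 → ℤ) = ∑ j, (mm j : ℤ) • pp j := by
      funext i
      rw [Finset.sum_apply, Pi.smul_apply, Pi.one_apply, smul_eq_mul, mul_one]
      simp only [Pi.smul_apply, smul_eq_mul]
      exact (sum_pp i).symm
    have h4 := hMC.zsmul 4 1
    rw [h3, hMC.sum_smul] at h4
    simp only [zpow_natCast] at h4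
    rw [h4]
    exact zpow_natCast _ 4

end Main

/-- **`E7(q)`, `q = 1 mod 8`** -/
theorem nrel_e7_eight (K : Type u) [Field K] [Finite K] {ζ : K} (hζ : IsPrimitiveRoot ζ 8) :
    NRel ↥(chevE7.group K) := by
  have := finite_W hp7 CoxeterMatrix.E₇.toCoxeterSystem
  exact nrel_e7_eight' CoxeterMatrix.E₇.toCoxeterSystem hζ

end Cfsg.Agent.H315.SR
end

-- part: H315/SR/RowE7
section
/-!
# TEAM SR (S4971): the row `E₇(q)` (helper315)

* `nrel_e7` : for every finite field some element of `E₇(q)` is not real: `q` prime to 3 is helper196's instance of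
  helper374's theorem, `q = 3^(2a+1)` is `nrel_e7_of_not_isSquare` (regular unipotent elements), `q = 9^a` is
  `nrel_e7_eight`;
* `rr_e7` : the row.
-/

set_option autoImplicit false

namespace Cfsg.Agent.H315.SR

open Cfsg Cfsg.Lie Cfsg.Agent.H721.SR

universe u

theorem nrel_e7 (F : Type u) [Field F] [Finite F] : NRel ↥(chevE7.group F) := by
  by_cases h3 : 3 ∣ Nat.card F
  · by_cases hs : IsSquare (-1 : F)
    · have := Fintype.ofFinite F
      obtain ⟨p, hpc⟩ := CharP.exists F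
      have hp : Fact p.Prime := ⟨CharP.char_is_prime F p⟩
      obtain ⟨n, -, h2⟩ := FiniteField.card F p
      rw [Nat.card_eq_fintype_card] at h3
      have hp3 : p = 3 := by
        rw [h2] at h3
        exact ((Nat.prime_dvd_prime_iff_eq Nat.prime_three hp.out).1 (Nat.prime_three.dvd_of_dvd_pow h3)).symm
      subst hp3
      have h4 := FiniteField.isSquare_neg_one_iff.1 hs
      have he : Even (n : ℕ) := by
        by_contra ho
        rw [Nat.not_even_iff_odd] at ho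
        obtain ⟨k, hk⟩ := ho
        rw [h2, hk, pow_succ, pow_mul] at h4
        apply h4
        rw [Nat.mul_mod, Nat.pow_mod]
        norm_num
      obtain ⟨k, hk⟩ := he
      have h8 : 8 ∣ Fintype.card F - 1 := by
        rw [h2, hk, ← two_mul, pow_mul]
        have := Nat.sub_dvd_pow_sub_pow 9 1 k
        rw [one_pow] at this
        norm_num only []
        exact this
      obtain ⟨ζ, hζ⟩ : ∃ ζ : F, IsPrimitiveRoot ζ 8 := by
        obtain ⟨g, hg⟩ := IsCyclic.exists_ofOrder_eq_natCard (α := Fˣ)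
        obtain ⟨m, hm⟩ := h8
        have h5 : Nat.card Fˣ = Fintype.card F - 1 := by
          classical
          rw [Nat.card_eq_fintype_card, Fintype.card_units]
        have hm0 : m ≠ 0 := by
          rintro rfl
          have := Fintype.one_lt_card (α := F)
          omega
        refine ⟨((g ^ m : Fˣ) : F), ?_⟩
        rw [IsPrimitiveRoot.coe_units_iff]
        have h6 : orderOf (g ^ m) = 8 := by
          rw [orderOf_pow_of_dvd hm0 (by rw [hg, h5, hm]; exact dvd_mul_left _ _), hg, h5, hm]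
          exact Nat.mul_div_cancel _ (Nat.pos_of_ne_zero hm0)
        rw [← h6]
        exact IsPrimitiveRoot.orderOf _
      exact nrel_e7_eight F hζ
    · exact nrel_e7_of_not_isSquare F hs
  · exact H196.SRX.nrel_e7 h3

/-- `E₇(q)` has non-real elements -/
theorem nrel_isoE7 {S : Type u} [Group S] (h : Cfsg.Lie.IsoE7 S) : NRel S := by
  obtain ⟨F, _, _, ⟨e⟩⟩ := h
  exact (nrel_e7 F).congr e.symm

/-- **The row `E₇(q)`.** -/
theorem rr_e7 {S : Type u} [Group S] (h : Cfsg.Lie.IsoE7 S) : RR S := RR.of_nrel (nrel_isoE7 h)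

end Cfsg.Agent.H315.SR
end

private theorem dce_dfa6c49e1ce4 : _root_.True := by
  try have : _root_.True := by simp only [_root_.Cfsg.Agent.H129.TorusChar.cX.congr_simp]
  try have : _root_.True := by simp only [_root_.Cfsg.Agent.H327.SR.comp.eq_1]
  try have : _root_.True := by simp only [_root_.Cfsg.Agent.H834.SR.tm.eq_1]
  try have : _root_.True := by simp only [_root_.Cfsg.Agent.H327.SR.comp'.eq_1]
  exact _root_.True.intro
end
end
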